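import Cfsg.Agent.Lib.KnownA.OrthMinDeg.Torus

/-!
# Adjacent roots: the braid relation, and no common vector with eigenvalue `-1/q`
-/

set_option autoImplicit false

namespace CfsgLib.KnownA.OrthMinDeg

open QuadraticMap CfsgLib.Geometry CfsgLib.KnownA.CentralChar

variable {F M : Type*} [Field F] [Fintype F] [AddCommGroup M] [Module F M] [Finite M]
  [FiniteDimensional F M]
  {Q : QuadraticForm F M} {V : Type*} [AddCommGroup V] [Module ℂ V] [FiniteDimensional ℂ V]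
  {ρ : Representation ℂ (siegelGroup Q) V}

theorem sg_swap_smul {u v : M} (hu : Q u = 0) (hv : Q v = 0) (h : polar Q u v = 0) (c : F) :
    sg Q u (c • v) = sg Q v (-(c • u)) := by
  rw [← sg_smul_left hu h c, sg_swap (by rw [map_smul', hu, mul_zero]) hv
    (by rw [polar_smul_left', h, mul_zero])]

theorem avA_move {u x u' x' : M} {g : siegelGroup Q} {c : F} (hc : c ≠ 0)
    (h : ∀ s, g * rA Q u x s = rA Q u' x' (c * s) * g) (v : V) :
    ρ g (avA ρ u x v) = avA ρ u' x' (ρ g v) := by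
  simp only [avA, proj_one_apply, map_smul, map_sum, ← rho_mul, h]
  congr 1
  exact Fintype.sum_bijective (fun s => c * s) (Equiv.mulLeft₀ c hc).bijective _ _ fun s => rfl

theorem avA_swap {u x u' x' : M} (h : ∀ s t, Commute (rA Q u x s) (rA Q u' x' t)) (v : V) :
    avA ρ u x (avA ρ u' x' v) = avA ρ u' x' (avA ρ u x v) := by
  simp only [avA, proj_one_apply, map_smul, map_sum, Finset.smul_sum, smul_smul, ← rho_mul,
    fun s t => (h s t).eq]
  rw [Finset.sum_comm]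

/-- The relations of two adjacent roots, as transport rules for the averages. -/
structure Adj (Q : QuadraticForm F M) (e f e' f' e'' f'' : M) : Prop where
  h12 : Two Q e f e' f'
  h23 : Two Q e' f' e'' f''
  h13 : Two Q e f e'' f''

namespace Adj

variable {e f e' f' e'' f'' : M} (h : Adj Q e f e' f' e'' f'')
include h

theorem fix2 (t : F) : (rA Q e' f'' t).1 e = e ∧ (rA Q e' f'' t).1 f'' = f'' :=
  ⟨rA_fix h.h23 t h.h12.ee' h.h13.ef',
    rA_fix h.h23 t h.h23.comm.fe' h.h23.h'.ff⟩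

theorem c1 (s t : F) : Commute (rA Q e f' s) (rA Q e f'' t) := by
  have h1 : polar Q e (s • f') = 0 := by rw [polar_smul_right', h.h12.ef', mul_zero]
  have h2 : polar Q e (t • f'') = 0 := by rw [polar_smul_right', h.h13.ef', mul_zero]
  show rA Q e f' s * rA Q e f'' t = rA Q e f'' t * rA Q e f' s
  rw [rA, rA, ← sg_add h.h12.h.qe h1 h2, ← sg_add h.h12.h.qe h2 h1, add_comm]

theorem c2 (s t : F) : Commute (rA Q e' f'' s) (rA Q e f'' t) :=
  commute_rA (h.fix2 s).1 (h.fix2 s).2 t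

theorem comm12 (s t : F) :
    rA Q e f' s * rA Q e' f'' t = rA Q e f'' (-(s * t)) * rA Q e' f'' t * rA Q e f' s := by
  have hf : (rA Q e f' s).1 f'' = f'' :=
    rA_fix h.h12 s h.h13.comm.fe' h.h23.comm.ff'
  have hy : polar Q e (t • f'') = 0 := by rw [polar_smul_right', h.h13.ef', mul_zero]
  have hy' : polar Q e' (t • f'') = 0 := by rw [polar_smul_right', h.h23.ef', mul_zero]
  have hQ : Q (t • f'') = 0 := by rw [map_smul', h.h23.h'.qf, mul_zero]
  have h1 : rA Q e f' s * rA Q e' f'' t = sg Q (e' + (-s) • e) (t • f'') * rA Q e f' s := by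
    conv_lhs => rw [show rA Q e' f'' t = sg Q e' (t • f'') from rfl, sg_mul_comm, rA_e' h.h12, map_smul, hf]
    rw [neg_smul, ← sub_eq_add_neg]
  rw [h1, sg_add_left h.h12.h.qe h.h12.h'.qe h.h12.ee' hy hy', hQ, mul_zero, zero_smul, sub_zero,
    smul_smul, neg_mul, rA, rA]
  rfl

theorem avA12 {w : V} (hw : ∀ s, ρ (rA Q e f'' s) w = w) :
    avA ρ e f' (avA ρ e' f'' w) = avA ρ e' f'' (avA ρ e f' w) := by
  simp only [avA, proj_one_apply, map_smul, map_sum, Finset.smul_sum, smul_smul]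
  rw [Finset.sum_comm]
  refine Finset.sum_congr rfl fun t _ => Finset.sum_congr rfl fun s _ => ?_
  congr 1
  rw [← rho_mul, h.comm12, mul_assoc, ((h.c2 _ _).symm.mul_right (h.c1 _ _).symm).eq, rho_mul,
    rho_mul, hw]

theorem n1A2 (s : F) : rN Q e f e' f' * rA Q e' f'' s = rA Q e f'' (-s) * rN Q e f e' f' := by
  rw [← mul_inv_eq_iff_eq_mul, rA_conj, rN_e' h.h12,
    rN_perp h.h12 h.h13.ef' h.h13.ff' h.h23.ef' h.h23.ff',
    show (-e) = (-1 : F) • e by module, rA,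
    sg_smul_left h.h12.h.qe (by rw [polar_smul_right', h.h13.ef', mul_zero]), smul_smul, neg_one_mul, rA]

theorem n1A13 (s : F) : rN Q e f e' f' * rA Q e f'' s = rA Q e' f'' s * rN Q e f e' f' := by
  rw [← mul_inv_eq_iff_eq_mul, rA_conj, rN_e h.h12,
    rN_perp h.h12 h.h13.ef' h.h13.ff' h.h23.ef' h.h23.ff']

theorem n2A1 (s : F) : rN Q e' f' e'' f'' * rA Q e f' s = rA Q e f'' s * rN Q e' f' e'' f'' := by
  rw [← mul_inv_eq_iff_eq_mul, rA_conj, rN_f h.h23,
    rN_perp h.h23 h.h12.comm.ee' h.h12.comm.fe' h.h13.comm.ee' h.h13.comm.fe']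

theorem n2A13 (s : F) : rN Q e' f' e'' f'' * rA Q e f'' s = rA Q e f' (-s) * rN Q e' f' e'' f'' := by
  rw [← mul_inv_eq_iff_eq_mul, rA_conj, rN_f' h.h23,
    rN_perp h.h23 h.h12.comm.ee' h.h12.comm.fe' h.h13.comm.ee' h.h13.comm.fe', rA, smul_neg, ← neg_smul, rA]

theorem braid_eq :
    rN Q e f e' f' * rN Q e' f' e'' f'' * rN Q e f e' f' =
      rN Q e' f' e'' f'' * (rN Q e f e' f' * rN Q e' f' e'' f'') := by
  rw [← mul_inv_eq_iff_eq_mul, rN_conj]
  simp only [mul_apply']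
  rw [rN_perp h.h23 h.h12.comm.ee' h.h12.comm.fe' h.h13.comm.ee' h.h13.comm.fe',
    rN_perp h.h23 h.h12.comm.ef' h.h12.comm.ff' h.h13.comm.ef' h.h13.comm.ff', rN_e h.h12, rN_f h.h12,
    rN_e h.h23, rN_f h.h23, rN_perp h.h12 h.h13.ee' h.h13.fe' h.h23.ee' h.h23.fe',
    rN_perp h.h12 h.h13.ef' h.h13.ff' h.h23.ef' h.h23.ff']

theorem move_n1A2 (v : V) : ρ (rN Q e f e' f') (avA ρ e' f'' v) = avA ρ e f'' (ρ (rN Q e f e' f') v) :=
  avA_move (c := -1) (neg_ne_zero.mpr one_ne_zero) (fun s => by rw [neg_one_mul]; exact h.n1A2 s) v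

theorem move_n1A13 (v : V) : ρ (rN Q e f e' f') (avA ρ e f'' v) = avA ρ e' f'' (ρ (rN Q e f e' f') v) :=
  avA_move (c := 1) one_ne_zero (fun s => by rw [one_mul]; exact h.n1A13 s) v

theorem move_n2A1 (v : V) :
    ρ (rN Q e' f' e'' f'') (avA ρ e f' v) = avA ρ e f'' (ρ (rN Q e' f' e'' f'') v) :=
  avA_move (c := 1) one_ne_zero (fun s => by rw [one_mul]; exact h.n2A1 s) v

theorem move_n2A13 (v : V) :
    ρ (rN Q e' f' e'' f'') (avA ρ e f'' v) = avA ρ e f' (ρ (rN Q e' f' e'' f'') v) :=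
  avA_move (c := -1) (neg_ne_zero.mpr one_ne_zero) (fun s => by rw [neg_one_mul]; exact h.n2A13 s) v

/-- The braid relation of the Hecke operators. -/
theorem braid (x : V) :
    Top ρ e f e' f' (Top ρ e' f' e'' f'' (Top ρ e f e' f' x)) =
      Top ρ e' f' e'' f'' (Top ρ e f e' f' (Top ρ e' f' e'' f'' x)) := by
  simp only [Top, LinearMap.comp_apply]
  set n1 := rN Q e f e' f' with hn1
  set n2 := rN Q e' f' e'' f'' with hn2
  have L : avA ρ e f' (ρ n1 (avA ρ e' f'' (ρ n2 (avA ρ e f' (ρ n1 x))))) =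
      avA ρ e f' (avA ρ e' f'' (avA ρ e f'' (ρ n1 (ρ n2 (ρ n1 x))))) := by
    rw [h.move_n2A1, avA_swap (fun s t => h.c2 s t), h.move_n1A13, h.move_n1A2]
  have R : avA ρ e' f'' (ρ n2 (avA ρ e f' (ρ n1 (avA ρ e' f'' (ρ n2 x))))) =
      avA ρ e' f'' (avA ρ e f' (avA ρ e f'' (ρ n2 (ρ n1 (ρ n2 x))))) := by
    rw [h.move_n1A2, avA_swap (fun s t => h.c1 s t), h.move_n2A13, h.move_n2A1]
  rw [L, R, ← rho_mul, ← rho_mul, hn1, hn2, h.braid_eq, rho_mul, rho_mul]
  exact h.avA12 fun s => avA_mem h.h13 _ s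

end Adj

namespace Mod

variable {Φ : Frame Q} {X : Submodule ℂ V} (hM : Mod ρ Φ X)
include hM

theorem no_common {i : ℕ} (hi : i + 2 < Φ.m) {a : V} (ha : a ∈ Cs ρ Φ X)
    (hh : ∀ k, k + 1 < Φ.m → ∀ c : F, c ≠ 0 → ρ (Φ.h k c) a = a)
    (h1 : (Fintype.card F : ℂ) • Φ.T ρ i a = -a)
    (h2 : (Fintype.card F : ℂ) • Φ.T ρ (i + 1) a = -a) : a = 0 := by
  have hd := Φ.two (show i + 1 < Φ.m by omega)
  have hd' := Φ.two (show i + 1 + 1 < Φ.m by omega)
  have h13 := Φ.orth i (by omega) (i + 2) hi (by omega)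
  have A : Adj Q (Φ.e i) (Φ.f i) (Φ.e (i + 1)) (Φ.f (i + 1)) (Φ.e (i + 2)) (Φ.f (i + 2)) :=
    ⟨hd, hd', h13⟩
  have hneg : (-1 : F) ≠ 0 := neg_ne_zero.mpr one_ne_zero
  set e := Φ.e i
  set f := Φ.f i
  set e' := Φ.e (i + 1)
  set f' := Φ.f (i + 1)
  set e'' := Φ.e (i + 2)
  set f'' := Φ.f (i + 2)
  set n1 := rN Q e f e' f' with hn1
  set n2 := rN Q e' f' e'' f'' with hn2
  set q : ℂ := (Fintype.card F : ℂ) with hq
  have hq0 : q ≠ 0 := Nat.cast_ne_zero.mpr Fintype.card_ne_zero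
  have t1 : avA ρ e f' (ρ n1 a) = (-q⁻¹) • a := by
    have h' : q • avA ρ e f' (ρ n1 a) = -a := h1
    rw [neg_smul, ← smul_neg, ← h', inv_smul_smul₀ hq0]
  have t2 : avA ρ e' f'' (ρ n2 a) = (-q⁻¹) • a := by
    have h' : q • avA ρ e' f'' (ρ n2 a) = -a := h2
    rw [neg_smul, ← smul_neg, ← h', inv_smul_smul₀ hq0]
  have n1n1 : ρ n1 (ρ n1 a) = a := by
    rw [← rho_mul, hn1, rN_sq hd]; exact hh i (by omega) _ hneg
  have n2n2 : ρ n2 (ρ n2 a) = a := by
    rw [← rho_mul, hn2, rN_sq hd']; exact hh (i + 1) (by omega) _ hneg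
  have inv1 : ρ n1⁻¹ a = ρ n1 a := by
    conv_lhs => rw [← n1n1]
    rw [rho_inv_self]
  have inv2 : ρ n2⁻¹ a = ρ n2 a := by
    conv_lhs => rw [← n2n2]
    rw [rho_inv_self]
  have inv12 : ρ n1⁻¹ (ρ n2 a) = ρ n1 (ρ n2 a) := by
    have hk : ρ n1 (ρ n1 (ρ n2 a)) = ρ n2 a := by
      rw [← rho_mul, hn1, rN_sq hd, ← rho_mul]
      have := Φ.n_inv_h (i := i + 1) (k := i) (by omega) (by omega) hneg
      rw [if_neg (by omega), if_neg (by omega), if_pos rfl] at this
      show ρ (Φ.h i (-1) * Φ.n (i + 1)) a = ρ n2 a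
      rw [this, rho_mul, rho_mul, hh (i + 1) (by omega) _ hneg, hh i (by omega) _ hneg]
      rfl
    conv_lhs => rw [← hk]
    rw [rho_inv_self]
  have inv21 : ρ n2⁻¹ (ρ n1 a) = ρ n2 (ρ n1 a) := by
    have hk : ρ n2 (ρ n2 (ρ n1 a)) = ρ n1 a := by
      rw [← rho_mul, hn2, rN_sq hd', ← rho_mul]
      have := Φ.n_inv_h (i := i) (k := i + 1) (by omega) (by omega) hneg
      rw [if_neg (by omega), if_pos rfl] at this
      show ρ (Φ.h (i + 1) (-1) * Φ.n i) a = ρ n1 a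
      rw [this, rho_mul, rho_mul, hh (i + 1) (by omega) _ hneg, hh i (by omega) _ hneg]
      rfl
    conv_lhs => rw [← hk]
    rw [rho_inv_self]
  have fix1 : ∀ s, ρ (rA Q e f' s) a = a := fun s => hM.fix_e ha (by omega)
    (Submodule.smul_mem _ s (Φ.pair_mem_lev (Nat.le_succ i) (show i + 1 < Φ.m by omega)).2)
    (by rw [polar_smul_right', hd.ef', mul_zero])
  have fix2 : ∀ s, ρ (rA Q e' f'' s) a = a := fun s => hM.fix_e ha (by omega)
    (Submodule.smul_mem _ s (Φ.pair_mem_lev (show i + 1 ≤ i + 2 by omega) hi).2)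
    (by rw [polar_smul_right', hd'.ef', mul_zero])
  -- the vector `y0` and its averages
  set y0 := avA ρ e f'' (ρ n1 (ρ n2 (ρ n1 a))) with hy0
  have hbr : ρ n1 (ρ n2 (ρ n1 a)) = ρ n2 (ρ n1 (ρ n2 a)) := by
    rw [← rho_mul, ← rho_mul, hn1, hn2, A.braid_eq, rho_mul, rho_mul]
  have hy2 : avA ρ e' f'' y0 = (q⁻¹ * q⁻¹) • ρ n1 a := by
    rw [hy0, avA_swap A.c2, ← A.move_n1A13, ← A.move_n2A1, t1]
    simp only [LinearMap.map_smul]
    rw [← A.move_n1A2, t2, LinearMap.map_smul, smul_smul, neg_mul_neg]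
  have hy1 : avA ρ e f' y0 = (q⁻¹ * q⁻¹) • ρ n2 a := by
    rw [hy0, hbr, avA_swap A.c1, ← A.move_n2A13, ← A.move_n1A2, t2]
    simp only [LinearMap.map_smul]
    rw [← A.move_n2A1, t1, LinearMap.map_smul, smul_smul, neg_mul_neg]
  have hy12 : avA ρ e f' (avA ρ e' f'' y0) = (-(q⁻¹ * q⁻¹ * q⁻¹)) • a := by
    rw [hy2, LinearMap.map_smul, t1, smul_smul, mul_neg]
  -- the combination killed by both averages
  have hy0fix : ∀ s, ρ (rA Q e f'' s) y0 = y0 := fun s => avA_mem h13 _ s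
  have ha2fix : ∀ s, ρ (rA Q e f'' s) (avA ρ e' f'' y0) = avA ρ e' f'' y0 := fun s => by
    rw [avA_comm fun t => (A.c2 t s).symm, hy0fix]
  have hG := hM.goodk (k := i) (by omega)
  have hmemlev : ∀ {u}, u ∈ Φ.lev (i + 1) → u ∈ Φ.lev i := fun hu => Φ.lev_mono (Nat.le_succ i) hu
  obtain ⟨hei, hfi⟩ := Φ.pair_mem_lev (k := i) le_rfl (show i < Φ.m by omega)
  obtain ⟨he', hf'⟩ := Φ.pair_mem_lev (k := i + 1) le_rfl (show i + 1 < Φ.m by omega)
  obtain ⟨he'', hf''⟩ := Φ.pair_mem_lev (k := i + 1) (show i + 1 ≤ i + 2 by omega) hi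
  have hn1mem : n1 ∈ SH Q (Φ.lev i) := rN_mem hei hfi (hmemlev he') (hmemlev hf')
  have hn2mem : n2 ∈ SH Q (Φ.lev i) := rN_mem (hmemlev he') (hmemlev hf') (hmemlev he'') (hmemlev hf'')
  have stavA : ∀ u x, u ∈ Φ.lev i → x ∈ Φ.lev i → ∀ w ∈ Xk ρ Φ X i, avA ρ u x w ∈ Xk ρ Φ X i := by
    intro u x hu hx w hw
    rw [avA, proj_one_apply]
    exact Submodule.smul_mem _ _ (Submodule.sum_mem _ fun s _ => hG.stb _ (rA_mem hu hx s) _ hw)
  have hy0X : y0 ∈ Xk ρ Φ X i := stavA _ _ hei (hmemlev hf'') _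
    (hG.stb _ hn1mem _ (hG.stb _ hn2mem _ (hG.stb _ hn1mem _ (hM.mem_X ha i (by omega)))))
  have hlow0 : hM.LowFix i y0 := by
    intro z hz hz'
    set c'' := polar Q z e'' with hc''
    set z0 := z - c'' • f'' with hz0
    have hz0m : z0 ∈ Φ.lev (i + 1) := sub_mem hz (Submodule.smul_mem _ _ hf'')
    have hz0e' : polar Q e' z0 = 0 := by
      rw [hz0, polar_sub_right, hz', polar_smul_right', hd'.ef', mul_zero, sub_zero]
    have hz0e'' : polar Q e'' z0 = 0 := by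
      rw [hz0, polar_sub_right, polar_smul_right', hd'.h'.pol, hc'', polar_comm Q z e'']; ring
    have hze : polar Q e z0 = 0 := (mem_perp2.mp hz0m).2.1
    have hsp : polar Q e (c'' • f'') = 0 := by rw [polar_smul_right', h13.ef', mul_zero]
    rw [show z = z0 + c'' • f'' by rw [hz0, sub_add_cancel], sg_add hd.h.qe hze hsp, rho_mul]
    rw [show sg Q e (c'' • f'') = rA Q e f'' c'' from rfl, hy0fix, hy0]
    rw [avA_comm fun s => show Commute (sg Q e z0) (rA Q e f'' s) by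
      have h2 : polar Q e (s • f'') = 0 := by rw [polar_smul_right', h13.ef', mul_zero]
      show _ = _
      rw [rA, ← sg_add hd.h.qe hze h2, ← sg_add hd.h.qe h2 hze, add_comm]]
    congr 1
    set c := polar Q z0 f' with hc
    set b := polar Q z0 f'' with hb
    set r3 := z0 - c • e' - b • e'' with hr3
    have hr2 : z0 - c • e' ∈ Φ.lev (i + 2) := by
      have := decomp_mem hd.h' he' hf' hz0m
      rwa [polar_comm Q z0 e', hz0e', zero_smul, sub_zero] at this
    obtain ⟨he2, hf2⟩ := Φ.pair_mem_lev (k := i + 2) le_rfl hi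
    have hr3m : r3 ∈ Φ.lev (i + 3) := by
      have := decomp_mem (Φ.hyp (i + 2) hi) he2 hf2 hr2
      rw [show polar Q (z0 - c • e') e'' = 0 by
        rw [polar_sub_left, polar_smul_left', polar_comm Q z0, hz0e'', hd'.ee']; ring,
        show polar Q (z0 - c • e') f'' = b by
        rw [polar_sub_left, polar_smul_left', hd'.ef', mul_zero, sub_zero],
        zero_smul, sub_zero] at this
      exact this
    obtain ⟨-, hr⟩ := (Φ.mem_lev _).mp hr3m
    obtain ⟨r1, r1'⟩ := hr i (by omega)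
    obtain ⟨r2, r2'⟩ := hr (i + 1) (by omega)
    obtain ⟨r4, r4'⟩ := hr (i + 2) (by omega)
    have hge : ((n1 * n2 * n1)⁻¹).1 e = e'' := by
      rw [mul_inv_rev, mul_inv_rev, mul_apply', mul_apply', hn1, hn2, rN_inv_e hd, map_neg, rN_inv_e hd',
        neg_neg, rN_inv_perp hd h13.ee' h13.fe' hd'.ee' hd'.fe']
    have hgz : ((n1 * n2 * n1)⁻¹).1 z0 = r3 + (-c) • e' + b • e := by
      rw [show z0 = r3 + c • e' + b • e'' by rw [hr3]; module, map_add, map_add, map_smul, map_smul,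
        mul_inv_rev, mul_inv_rev]
      simp only [mul_apply', hn1, hn2]
      rw [rN_inv_perp hd r1 r1' r2 r2', rN_inv_perp hd' r2 r2' r4 r4', rN_inv_perp hd r1 r1' r2 r2',
        rN_inv_e' hd, rN_inv_perp hd' hd.comm.ee' hd.comm.fe' h13.comm.ee' h13.comm.fe', rN_inv_e hd,
        rN_inv_perp hd h13.ee' h13.fe' hd'.ee' hd'.fe', rN_inv_e' hd', rN_inv_e' hd]
      module
    have key : ρ (sg Q e'' (r3 + (-c) • e' + b • e)) a = a := by
      have p1 : polar Q e'' r3 = 0 := r4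
      have p2 : polar Q e'' ((-c) • e') = 0 := by rw [polar_smul_right', hd'.comm.ee', mul_zero]
      have p3 : polar Q e'' (b • e) = 0 := by rw [polar_smul_right', h13.comm.ee', mul_zero]
      rw [sg_add hd'.h'.qe (by rw [polar_add_right, p1, p2, add_zero]) p3, sg_add hd'.h'.qe p1 p2,
        rho_mul, rho_mul, sg_swap_smul hd'.h'.qe hd.h.qe h13.comm.ee',
        sg_swap_smul hd'.h'.qe hd'.h.qe hd'.comm.ee']
      rw [hM.fix_e ha (by omega) (neg_mem (Submodule.smul_mem _ b (hmemlev he'')))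
          (by rw [polar_neg_right, polar_smul_right', h13.ee', mul_zero, neg_zero]),
        hM.fix_e ha (by omega) (neg_mem (Submodule.smul_mem _ _ he''))
          (by rw [polar_neg_right, polar_smul_right', hd'.ee', mul_zero, neg_zero]),
        hM.fix_e ha hi (Φ.lev_mono (show i + 2 ≤ i + 3 by omega) hr3m) r4]
    simp only [← rho_mul, ← mul_assoc]
    rw [mul_assoc (sg Q e z0), mul_assoc (sg Q e z0)]
    rw [mul_sg, rho_mul, hge, hgz, key]
  have hlowmove : ∀ g, g ∈ SH Q (Φ.lev i) → g.1 e = e → g.1 e' = e' → g.1 f = f →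
      ∀ w, hM.LowFix i w → hM.LowFix i (ρ g w) := by
    intro g hg hge hge' hgf w hw z hz hz'
    obtain ⟨hzH, hz1, hz2⟩ := mem_perp2.mp hz
    rw [← rho_mul, mul_sg, inv_apply_eq hge, rho_mul, hw ((g⁻¹).1 z) (mem_perp2.mpr
      ⟨(SH_props hg).2.1 z hzH, by rw [← polar' g, hge, apply_inv_self]; exact hz1,
        by rw [← polar' g, hgf, apply_inv_self]; exact hz2⟩)
      (by rw [← polar' g, hge', apply_inv_self]; exact hz')]
  have hlowA : ∀ w, hM.LowFix i w → hM.LowFix i (avA ρ e' f'' w) := by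
    intro w hw z hz hz'
    simp only [avA, proj_one_apply, map_smul, map_sum]
    congr 1
    refine Finset.sum_congr rfl fun t _ => ?_
    exact hlowmove _ (rA_mem (hmemlev he') (hmemlev hf'') t) (A.fix2 t).1
      (rA_fix hd' t hd'.h.ee hd'.ef') (rA_fix hd' t hd.fe' h13.ff') w hw z hz hz'
  have hlowA1 : ∀ w, hM.LowFix i w → hM.LowFix i (avA ρ e f' w) := by
    intro w hw z hz hz'
    rw [avA_comm fun s => show Commute (sg Q e z) (rA Q e f' s) by
      have h2 : polar Q e (s • f') = 0 := by rw [polar_smul_right', hd.ef', mul_zero]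
      show _ = _
      rw [rA, ← sg_add hd.h.qe (mem_perp2.mp hz).2.1 h2, ← sg_add hd.h.qe h2 (mem_perp2.mp hz).2.1,
        add_comm], hw z hz hz']
  have hy : y0 = (q⁻¹ * q⁻¹) • ρ n2 a + (q⁻¹ * q⁻¹) • ρ n1 a + (q⁻¹ * q⁻¹ * q⁻¹) • a := by
    have hz : y0 - avA ρ e f' y0 - avA ρ e' f'' y0 + avA ρ e f' (avA ρ e' f'' y0) = 0 := by
      refine hM.vanish (i := i) (j := i + 1) (by omega) (by omega) ?_ ?_ ?_ ?_
      · exact add_mem (sub_mem (sub_mem hy0X (stavA _ _ hei (hmemlev hf') _ hy0X))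
          (stavA _ _ (hmemlev he') (hmemlev hf'') _ hy0X))
          (stavA _ _ hei (hmemlev hf') _ (stavA _ _ (hmemlev he') (hmemlev hf'') _ hy0X))
      · intro z hz hz'
        simp only [map_add, map_sub, hlow0 z hz hz', hlowA1 _ hlow0 z hz hz', hlowA _ hlow0 z hz hz',
          hlowA1 _ (hlowA _ hlow0) z hz hz']
      · rw [map_add, map_sub, map_sub, avA_idem hd, avA_idem hd]
        module
      · show avA ρ e' f'' _ = 0
        rw [map_add, map_sub, map_sub, ← A.avA12 hy0fix, avA_idem hd', ← A.avA12 ha2fix, avA_idem hd']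
        module
    rw [hy1, hy12, hy2] at hz
    linear_combination (norm := module) hz
  -- the two equations
  set v := ρ n2 (ρ n1 a) with hv
  set v' := ρ n1 (ρ n2 a) with hv'
  have E1 : avA ρ e' f'' v = (q⁻¹ * q⁻¹) • v' + (q⁻¹ * q⁻¹) • a + (q⁻¹ * q⁻¹ * q⁻¹) • ρ n1 a := by
    have h0 : ρ n1 (avA ρ e' f'' v) = y0 := A.move_n1A2 _
    rw [← rho_inv_self ρ n1 (avA ρ e' f'' v), h0, hy]
    simp only [map_add, LinearMap.map_smul, inv12, inv1, rho_inv_self]
  have E2 : avA ρ e f' v' = (q⁻¹ * q⁻¹) • a + (q⁻¹ * q⁻¹) • v + (q⁻¹ * q⁻¹ * q⁻¹) • ρ n2 a := by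
    have h0 : ρ n2 (avA ρ e f' v') = y0 := by rw [A.move_n2A1, hy0, hbr]
    rw [← rho_inv_self ρ n2 (avA ρ e f' v'), h0, hy]
    simp only [map_add, LinearMap.map_smul, inv21, inv2, rho_inv_self]
  have hv1 : ∀ s, ρ (rA Q e f' s) v = v := fun s => by
    have k1 := A.n2A13 (-s)
    rw [neg_neg] at k1
    have k2 : rA Q e f' s * (n2 * n1) = n2 * n1 * rA Q e' f'' s := by
      rw [← mul_assoc, hn2, hn1, ← k1, mul_assoc, mul_assoc]
      congr 1
      exact (A.n1A2 s).symm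
    rw [hv, ← rho_mul ρ n2 n1, ← rho_mul, k2, rho_mul, fix2]
  have hv13 : avA ρ e f'' v = (-q⁻¹) • ρ n2 a := by
    rw [hv, ← A.move_n2A1, t1, LinearMap.map_smul]
  have E3 : avA ρ e f' (avA ρ e' f'' v) = q⁻¹ • v + (q⁻¹ * q⁻¹) • a + (q⁻¹ * q⁻¹) • ρ n2 a := by
    classical
    set w := avA ρ e f'' v with hw
    have hterm : ∀ s t, ρ (rA Q e f' s) (ρ (rA Q e' f'' t) v) =
        ρ (rA Q e' f'' t) (ρ (rA Q e f'' (-(s * t))) v) := fun s t => by
      rw [← rho_mul, A.comm12, rho_mul, hv1, ← (A.c2 t (-(s * t))).eq, rho_mul]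
    have hinner : ∀ t, ∑ s, ρ (rA Q e f'' (-(s * t))) v = if t = 0 then q • v else q • w := fun t => by
      split_ifs with ht
      · subst ht
        simp only [mul_zero, neg_zero, rA_zero, rho_one, Finset.sum_const, Finset.card_univ, hq,
          Nat.cast_smul_eq_nsmul]
      · rw [hw, avA, proj_one_apply, smul_smul, mul_inv_cancel₀ hq0, one_smul]
        refine Fintype.sum_bijective (fun s => -(s * t)) ?_ _ _ fun s => rfl
        exact (Finite.injective_iff_bijective).mp fun s s' hs =>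
          mul_right_cancel₀ ht (neg_injective hs)
    have hsum : ∑ t, ∑ s, ρ (rA Q e f' s) (ρ (rA Q e' f'' t) v) =
        q • v + q • (q • avA ρ e' f'' w - w) := by
      simp only [hterm, ← map_sum, hinner]
      rw [← Finset.add_sum_erase _ _ (Finset.mem_univ (0 : F)), if_pos rfl, rA_zero, rho_one]
      congr 1
      rw [Finset.sum_congr rfl fun t ht => by rw [if_neg (Finset.ne_of_mem_erase ht), LinearMap.map_smul],
        ← Finset.smul_sum, Finset.sum_erase_eq_sub (Finset.mem_univ (0 : F)), rA_zero, rho_one]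
      congr 2
      rw [avA, proj_one_apply, smul_smul, mul_inv_cancel₀ hq0, one_smul]
    have hlhs : avA ρ e f' (avA ρ e' f'' v) =
        (q⁻¹ * q⁻¹) • ∑ t, ∑ s, ρ (rA Q e f' s) (ρ (rA Q e' f'' t) v) := by
      simp only [avA, proj_one_apply, map_smul, map_sum, Finset.smul_sum, smul_smul, ← hq]
    rw [hlhs, hsum, hv13, LinearMap.map_smul, t2]
    match_scalars <;> field_simp <;> ring
  rw [E1, map_add, map_add, LinearMap.map_smul, LinearMap.map_smul, LinearMap.map_smul, E2,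
    avA_fixed fix1, t1] at E3
  have hq1 : q * q * q - 1 ≠ 0 := by
    rw [hq, sub_ne_zero]
    have h2 : 2 ≤ Fintype.card F := Fintype.one_lt_card
    norm_cast
    nlinarith [Nat.mul_le_mul h2 h2]
  have h4 : (q * q * q - 1) • (q • v + ρ n2 a) = 0 := by
    have h5 := congrArg (fun z => (q * q * q * q * q) • z) (sub_eq_zero.mpr E3.symm)
    simp only [smul_zero] at h5
    rw [← h5]
    match_scalars <;> field_simp <;> ring
  have h5 : q • ρ n1 a + a = 0 := rho_injective ρ n2 (by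
    rw [map_add, LinearMap.map_smul, map_zero]; exact (smul_eq_zero.mp h4).resolve_left hq1)
  have h6 : q • a + ρ n1 a = 0 := by
    have := congrArg (ρ n1) h5
    rwa [map_add, LinearMap.map_smul, map_zero, n1n1] at this
  have hq2 : q * q - 1 ≠ 0 := by
    rw [hq, sub_ne_zero]
    have h2 : 2 ≤ Fintype.card F := Fintype.one_lt_card
    norm_cast
    nlinarith [Nat.mul_le_mul h2 h2]
  have h7 : (q * q - 1) • a = 0 := by
    linear_combination (norm := module) q • h6 - h5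
  exact (smul_eq_zero.mp h7).resolve_left hq2

end Mod

end CfsgLib.KnownA.OrthMinDeg
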