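import Cfsg.Agent.Lib.KnownA.OrthMinDeg.Count

/-!
# A non-singular weight moves the fixed space of a radical
-/

set_option autoImplicit false

namespace CfsgLib.KnownA.OrthMinDeg

open QuadraticMap CfsgLib.Geometry CfsgLib.KnownA.CentralChar

variable {F M : Type*} [Field F] [Fintype F] [AddCommGroup M] [Module F M] [Finite M]
  [FiniteDimensional F M]
  {Q : QuadraticForm F M} {V : Type*} [AddCommGroup V] [Module ℂ V] [FiniteDimensional ℂ V]
  {ρ : Representation ℂ (siegelGroup Q) V}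

namespace Frame

variable (Φ : Frame Q) {X : Submodule ℂ V}

/-- If only non-singular weights occur, one of them simply, the first fixed space is moved. -/
theorem moved_Xk_one (hm : 4 ≤ Φ.m) (hX : Stb ρ X Φ.H)
    (hsing : ∀ e f D, Hyp Q e f → e ∈ Φ.H → f ∈ Φ.H → D ∈ perp2 Q Φ.H e f → D ≠ 0 → Q D = 0 →
      wsp ρ X Φ.H e f D = ⊥)
    {d : M} (hd : d ∈ Φ.lev Φ.m) {x0 : M} (hx0 : x0 ∈ Φ.lev Φ.m) (hdx : polar Q d x0 = 1)
    (hone : Module.finrank ℂ (wsp ρ X Φ.H (Φ.e 1) (Φ.f 1) d) = 1) :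
    Moved ρ (Xk ρ Φ X 1) (Φ.lev 1) := by
  classical
  have h01 := Φ.orth 0 (by omega) 1 (show 1 < Φ.m by omega) (by omega)
  obtain ⟨hE, hF⟩ := Φ.mem 0 (by omega)
  obtain ⟨he, hf⟩ := Φ.mem 1 (by omega)
  set E := Φ.e 0
  set G := Φ.f 0
  set e := Φ.e 1
  set f := Φ.f 1
  have hyp := Φ.hyp 1 (show 1 < Φ.m by omega)
  have hA : perp2 Q Φ.H e f = perp2 Q Φ.H (Φ.e 1) (Φ.f 1) := rfl
  have hdl : ∀ {z}, z ∈ Φ.lev 2 → z ∈ perp2 Q Φ.H e f := fun {z} hz => by
    obtain ⟨hzH, hzp⟩ := (Φ.mem_lev _).mp hz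
    exact mem_perp2.mpr ⟨hzH, hzp 1 (by omega)⟩
  have hlev2 : ∀ {z}, z ∈ Φ.lev 2 → polar Q E z = 0 ∧ polar Q G z = 0 ∧ polar Q e z = 0 ∧ polar Q f z = 0 :=
    fun {z} hz => by
    obtain ⟨-, hzp⟩ := (Φ.mem_lev _).mp hz
    exact ⟨(hzp 0 (by omega)).1, (hzp 0 (by omega)).2, (hzp 1 (by omega)).1, (hzp 1 (by omega)).2⟩
  have hd2 : d ∈ Φ.lev 2 := Φ.lev_mono (by omega) hd
  have hx2 : x0 ∈ Φ.lev 2 := Φ.lev_mono (by omega) hx0
  obtain ⟨dE, dG, de, df⟩ := hlev2 hd2
  obtain ⟨xE, xG, xe, xf⟩ := hlev2 hx2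
  obtain ⟨-, hdp⟩ := (Φ.mem_lev _).mp hd
  set L := wsp ρ X Φ.H e f d with hL
  obtain ⟨y, hy, hy0⟩ : ∃ y ∈ L, y ≠ 0 := Submodule.exists_mem_ne_zero_of_ne_bot
    (fun h => by
      have h1 : Module.finrank ℂ L = 1 := hone
      rw [h, finrank_bot] at h1; exact zero_ne_one h1)
  obtain ⟨hyX, hyw⟩ := (mem_wsp ρ).mp hy
  have hstab : ∀ g ∈ SH Q Φ.H, g.1 e = e → g.1 f = f → g.1 d = d → Stable ρ L g := by
    intro g hg h1 h2 h3 v hv
    have h4 := wsp_move_one hX hg hyp.qe h1 h2 hv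
    rwa [h3] at h4
  -- the translations of `E` orthogonal to `d`
  have hcomm : ∀ u z1 w, u ∈ Φ.lev 2 → z1 ∈ Φ.lev 2 → w ∈ Φ.lev 2 → Q u = 0 → polar Q u z1 = 0 →
      polar Q d u = 0 → polar Q d z1 = 0 → polar Q d w = 0 →
      ρ (sg Q E ((sg Q u z1).1 w - w)) y = y := by
    intro u z1 w hu hz hw hqu huz hdu hdz hdw
    obtain ⟨uE, uG, ue, uf⟩ := hlev2 hu
    obtain ⟨zE, zG, ze, zf⟩ := hlev2 hz
    obtain ⟨wE, wG, we, wf⟩ := hlev2 hw
    set g := sg Q u z1 with hg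
    have hgm : g ∈ SH Q (Φ.lev 2) := sg_mem_SH hu hz
    have hgE : g.1 E = E := sg_fix_pair hqu huz uE zE
    set w' := g.1 w with hw'
    have hw'm : w' ∈ Φ.lev 2 := SH_map hgm hw
    obtain ⟨w'E, -, w'e, w'f⟩ := hlev2 hw'm
    have hdw' : polar Q d w' = 0 := by
      rw [hw', ← sg_fix_pair hqu huz hdu hdz, polar', hdw]
    have st : ∀ z, z ∈ Φ.lev 2 → polar Q d z = 0 → Stable ρ L (sg Q E z) := fun z hz hdz => by
      obtain ⟨zE, -, ze, zf⟩ := hlev2 hz
      exact hstab _ (sg_mem_SH hE (Φ.lev_le _ hz))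
        (sg_fix_pair h01.h.qe zE (by rw [polar_comm]; exact h01.ee') ze)
        (sg_fix_pair h01.h.qe zE (by rw [polar_comm]; exact h01.ef') zf)
        (sg_fix_pair h01.h.qe zE (by rw [polar_comm]; exact dE) hdz)
    have h1 := eq_on_line (show Module.finrank ℂ L ≤ 1 from le_of_eq hone) hy
      (hstab g (SH_mono (Φ.lev_le 2) hgm) (sg_fix_pair hqu huz ue ze) (sg_fix_pair hqu huz uf zf)
        (sg_fix_pair hqu huz hdu hdz))
      (st w hw hdw) (st w' hw'm hdw') (by rw [sg_mul_comm, hgE])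
    have h2 : polar Q E (w' - w) = 0 := by rw [polar_sub_right, w'E, wE, sub_zero]
    have h3 : ρ (sg Q E w') y = ρ (sg Q E w) (ρ (sg Q E (w' - w)) y) := by
      rw [← rho_mul, ← sg_add h01.h.qe wE h2, add_sub_cancel]
    rw [h3] at h1
    exact rho_injective ρ _ h1
  have hfixd : ∀ z ∈ Φ.lev 2, polar Q d z = 0 → ρ (sg Q E z) y = y := by
    intro z hz hdz
    have h2 := Φ.hyp 2 (show 2 < Φ.m by omega)
    have h23 := Φ.orth 2 (by omega) (2 + 1) (show 2 + 1 < Φ.m by omega) (by omega)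
    obtain ⟨he2, hf2⟩ := Φ.pair_mem_lev (k := 2) le_rfl (show 2 < Φ.m by omega)
    obtain ⟨he3, hf3⟩ := Φ.pair_mem_lev (k := 2) (show 2 ≤ 2 + 1 by omega) (show 2 + 1 < Φ.m by omega)
    have dd : ∀ i, i < Φ.m → polar Q d (Φ.e i) = 0 ∧ polar Q d (Φ.f i) = 0 := fun i hi =>
      ⟨by rw [polar_comm]; exact (hdp i hi).1, by rw [polar_comm]; exact (hdp i hi).2⟩
    have hsing2 : ∀ u, u ∈ Φ.lev 2 → Q u = 0 → polar Q d u = 0 → polar Q u (Φ.e (2 + 1)) = 0 →
        polar Q u (Φ.f (2 + 1)) = 0 → ∀ s : F, ρ (sg Q E (s • u)) y = y := by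
      intro u hu hqu hdu hu3 hu3' s
      have := hcomm u ((-s) • Φ.e (2 + 1)) (Φ.f (2 + 1)) hu (Submodule.smul_mem _ _ he3) hf3 hqu
        (by rw [polar_smul_right', hu3, mul_zero]) hdu
        (by rw [polar_smul_right', (dd _ (by omega)).1, mul_zero]) (dd _ (by omega)).2
      rwa [sg_apply hqu (by rw [polar_smul_right', hu3, mul_zero]), polar_comm Q (Φ.f (2 + 1)) u, hu3',
        polar_smul_right', h23.h'.pol', map_smul', h23.h'.qe,
        show Φ.f (2 + 1) + (0 : F) • ((-s) • Φ.e (2 + 1)) - ((-s) * 1) • u -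
          ((-s) * (-s) * 0 * 0) • u - Φ.f (2 + 1) = s • u by module] at this
    set r := z - polar Q z (Φ.f 2) • Φ.e 2 - polar Q z (Φ.e 2) • Φ.f 2 with hr
    have hrm : r ∈ Φ.lev 3 := decomp_mem h2 he2 hf2 hz
    have hrd : polar Q d r = 0 := by
      rw [hr, polar_sub_right, polar_sub_right, polar_smul_right', polar_smul_right', hdz,
        (dd 2 (by omega)).1, (dd 2 (by omega)).2]
      ring
    obtain ⟨-, hrp⟩ := (Φ.mem_lev _).mp hrm
    obtain ⟨r2, r2'⟩ := hrp 2 (by omega)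
    have hrfix : ρ (sg Q E (r - Q r • Φ.e 2)) y = y := by
      have := hcomm (Φ.e 2) r (Φ.f 2) he2 (Φ.lev_mono (by omega) hrm) hf2 h2.qe r2
        (dd 2 (by omega)).1 hrd (dd 2 (by omega)).2
      rwa [sg_apply h2.qe r2, h2.pol', r2',
        show Φ.f 2 + (1 : F) • r - (0 : F) • Φ.e 2 - (Q r * 1) • Φ.e 2 - Φ.f 2 = r - Q r • Φ.e 2 by
          module] at this
    have he2fix := hsing2 _ he2 h2.qe (dd 2 (by omega)).1 h23.ee' h23.ef' (Q r + polar Q z (Φ.f 2))
    have hf2fix := hsing2 _ hf2 h2.qf (dd 2 (by omega)).2 h23.fe' h23.ff' (polar Q z (Φ.e 2))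
    have hp : ∀ {w}, w ∈ Φ.lev 2 → polar Q E w = 0 := fun hw => (hlev2 hw).1
    have hzeq : z = (r - Q r • Φ.e 2) + (Q r + polar Q z (Φ.f 2)) • Φ.e 2 +
        polar Q z (Φ.e 2) • Φ.f 2 := by rw [hr]; module
    have m1 : r - Q r • Φ.e 2 ∈ Φ.lev 2 :=
      sub_mem (Φ.lev_mono (by omega) hrm) (Submodule.smul_mem _ _ he2)
    have m2 : (Q r + polar Q z (Φ.f 2)) • Φ.e 2 ∈ Φ.lev 2 := Submodule.smul_mem _ _ he2
    have m3 : polar Q z (Φ.e 2) • Φ.f 2 ∈ Φ.lev 2 := Submodule.smul_mem _ _ hf2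
    rw [hzeq, sg_add h01.h.qe (hp (add_mem m1 m2)) (hp m3), sg_add h01.h.qe (hp m1) (hp m2), rho_mul,
      rho_mul, hf2fix, he2fix, hrfix]
  -- the vector
  let g : F → siegelGroup Q := fun s => sg Q E (s • x0)
  have hgm : ∀ s, g s ∈ SH Q Φ.H := fun s => sg_mem_SH hE (Φ.H.smul_mem _ (Φ.lev_le _ hx2))
  have hgp : ∀ s, polar Q E (s • x0) = 0 := fun s => by rw [polar_smul_right', xE, mul_zero]
  have hge : ∀ s, (g s).1 e = e := fun s => sg_fix_pair h01.h.qe (hgp s)
    (by rw [polar_comm]; exact h01.ee') (by rw [polar_smul_right', xe, mul_zero])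
  have hgf : ∀ s, (g s).1 f = f := fun s => sg_fix_pair h01.h.qe (hgp s)
    (by rw [polar_comm]; exact h01.ef') (by rw [polar_smul_right', xf, mul_zero])
  have hgd : ∀ s, (g s).1 d = d - s • E := fun s => by
    rw [sg_apply h01.h.qe (hgp s), polar_comm Q d E, dE, polar_smul_right', hdx]; module
  have hys : ∀ s, ρ (g s) y ∈ wsp ρ X Φ.H e f (d - s • E) := fun s => by
    rw [← hgd]; exact wsp_move_one hX (hgm s) hyp.qe (hge s) (hgf s) hy
  set v := ∑ s : F, ρ (g s) y with hv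
  have hvX : v ∈ X := X.sum_mem fun s _ => hX _ (hgm s) y hyX
  have hv0 : v ≠ 0 := by
    intro h0
    have h1 := congrArg (wproj ρ Φ.H e f d) h0
    rw [map_zero, hv, map_sum, Finset.sum_eq_single (0 : F)] at h1
    · rw [show g 0 = 1 by simp [g, sg_zero], rho_one] at h1
      rw [wproj, proj_of_mem ρ hy.2] at h1
      exact hy0 h1
    · intro s _ hs
      refine proj_of_mem_ne ρ (zf_add hyp.qe) (fun hc => hs ?_) (hys s).2
      have hdm := hdl hd2
      have hEm : E ∈ perp2 Q Φ.H e f := mem_perp2.mpr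
        ⟨hE, by rw [polar_comm]; exact h01.ee', by rw [polar_comm]; exact h01.ef'⟩
      have h5 := wch_injective (Φ.nd.perp2 hyp he hf) hdm (sub_mem hdm (Submodule.smul_mem _ s hEm)) hc
      have h6 : s • E = 0 := by linear_combination (norm := module) h5
      exact (smul_eq_zero.mp h6).resolve_right h01.h.ne
    · simp
  have hvfix : ∀ t : F, ∀ z ∈ Φ.lev 2, ρ (sg Q E (t • e + z)) v = v := by
    intro t z hz
    obtain ⟨zE, -⟩ := hlev2 hz
    have hte : polar Q E (t • e) = 0 := by rw [polar_smul_right', h01.ee', mul_zero]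
    rw [sg_add h01.h.qe hte zE, rho_mul]
    have hzv : ρ (sg Q E z) v = v := by
      set c := polar Q d z with hc
      have hz' : z - c • x0 ∈ Φ.lev 2 := sub_mem hz (Submodule.smul_mem _ _ hx2)
      have hdz' : polar Q d (z - c • x0) = 0 := by
        rw [polar_sub_right, polar_smul_right', hdx, hc]; ring
      rw [hv, map_sum]
      refine Fintype.sum_equiv (Equiv.addLeft c) _ _ fun s => ?_
      rw [Equiv.coe_addLeft, ← rho_mul]
      show ρ (sg Q E z * sg Q E (s • x0)) y = ρ (sg Q E ((c + s) • x0)) y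
      rw [← sg_add h01.h.qe zE (hgp s), show z + s • x0 = (c + s) • x0 + (z - c • x0) by module,
        sg_add h01.h.qe (hgp _) (hlev2 hz').1, rho_mul, hfixd _ hz' hdz']
    rw [hzv, hv, map_sum]
    refine Finset.sum_congr rfl fun s _ => ?_
    have hmem : t • e ∈ Φ.H := Φ.H.smul_mem _ he
    have hswap : sg Q E (t • e) = sg Q e ((-t) • E) := by
      rw [← sg_smul_left h01.h.qe h01.ee' t, sg_swap (by rw [map_smul', h01.h.qe, mul_zero]) h01.h'.qe
        (by rw [polar_smul_left', h01.ee', mul_zero]), neg_smul]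
    rw [hswap, ((mem_wsp ρ).mp (hys s)).2 _ (Submodule.smul_mem _ _ (mem_perp2.mpr
      ⟨hE, by rw [polar_comm]; exact h01.ee', by rw [polar_comm]; exact h01.ef'⟩))]
    rw [polar_sub_left, polar_smul_left', polar_smul_right', polar_smul_right', h01.h.ee, polar_comm Q d E,
      dE, mul_zero, mul_zero, sub_zero, AddChar.map_zero_eq_one, one_smul]
  have hvmem : v ∈ Xk ρ Φ X 1 := by
    show v ∈ wsp ρ X Φ.H E G 0
    have hw : v = wproj ρ Φ.H E G 0 v := by
      refine sub_eq_zero.mp (eq_zero_of_wproj Φ.nd h01.h hE hF (ρ := ρ) fun D hD => ?_)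
      have hmemD := wproj_mem hX hE h01.h.qe D (f := G) hvX
      by_cases hD0 : D = 0
      · subst hD0
        rw [map_sub, show wproj ρ Φ.H E G 0 (wproj ρ Φ.H E G 0 v) = wproj ρ Φ.H E G 0 v from
          proj_of_mem ρ (wproj_mem hX hE h01.h.qe 0 (f := G) hvX).2, sub_self]
      have hzero : wproj ρ Φ.H E G D v = 0 := by
        by_contra hne
        obtain ⟨he1, hf1⟩ := Φ.pair_mem_lev (k := 1) le_rfl (show 1 < Φ.m by omega)
        have hr : D - polar Q D f • e - polar Q D e • f ∈ Φ.lev 2 := decomp_mem hyp he1 hf1 hD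
        set r := D - polar Q D f • e - polar Q D e • f with hrdef
        have htest : ∀ t : F, ∀ z ∈ Φ.lev 2, psi F (polar Q D (t • e + z)) = 1 := fun t z hz => by
          have hm' : t • e + z ∈ perp2 Q Φ.H E G :=
            add_mem (Submodule.smul_mem (Φ.lev 1) t he1) (Φ.lev_mono (show 1 ≤ 2 by omega) hz)
          have h1 := eq_of_proj ρ (zf_add h01.h.qe) (a := ⟨t • e + z, hm'⟩) hne
            (show ρ (sg Q E (t • e + z)) v = (1 : ℂ) • v by rw [hvfix t z hz, one_smul])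
          rwa [wch_apply] at h1
        have hDe : polar Q D e = 0 := eq_zero_of_psi fun t => by
          have := htest t 0 (Submodule.zero_mem _)
          rwa [add_zero, polar_smul_right'] at this
        have hr0 : r = 0 := Φ.lev_nd (show 2 ≤ Φ.m by omega) r hr fun z hz => eq_zero_of_psi fun s => by
          have hz' : s • z ∈ Φ.lev 2 := Submodule.smul_mem _ _ hz
          have := htest 0 (s • z) hz'
          rw [zero_smul, zero_add, polar_smul_right'] at this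
          obtain ⟨-, -, ze, zf⟩ := hlev2 hz
          rwa [hrdef, polar_sub_left, polar_sub_left, polar_smul_left', polar_smul_left', ze, zf, mul_zero,
            mul_zero, sub_zero, sub_zero]
        rw [hrdef, hDe, zero_smul, sub_zero, sub_eq_zero] at hr0
        have hQD : Q D = 0 := by rw [hr0, map_smul', hyp.qe, mul_zero]
        have := hmemD
        rw [hsing E G D h01.h hE hF hD hD0 hQD, Submodule.mem_bot] at this
        exact hne this
      rw [map_sub, hzero, zero_sub, neg_eq_zero, wproj]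
      exact proj_of_mem_ne ρ (zf_add h01.h.qe)
        (fun hc => hD0 (wch_injective (Φ.lev_nd (k := 1) (by omega)) hD (Submodule.zero_mem _) hc))
        (wproj_mem hX hE h01.h.qe 0 (f := G) hvX).2
    rw [hw]
    exact wproj_mem hX hE h01.h.qe 0 hvX
  -- it is moved
  obtain ⟨t, ht⟩ : ∃ t : F, psi F t ≠ 1 := by
    by_contra hc
    push Not at hc
    exact psi_ne_one (DFunLike.ext _ _ hc)
  refine ⟨sg Q e (t • x0), sg_mem_SH (Φ.pair_mem_lev le_rfl (by omega)).1
    (Submodule.smul_mem _ _ (Φ.lev_mono (by omega) hx0)), v, hvmem, ?_⟩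
  have heig : ρ (sg Q e (t • x0)) v = psi F t • v := by
    rw [hv, map_sum, Finset.smul_sum]
    refine Finset.sum_congr rfl fun s _ => ?_
    rw [((mem_wsp ρ).mp (hys s)).2 _ (Submodule.smul_mem _ _ (hdl hx2)), polar_sub_left,
      polar_smul_left', polar_smul_right', polar_smul_right', hdx, xE]
    simp
  rw [heig]
  intro h
  have h2 : (psi F t - 1) • v = 0 := by rw [sub_smul, h, one_smul, sub_self]
  exact hv0 ((smul_eq_zero.mp h2).resolve_left (sub_ne_zero.mpr ht))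

end Frame

end CfsgLib.KnownA.OrthMinDeg
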