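import Cfsg.Agent.Lib.KnownA.OrthMinDeg.Odd
import Cfsg.Agent.Lib.KnownA.OrthMinDeg.Descend

/-!
# The lower bounds for a moved module
-/

set_option autoImplicit false

namespace CfsgLib.KnownA.OrthMinDeg

open QuadraticMap CfsgLib.Geometry CfsgLib.KnownA.CentralChar

variable {F M : Type*} [Field F] [Fintype F] [AddCommGroup M] [Module F M] [Finite M]
  [FiniteDimensional F M]
  {Q : QuadraticForm F M} {V : Type*} [AddCommGroup V] [Module ℂ V] [FiniteDimensional ℂ V]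
  {ρ : Representation ℂ (siegelGroup Q) V}

namespace Frame

theorem poly_aux {q P : ℤ} (hq : 2 ≤ q) (hP : q ^ 2 ≤ P) :
    0 ≤ (q ^ 2 - 2) * P - 2 * (q ^ 2 - 1) ∧ 0 ≤ (q ^ 2 - 2) * P - (q ^ 2 - 1) ∧
      0 ≤ q ^ 4 - q ^ 2 ∧ 0 ≤ q ^ 3 - q := by
  have h4 : 0 ≤ q ^ 2 - 4 := by nlinarith
  have h1 := mul_le_mul_of_nonneg_left hP (show 0 ≤ q ^ 2 - 2 by linarith)
  have h2 := mul_nonneg (show 0 ≤ q ^ 2 by linarith) h4
  have h3 := mul_nonneg (show 0 ≤ q by linarith) (show 0 ≤ q ^ 2 - 1 by linarith)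
  refine ⟨by nlinarith, by nlinarith, by nlinarith, by nlinarith⟩

variable (Φ : Frame Q) {X : Submodule ℂ V}

omit [FiniteDimensional F M] in
theorem card_norm (c : F) : Nat.card {d : Φ.lev 1 // Q (d : M) = c} = Φ.cnt 1 c := rfl

omit [FiniteDimensional F M] in
theorem card_sing : Nat.card {d : Φ.lev 1 // Q (d : M) = 0 ∧ (d : M) ≠ 0} + 1 = Φ.cnt 1 0 := by
  classical
  have e : {d : Φ.lev 1 // Q (d : M) = 0 ∧ (d : M) ≠ 0} ≃
      {x : {d : Φ.lev 1 // Q (d : M) = 0} // x ≠ ⟨0, by simp⟩} :=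
    { toFun := fun d => ⟨⟨d.1, d.2.1⟩, fun h => d.2.2 (congrArg (fun x => ((x.1 : Φ.lev 1) : M)) h)⟩
      invFun := fun x => ⟨x.1.1, x.1.2, fun h => x.2 (Subtype.ext (Subtype.ext h))⟩
      left_inv := fun d => rfl
      right_inv := fun x => rfl }
  have := Fintype.ofFinite (Φ.lev 1)
  haveI : Nonempty {d : Φ.lev 1 // Q (d : M) = 0} := ⟨⟨0, by simp⟩⟩
  rw [Frame.cnt, Nat.card_congr e, Nat.card_eq_fintype_card, Nat.card_eq_fintype_card,
    Fintype.card_subtype_compl, Fintype.card_subtype_eq, Nat.sub_add_cancel Fintype.card_pos]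

/-- What the weights at the first pair can be. -/
theorem split (hm : 3 ≤ Φ.m) (hX : Stb ρ X Φ.H) (hmv : Moved ρ X Φ.H) (hc : Cond Φ) :
    (∃ d ∈ Φ.lev 1, Q d ≠ 0 ∧ wsp ρ X Φ.H (Φ.e 0) (Φ.f 0) d ≠ ⊥) ∨
      2 * (Φ.cnt 1 0 - 1) ≤ Module.finrank ℂ X ∨ Mod ρ Φ X := by
  classical
  by_cases hns : ∃ d ∈ Φ.lev 1, Q d ≠ 0 ∧ wsp ρ X Φ.H (Φ.e 0) (Φ.f 0) d ≠ ⊥
  · exact Or.inl hns
  push Not at hns
  refine Or.inr ?_
  obtain ⟨d1, hd1, hd10, hne1⟩ := Φ.exists_weight hm hX hmv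
  have hQ1 : Q d1 = 0 := by_contra fun h => hne1 (hns d1 hd1 h)
  by_cases h2 : 2 ≤ Module.finrank ℂ (wsp ρ X Φ.H (Φ.e 0) (Φ.f 0) d1)
  · left
    have := Φ.count_le (by omega) (fun d : Φ.lev 1 => Q (d : M) = 0 ∧ (d : M) ≠ 0) (fun _ => False)
      (fun d _ h => h) 2 0
      (fun d hd => h2.trans (Φ.wsp_norm_le hm hX hd1 d.2 hd10 hd.2 (hd.1.trans hQ1.symm)))
      (fun d hd => absurd hd id)
    rw [← Φ.card_sing, Nat.add_sub_cancel]
    omega
  right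
  refine ⟨hc, ⟨hX, fun e f d h he hf hd hQd => ?_, fun e f d h he hf hd hd0 hQd => ?_⟩,
    fun e f d h he hf hd hd0 hQd => ?_⟩
  · obtain ⟨d', hd', hQ', -, hle, -⟩ := Φ.wsp_to_first hm hX h he hf hd
    rw [hns d' hd' (by rwa [hQ']), finrank_bot] at hle
    exact Submodule.finrank_eq_zero.mp (Nat.le_zero.mp hle)
  · obtain ⟨d', hd', hQ', h0', hle, -⟩ := Φ.wsp_to_first hm hX h he hf hd
    have := Φ.wsp_norm_le hm hX hd' hd1 (h0' hd0) hd10 (hQ1.trans (hQd.symm.trans hQ'.symm))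
    omega
  · obtain ⟨d', hd', hQ', h0', -, hge⟩ := Φ.wsp_to_first hm hX h he hf hd
    intro hbot
    rw [hbot, finrank_bot] at hge
    have := Φ.wsp_norm_le hm hX hd1 hd' hd10 (h0' hd0) ((hQ'.trans hQd).trans hQ1.symm)
    exact hne1 (Submodule.finrank_eq_zero.mp (by omega))

/-- Above three elements a non-singular weight gives two norms. -/
theorem two_classes (hm : 3 ≤ Φ.m) (hX : Stb ρ X Φ.H) (hq : 3 < Fintype.card F) {d : M}
    (hd : d ∈ Φ.lev 1) (hQd : Q d ≠ 0) (hne : wsp ρ X Φ.H (Φ.e 0) (Φ.f 0) d ≠ ⊥) :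
    ∃ c c' : F, Φ.cnt 1 c + Φ.cnt 1 c' ≤ Module.finrank ℂ X := by
  obtain ⟨a, ha, ha2⟩ := exists_sq_ne_one hq
  have hd01 := Φ.two (show 0 + 1 < Φ.m by omega)
  obtain ⟨h0, h0'⟩ := Φ.mem 0 (by omega)
  obtain ⟨h1, h1'⟩ := Φ.mem (0 + 1) (show 0 + 1 < Φ.m by omega)
  have hh : Φ.h 0 a ∈ SH Q Φ.H := rH_mem h0 h0' h1 h1' a
  have hle := wsp_finrank_le (ρ := ρ) (X := X) (d := d) hh (hX _ hh) hd01.h.qe ha
    (e' := Φ.e 0) (f' := Φ.f 0) (rH_e hd01 ha) (rH_f hd01 ha)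
  set d' := a⁻¹ • (Φ.h 0 a).1 d with hd'
  have hgd : (Φ.h 0 a).1 d ∈ Φ.lev 1 := by
    obtain ⟨hdH, de, df⟩ := mem_perp2.mp hd
    refine mem_perp2.mpr ⟨SH_map hh hdH, ?_, ?_⟩
    · have h5 : polar Q ((Φ.h 0 a).1 (Φ.e 0)) ((Φ.h 0 a).1 d) = 0 := (polar' _ _ _).trans de
      rw [Frame.h, rH_e hd01 ha, polar_smul_left'] at h5
      exact (mul_eq_zero.mp h5).resolve_left ha
    · have h5 : polar Q ((Φ.h 0 a).1 (Φ.f 0)) ((Φ.h 0 a).1 d) = 0 := (polar' _ _ _).trans df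
      rw [Frame.h, rH_f hd01 ha, polar_smul_left'] at h5
      exact (mul_eq_zero.mp h5).resolve_left (inv_ne_zero ha)
  have hd'm : d' ∈ Φ.lev 1 := Submodule.smul_mem _ _ hgd
  have hQ' : Q d' = a⁻¹ * a⁻¹ * Q d := by rw [hd', map_smul', mem_orth']
  have hQ'0 : Q d' ≠ 0 := by
    rw [hQ']; exact mul_ne_zero (mul_ne_zero (inv_ne_zero ha) (inv_ne_zero ha)) hQd
  have h1 : 1 ≤ Module.finrank ℂ (wsp ρ X Φ.H (Φ.e 0) (Φ.f 0) d) :=
    Nat.one_le_iff_ne_zero.mpr fun h => hne (Submodule.finrank_eq_zero.mp h)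
  have hd0 : d ≠ 0 := fun h => hQd (by rw [h]; exact QuadraticMap.map_zero Q)
  have hd'0 : d' ≠ 0 := fun h => hQ'0 (by rw [h]; exact QuadraticMap.map_zero Q)
  have ne0 : ∀ x : M, Q x ≠ 0 → x ≠ 0 := fun x hx h => hx (by rw [h]; exact QuadraticMap.map_zero Q)
  refine ⟨Q d, Q d', ?_⟩
  have := Φ.count_le (by omega) (fun x : Φ.lev 1 => Q (x : M) = Q d) (fun x => Q (x : M) = Q d')
    (fun x hx hx' => ha2 ?_) 1 1
    (fun x hx => h1.trans (Φ.wsp_norm_le hm hX hd x.2 hd0 (ne0 _ (by rw [hx]; exact hQd)) hx))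
    (fun x hx => (h1.trans hle).trans
      (Φ.wsp_norm_le hm hX hd'm x.2 hd'0 (ne0 _ (by rw [hx]; exact hQ'0)) hx))
  · simpa [Φ.card_norm] using this
  · have h5 : Q d = a⁻¹ * a⁻¹ * Q d := hQ' ▸ hx.symm.trans hx'
    have h6 : a⁻¹ * a⁻¹ = 1 := mul_right_cancel₀ hQd (h5.symm.trans (one_mul _).symm)
    rw [← mul_inv, inv_eq_one] at h6
    exact h6

/-- A lower bound for the number of vectors of norm `c` in the first complement. -/
theorem cnt_one_lower {j : ℕ} (hj : Φ.m = j + 1) {κ : ℕ} (hκ : Module.finrank F (Φ.lev Φ.m) = κ)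
    (c : F) : (Fintype.card F : ℤ) ^ (2 * j + κ) - (Fintype.card F : ℤ) ^ (j + κ) ≤
      (Fintype.card F : ℤ) * Φ.cnt 1 c := by
  have h := Φ.cnt_closed (k := 1) (r := j) (by omega) c
  rw [hκ, Nat.card_eq_fintype_card] at h
  have h' : (Fintype.card F : ℤ) * Φ.cnt 1 c + (Fintype.card F : ℤ) ^ (j + κ) =
      (Fintype.card F : ℤ) ^ (j + 1) * Φ.cnt Φ.m c + (Fintype.card F : ℤ) ^ (2 * j + κ) := by
    exact_mod_cast h
  nlinarith [show (0 : ℤ) ≤ (Fintype.card F : ℤ) ^ (j + 1) * Φ.cnt Φ.m c by positivity]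

/-- The number of singular vectors in the first complement. -/
theorem cnt_one_zero {j : ℕ} (hj : Φ.m = j + 1) {κ : ℕ} (hκ : Module.finrank F (Φ.lev Φ.m) = κ) :
    (Fintype.card F : ℤ) * ((Φ.cnt 1 0 - 1 : ℕ) : ℤ) = (Fintype.card F : ℤ) ^ (2 * j + κ) +
      (Fintype.card F : ℤ) ^ (j + 1) - (Fintype.card F : ℤ) ^ (j + κ) - Fintype.card F := by
  have h := Φ.cnt_closed (k := 1) (r := j) (by omega) 0
  rw [hκ, Nat.card_eq_fintype_card, Φ.cnt_last_zero, mul_one] at h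
  have h' : (Fintype.card F : ℤ) * Φ.cnt 1 0 + (Fintype.card F : ℤ) ^ (j + κ) =
      (Fintype.card F : ℤ) ^ (j + 1) + (Fintype.card F : ℤ) ^ (2 * j + κ) := by exact_mod_cast h
  rw [Nat.cast_sub (by rw [← Φ.card_sing]; omega)]
  push_cast
  linear_combination h'

/-- The dimension of a module of the minimal shape. -/
theorem finrank_closed (hM : Mod ρ Φ X) {κ : ℕ} (hκ : Module.finrank F (Φ.lev Φ.m) = κ) :
    ∀ {r k : ℕ}, k + r = Φ.m →
    (Fintype.card F : ℤ) * ((Fintype.card F : ℤ) ^ 2 - 1) * Module.finrank ℂ (Xk ρ Φ X k) =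
      (Fintype.card F : ℤ) ^ (2 * r + κ) - (Fintype.card F : ℤ) ^ κ +
      ((Fintype.card F : ℤ) + 1) * ((Fintype.card F : ℤ) - (Fintype.card F : ℤ) ^ κ) *
        ((Fintype.card F : ℤ) ^ r - 1) -
      ((Fintype.card F : ℤ) ^ 2 - 1) * Fintype.card F * r +
      (Fintype.card F : ℤ) * ((Fintype.card F : ℤ) ^ 2 - 1) * Module.finrank ℂ (Cs ρ Φ X) := by
  intro r
  induction r with
  | zero => intro k hk; obtain rfl : k = Φ.m := by omega
            simp [Cs]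
            exact Or.inl rfl
  | succ r ih =>
    intro k hk
    have h1 := finrank_Xk hM.cond hM.good hM.full (k := k) (by omega)
    have h2 := ih (k := k + 1) (by omega)
    have h3 := Φ.cnt_closed (k := k + 1) (r := r) (by omega) 0
    rw [hκ, Nat.card_eq_fintype_card, Φ.cnt_last_zero, mul_one] at h3
    have h1' : (Module.finrank ℂ (Xk ρ Φ X k) : ℤ) + 1 =
        Φ.cnt (k + 1) 0 + Module.finrank ℂ (Xk ρ Φ X (k + 1)) := by exact_mod_cast h1
    have h3' : (Fintype.card F : ℤ) * Φ.cnt (k + 1) 0 + (Fintype.card F : ℤ) ^ (r + κ) =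
        (Fintype.card F : ℤ) ^ (r + 1) + (Fintype.card F : ℤ) ^ (2 * r + κ) := by exact_mod_cast h3
    push_cast
    linear_combination ((Fintype.card F : ℤ) * ((Fintype.card F : ℤ) ^ 2 - 1)) * h1' + h2 +
      ((Fintype.card F : ℤ) ^ 2 - 1) * h3'

theorem finrank_Xk_zero (hM : Mod ρ Φ X) {κ : ℕ} (hκ : Module.finrank F (Φ.lev Φ.m) = κ) :
    (Fintype.card F : ℤ) * ((Fintype.card F : ℤ) ^ 2 - 1) * Module.finrank ℂ X =
      (Fintype.card F : ℤ) ^ (2 * Φ.m + κ) - (Fintype.card F : ℤ) ^ κ +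
      ((Fintype.card F : ℤ) + 1) * ((Fintype.card F : ℤ) - (Fintype.card F : ℤ) ^ κ) *
        ((Fintype.card F : ℤ) ^ Φ.m - 1) -
      ((Fintype.card F : ℤ) ^ 2 - 1) * Fintype.card F * Φ.m +
      (Fintype.card F : ℤ) * ((Fintype.card F : ℤ) ^ 2 - 1) * Module.finrank ℂ (Cs ρ Φ X) :=
  Φ.finrank_closed hM hκ (k := 0) (Nat.zero_add _)

omit [Finite M] [FiniteDimensional F M] [FiniteDimensional ℂ V] in
theorem mono_T {x y : ℕ} (h : x ≤ y) : (Fintype.card F : ℤ) * ((Fintype.card F : ℤ) ^ 2 - 1) * x ≤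
    (Fintype.card F : ℤ) * ((Fintype.card F : ℤ) ^ 2 - 1) * y :=
  mul_le_mul_of_nonneg_left (by exact_mod_cast h) (mul_nonneg (Int.natCast_nonneg _)
    (sub_nonneg.mpr (one_le_pow₀ (by exact_mod_cast Fintype.card_pos))))

/-- The bound with nothing left over. -/
theorem bound_plus (hm : 4 ≤ Φ.m) (hK : Module.finrank F (Φ.lev Φ.m) = 0) (hq : 3 < Fintype.card F)
    (hX : Stb ρ X Φ.H) (hmv : Moved ρ X Φ.H) :
    (Fintype.card F : ℤ) ^ (2 * Φ.m) + (Fintype.card F : ℤ) ^ (Φ.m + 2) -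
        (Fintype.card F : ℤ) ^ Φ.m - (Fintype.card F : ℤ) ^ 2 ≤
      (Fintype.card F : ℤ) * ((Fintype.card F : ℤ) ^ 2 - 1) * Module.finrank ℂ X := by
  obtain ⟨X', hle, hX', hmv', hno⟩ := exists_noFix hX hmv
  refine le_trans ?_ (mono_T (Submodule.finrank_mono hle))
  have hc : Cond Φ := Or.inl (by rwa [Nat.card_eq_fintype_card])
  obtain ⟨j, hj⟩ : ∃ j, Φ.m = j + 1 := ⟨Φ.m - 1, by omega⟩
  have hq4 : (4 : ℤ) ≤ Fintype.card F := by exact_mod_cast hq
  have hP : (Fintype.card F : ℤ) ^ 3 ≤ (Fintype.card F : ℤ) ^ j :=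
    pow_le_pow_right₀ (by linarith) (by omega)
  rcases Φ.split (by omega) hX' hmv' hc with ⟨d, hd, hQd, hne⟩ | h2 | hM
  · obtain ⟨c, c', hcc⟩ := Φ.two_classes (by omega) hX' hq hd hQd hne
    refine le_trans ?_ (mono_T hcc)
    have l1 := Φ.cnt_one_lower hj hK c
    have l2 := Φ.cnt_one_lower hj hK c'
    rw [Nat.cast_add, hj]
    simp only [add_zero, pow_add, pow_mul', pow_one] at l1 l2 ⊢
    set q : ℤ := (Fintype.card F : ℤ)
    set P := q ^ j
    have hq2 : 0 ≤ q ^ 2 - 1 := by nlinarith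
    nlinarith [mul_le_mul_of_nonneg_left (add_le_add l1 l2) hq2,
      mul_le_mul_of_nonneg_left hP (show 0 ≤ q ^ 2 - 2 by nlinarith),
      mul_nonneg (show 0 ≤ P by positivity) (show 0 ≤ (q ^ 2 - 2) * P - q ^ 3 - 2 * q ^ 2 by
        nlinarith [mul_le_mul_of_nonneg_left hP (show 0 ≤ q ^ 2 - 2 by nlinarith),
          mul_nonneg (show 0 ≤ q ^ 2 by positivity) (show 0 ≤ q - 4 by linarith)])]
  · refine le_trans ?_ (mono_T h2)
    have l1 := Φ.cnt_one_zero hj hK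
    rw [Nat.cast_mul, Nat.cast_two, hj]
    simp only [add_zero, pow_add, pow_mul', pow_one] at l1 ⊢
    set q : ℤ := (Fintype.card F : ℤ)
    set P := q ^ j
    set N : ℤ := ((Φ.cnt 1 0 - 1 : ℕ) : ℤ)
    rw [show q * (q ^ 2 - 1) * (2 * N) = 2 * (q ^ 2 - 1) * (q * N) by ring, l1]
    have hq2 : 0 ≤ q ^ 2 - 1 := by nlinarith
    nlinarith [mul_nonneg (show 0 ≤ P by positivity) (show 0 ≤ (q ^ 2 - 2) * P - q ^ 3 - 2 * q ^ 2 by
        nlinarith [mul_le_mul_of_nonneg_left hP (show 0 ≤ q ^ 2 - 2 by nlinarith),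
          mul_nonneg (show 0 ≤ q ^ 2 by positivity) (show 0 ≤ q - 4 by linarith)]),
      mul_nonneg (mul_nonneg hq2 (show 0 ≤ q by linarith)) (show 0 ≤ P - 1 by nlinarith)]
  · have ht := mono_T (F := F) (hM.Cs_bound_plus hm hK hno)
    have h := Φ.finrank_Xk_zero hM hK
    simp only [add_zero, pow_zero] at h
    rw [h]
    ring_nf
    ring_nf at ht
    linarith

/-- The bound with a line left over. -/
theorem bound_odd (hm : 3 ≤ Φ.m) (hK : Module.finrank F (Φ.lev Φ.m) = 1) (hq : 3 < Fintype.card F)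
    (h2F : (2 : F) ≠ 0) (hX : Stb ρ X Φ.H) (hmv : Moved ρ X Φ.H) :
    (Fintype.card F : ℤ) ^ (2 * Φ.m + 1) - Fintype.card F ≤
      (Fintype.card F : ℤ) * ((Fintype.card F : ℤ) ^ 2 - 1) * Module.finrank ℂ X := by
  obtain ⟨X', hle, hX', hmv', hno⟩ := exists_noFix hX hmv
  refine le_trans ?_ (mono_T (Submodule.finrank_mono hle))
  have hc : Cond Φ := Or.inl (by rwa [Nat.card_eq_fintype_card])
  obtain ⟨j, hj⟩ : ∃ j, Φ.m = j + 1 := ⟨Φ.m - 1, by omega⟩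
  have hq4 : (4 : ℤ) ≤ Fintype.card F := by exact_mod_cast hq
  have hP : (Fintype.card F : ℤ) ^ 2 ≤ (Fintype.card F : ℤ) ^ j :=
    pow_le_pow_right₀ (by linarith) (by omega)
  rcases Φ.split hm hX' hmv' hc with ⟨d, hd, hQd, hne⟩ | h2 | hM
  · obtain ⟨c, c', hcc⟩ := Φ.two_classes hm hX' hq hd hQd hne
    refine le_trans ?_ (mono_T hcc)
    have l1 := Φ.cnt_one_lower hj hK c
    have l2 := Φ.cnt_one_lower hj hK c'
    rw [Nat.cast_add, hj]
    simp only [pow_add, pow_mul', pow_one] at l1 l2 ⊢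
    set q : ℤ := (Fintype.card F : ℤ)
    set P := q ^ j
    have hq2 : 0 ≤ q ^ 2 - 1 := by nlinarith
    nlinarith [mul_le_mul_of_nonneg_left (add_le_add l1 l2) hq2,
      mul_nonneg (mul_nonneg (show 0 ≤ q by linarith) (show 0 ≤ P by positivity))
        ((poly_aux (q := q) (by linarith) hP).1)]
  · refine le_trans ?_ (mono_T h2)
    have l1 := Φ.cnt_one_zero hj hK
    rw [Nat.cast_mul, Nat.cast_two, hj]
    simp only [pow_add, pow_mul', pow_one] at l1 ⊢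
    set q : ℤ := (Fintype.card F : ℤ)
    set P := q ^ j
    set N : ℤ := ((Φ.cnt 1 0 - 1 : ℕ) : ℤ)
    rw [show q * (q ^ 2 - 1) * (2 * N) = 2 * (q ^ 2 - 1) * (q * N) by ring, l1]
    have hq2 : 0 ≤ q ^ 2 - 1 := by nlinarith
    nlinarith [mul_nonneg (mul_nonneg (show 0 ≤ q by linarith) (show 0 ≤ P by positivity))
        ((poly_aux (q := q) (by linarith) hP).1),
      mul_nonneg (mul_nonneg hq2 (show 0 ≤ q by linarith)) (show 0 ≤ P - 1 by nlinarith)]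
  · have ht := mono_T (F := F) (hM.Cs_bound_odd hm hK h2F hno)
    have h := Φ.finrank_Xk_zero hM hK
    simp only [pow_one, sub_self, mul_zero, zero_mul, add_zero] at h
    rw [h]
    ring_nf
    ring_nf at ht
    linarith

omit [FiniteDimensional F M] in
theorem shift_cnt (h : 1 ≤ Φ.m) (k : ℕ) (c : F) : (Φ.shift h).cnt k c = Φ.cnt (k + 1) c := by
  rw [Frame.cnt, Frame.cnt, Φ.shift_lev h]

omit [Fintype F] [FiniteDimensional F M] [Finite M] in
/-- A vector of a given norm in the rest, with a dual vector. -/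
theorem exists_dual (hnd : NDs Q (Φ.lev Φ.m)) {c : F} (hc : c ≠ 0) (hpos : 0 < Φ.cnt Φ.m c) :
    ∃ d ∈ Φ.lev Φ.m, Q d = c ∧ ∃ x0 ∈ Φ.lev Φ.m, polar Q d x0 = 1 := by
  obtain ⟨⟨⟨d, hd⟩, hQd⟩⟩ := (Nat.card_pos_iff.mp hpos).1
  have hd0 : d ≠ 0 := fun h => hc (by rw [← hQd]; show Q d = 0; rw [h]; exact QuadraticMap.map_zero Q)
  obtain ⟨w, hw, hdw⟩ : ∃ w ∈ Φ.lev Φ.m, polar Q d w ≠ 0 := by
    by_contra hcon
    push Not at hcon
    exact hd0 (hnd d hd hcon)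
  exact ⟨d, hd, hQd, (polar Q d w)⁻¹ • w, Submodule.smul_mem _ _ hw,
    by rw [polar_smul_right', inv_mul_cancel₀ hdw]⟩

set_option maxHeartbeats 1600000 in
/-- The bound with a plane left over. -/
theorem bound_minus (hm : 3 ≤ Φ.m) (hK : Module.finrank F (Φ.lev Φ.m) = 2)
    (hR : ∀ c : F, c ≠ 0 → Fintype.card F + 1 ≤ Φ.cnt Φ.m c)
    (hX : Stb ρ X Φ.H) (hmv : Moved ρ X Φ.H) :
    (Fintype.card F : ℤ) ^ (2 * Φ.m + 2) - (Fintype.card F : ℤ) ^ (Φ.m + 3) +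
        (Fintype.card F : ℤ) ^ (Φ.m + 1) - (Fintype.card F : ℤ) ^ 2 ≤
      (Fintype.card F : ℤ) * ((Fintype.card F : ℤ) ^ 2 - 1) * Module.finrank ℂ X := by
  classical
  obtain ⟨N, hN⟩ : ∃ N, N = Φ.m := ⟨_, rfl⟩
  induction N using Nat.strong_induction_on generalizing Φ X with
  | _ N ih =>
  obtain ⟨X', hle, hX', hmv', hno⟩ := exists_noFix hX hmv
  refine le_trans ?_ (mono_T (Submodule.finrank_mono hle))
  obtain ⟨j, hj⟩ : ∃ j, Φ.m = j + 1 := ⟨Φ.m - 1, by omega⟩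
  have hq2' : (2 : ℤ) ≤ Fintype.card F := by exact_mod_cast (Fintype.one_lt_card : 1 < Fintype.card F)
  have hP : (Fintype.card F : ℤ) ^ 2 ≤ (Fintype.card F : ℤ) ^ j :=
    pow_le_pow_right₀ (by linarith) (by omega)
  have hRc : ∀ c : F, c ≠ 0 → (Fintype.card F : ℤ) ^ (2 * j + 2) + (Fintype.card F : ℤ) ^ (j + 1) ≤
      (Fintype.card F : ℤ) * Φ.cnt 1 c := fun c hc => by
    have h := Φ.cnt_closed (k := 1) (r := j) (by omega) c
    rw [hK, Nat.card_eq_fintype_card] at h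
    have h' : (Fintype.card F : ℤ) * Φ.cnt 1 c + (Fintype.card F : ℤ) ^ (j + 2) =
        (Fintype.card F : ℤ) ^ (j + 1) * Φ.cnt Φ.m c + (Fintype.card F : ℤ) ^ (2 * j + 2) := by
      exact_mod_cast h
    have h9 : (Fintype.card F : ℤ) + 1 ≤ Φ.cnt Φ.m c := by exact_mod_cast hR c hc
    have h8 := mul_le_mul_of_nonneg_left h9
      (show 0 ≤ (Fintype.card F : ℤ) ^ (j + 1) by positivity)
    rw [show j + 2 = j + 1 + 1 by omega, pow_succ] at h'
    linarith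
  rcases Φ.split hm hX' hmv' (Or.inr hK) with ⟨d, hd, hQd, hne⟩ | h2 | hM
  · by_cases hq : 3 < Fintype.card F
    · obtain ⟨c, c', hcc⟩ := Φ.two_classes hm hX' hq hd hQd hne
      refine le_trans ?_ (mono_T hcc)
      have l1 := Φ.cnt_one_lower hj hK c
      have l2 := Φ.cnt_one_lower hj hK c'
      rw [Nat.cast_add, hj]
      simp only [pow_add, pow_mul', pow_one] at l1 l2 ⊢
      set q : ℤ := (Fintype.card F : ℤ)
      set P := q ^ j
      have hq2 : 0 ≤ q ^ 2 - 1 := by nlinarith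
      nlinarith [mul_le_mul_of_nonneg_left (add_le_add l1 l2) hq2,
        mul_nonneg (mul_nonneg (sq_nonneg q) (show 0 ≤ P by positivity))
          ((poly_aux (q := q) (by linarith) hP).2.1)]
    -- at most three elements: the squares are trivial
    set c := Q d
    have hd0 : d ≠ 0 := fun h => hQd (by show Q d = 0; rw [h]; exact QuadraticMap.map_zero Q)
    have ne0 : ∀ x : M, Q x = c → x ≠ 0 := fun x hx h => hQd (by rw [← hx, h]; exact QuadraticMap.map_zero Q)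
    have hone : ∀ x : Φ.lev 1, Q (x : M) = c →
        1 ≤ Module.finrank ℂ (wsp ρ X' Φ.H (Φ.e 0) (Φ.f 0) (x : M)) := fun x hx =>
      le_trans (Nat.one_le_iff_ne_zero.mpr fun h => hne (Submodule.finrank_eq_zero.mp h))
        (Φ.wsp_norm_le hm hX' hd x.2 hd0 (ne0 _ hx) hx)
    have lc := hRc c hQd
    rcases Nat.lt_or_ge Φ.m 4 with h3 | h4
    · obtain rfl : j = 2 := by omega
      have h1 : Φ.cnt 1 c ≤ Module.finrank ℂ X' := by
        have := Φ.count_le (by omega) (fun x : Φ.lev 1 => Q (x : M) = c) (fun _ => False)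
          (fun _ _ h => h) 1 0 hone (fun x hx => absurd hx id)
        rw [Φ.card_norm] at this
        omega
      refine le_trans ?_ (mono_T h1)
      rw [hj]
      norm_num at lc ⊢
      set q : ℤ := (Fintype.card F : ℤ)
      nlinarith [mul_le_mul_of_nonneg_left lc (show 0 ≤ q ^ 2 - 1 by nlinarith),
        mul_nonneg (pow_nonneg (show 0 ≤ q by linarith) 4) (show 0 ≤ q - 2 by linarith),
        pow_nonneg (show 0 ≤ q by linarith) 4, pow_nonneg (show 0 ≤ q by linarith) 2,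
        pow_nonneg (show 0 ≤ q by linarith) 3]
    by_cases h2w : 2 ≤ Module.finrank ℂ (wsp ρ X' Φ.H (Φ.e 0) (Φ.f 0) d)
    · have h1 : 2 * Φ.cnt 1 c ≤ Module.finrank ℂ X' := by
        have := Φ.count_le (by omega) (fun x : Φ.lev 1 => Q (x : M) = c) (fun _ => False)
          (fun _ _ h => h) 2 0
          (fun x hx => h2w.trans (Φ.wsp_norm_le hm hX' hd x.2 hd0 (ne0 _ hx) hx))
          (fun x hx => absurd hx id)
        rw [Φ.card_norm] at this
        omega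
      refine le_trans ?_ (mono_T h1)
      rw [Nat.cast_mul, Nat.cast_two, hj]
      simp only [pow_add, pow_mul', pow_one] at lc ⊢
      set q : ℤ := (Fintype.card F : ℤ)
      set P := q ^ j
      nlinarith [mul_le_mul_of_nonneg_left lc (show 0 ≤ q ^ 2 - 1 by nlinarith),
        mul_nonneg (mul_nonneg (sq_nonneg q) (mul_nonneg (show 0 ≤ P by positivity) (show 0 ≤ P by positivity)))
          (show 0 ≤ q ^ 2 - 2 by nlinarith),
        mul_nonneg (show 0 ≤ P by positivity) (pow_nonneg (show 0 ≤ q by linarith) 4),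
        mul_nonneg (show 0 ≤ P by positivity) ((poly_aux (q := q) (by linarith) hP).2.2.2),
        mul_nonneg (show 0 ≤ P by positivity) ((poly_aux (q := q) (by linarith) hP).2.2.1)]
    by_cases hs : ∃ u ∈ Φ.lev 1, u ≠ 0 ∧ Q u = 0 ∧ wsp ρ X' Φ.H (Φ.e 0) (Φ.f 0) u ≠ ⊥
    · obtain ⟨u, hu, hu0, hQu, hune⟩ := hs
      have h1 : Φ.cnt 1 c + (Φ.cnt 1 0 - 1) ≤ Module.finrank ℂ X' := by
        have := Φ.count_le (by omega) (fun x : Φ.lev 1 => Q (x : M) = c)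
          (fun x : Φ.lev 1 => Q (x : M) = 0 ∧ (x : M) ≠ 0)
          (fun x hx hx' => hQd (hx.symm.trans hx'.1)) 1 1 hone
          (fun x hx => le_trans (Nat.one_le_iff_ne_zero.mpr fun h => hune (Submodule.finrank_eq_zero.mp h))
            (Φ.wsp_norm_le hm hX' hu x.2 hu0 hx.2 (hx.1.trans hQu.symm)))
        rw [Φ.card_norm, one_mul, one_mul] at this
        rw [← Φ.card_sing, Nat.add_sub_cancel]
        exact this
      refine le_trans ?_ (mono_T h1)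
      have l0 := Φ.cnt_one_zero hj hK
      rw [Nat.cast_add, hj]
      simp only [pow_add, pow_mul', pow_one] at lc l0 ⊢
      set q : ℤ := (Fintype.card F : ℤ)
      set P := q ^ j
      set N0 : ℤ := ((Φ.cnt 1 0 - 1 : ℕ) : ℤ)
      have hq2 : 0 ≤ q ^ 2 - 1 := by nlinarith
      nlinarith [mul_le_mul_of_nonneg_left lc hq2, congrArg (fun t => (q ^ 2 - 1) * t) l0,
        mul_nonneg (mul_nonneg (sq_nonneg q) (show 0 ≤ P by positivity))
          ((poly_aux (q := q) (by linarith) hP).2.1),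
        mul_nonneg (mul_nonneg hq2 (show 0 ≤ q by linarith)) (show 0 ≤ 2 * P - 1 by nlinarith),
        mul_nonneg (show 0 ≤ P by positivity) ((poly_aux (q := q) (by linarith) hP).2.2.1)]
    -- recursion
    push Not at hs
    have h1w : Module.finrank ℂ (wsp ρ X' Φ.H (Φ.e 0) (Φ.f 0) d) ≤ 1 := by omega
    have hsing : ∀ e f D, Hyp Q e f → e ∈ Φ.H → f ∈ Φ.H → D ∈ perp2 Q Φ.H e f → D ≠ 0 → Q D = 0 →
        wsp ρ X' Φ.H e f D = ⊥ := fun e f D h he hf hD hD0 hQD => by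
      obtain ⟨D', hD', hQ', h0', hle', -⟩ := Φ.wsp_to_first hm hX' h he hf hD
      rw [hs D' hD' (h0' hD0) (hQ'.trans hQD), finrank_bot] at hle'
      exact Submodule.finrank_eq_zero.mp (Nat.le_zero.mp hle')
    obtain ⟨d2, hd2, hQd2, x0, hx0, hdx⟩ :=
      Φ.exists_dual (Φ.lev_nd le_rfl) hQd (lt_of_lt_of_le (by omega) (hR c hQd))
    have hd2' : d2 ∈ perp2 Q Φ.H (Φ.e 1) (Φ.f 1) := by
      obtain ⟨hH, hp⟩ := (Φ.mem_lev _).mp hd2
      exact mem_perp2.mpr ⟨hH, hp 1 (by omega)⟩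
    have hw1 : Module.finrank ℂ (wsp ρ X' Φ.H (Φ.e 1) (Φ.f 1) d2) = 1 := by
      obtain ⟨he1, hf1⟩ := Φ.mem 1 (by omega)
      obtain ⟨D', hD', hQ', -, hle', hge'⟩ :=
        Φ.wsp_to_first hm hX' (Φ.hyp 1 (by omega)) he1 hf1 hd2'
      have hD0 : D' ≠ 0 := ne0 D' (hQ'.trans hQd2)
      have a1 := Φ.wsp_norm_le hm hX' hD' hd hD0 hd0 ((hQ'.trans hQd2)).symm
      have a2 : 1 ≤ Module.finrank ℂ (wsp ρ X' Φ.H (Φ.e 0) (Φ.f 0) D') :=
        hone ⟨D', hD'⟩ (hQ'.trans hQd2)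
      show _ = _
      omega
    have hmvC := Φ.moved_Xk_one h4 hX' hsing hd2 hx0 hdx hw1
    have hC : Stb ρ (Xk ρ Φ X' 1) (Φ.lev 1) := stb_fixed hX' (Φ.hyp 0 (by omega))
    have hm1 : 1 ≤ Φ.m := by omega
    have hK' : Module.finrank F ((Φ.shift hm1).lev (Φ.shift hm1).m) = 2 := by
      rw [Φ.shift_lev, show (Φ.shift hm1).m + 1 = Φ.m from Nat.sub_add_cancel hm1]; exact hK
    have ihC := ih (Φ.m - 1) (by omega) (Φ.shift hm1) (X := Xk ρ Φ X' 1)
      (show 3 ≤ Φ.m - 1 by omega) hK'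
      (fun c' hc' => by
        rw [Φ.shift_cnt, show (Φ.shift hm1).m + 1 = Φ.m from Nat.sub_add_cancel hm1]; exact hR c' hc')
      hC hmvC rfl
    rw [show (Φ.shift hm1).m = j from by show Φ.m - 1 = j; omega] at ihC
    have h1 : Φ.cnt 1 c + Module.finrank ℂ (Xk ρ Φ X' 1) ≤ Module.finrank ℂ X' := by
      have := Φ.count_le (by omega) (fun x : Φ.lev 1 => Q (x : M) = c) (fun x : Φ.lev 1 => (x : M) = 0)
        (fun x hx hx0 => ne0 _ hx hx0) 1 (Module.finrank ℂ (Xk ρ Φ X' 1)) hone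
        (fun x hx => by rw [hx]; exact le_rfl)
      have hcard : Nat.card {x : Φ.lev 1 // (x : M) = 0} = 1 := by
        rw [Nat.card_eq_one_iff_unique]
        exact ⟨⟨fun a b => Subtype.ext (Subtype.ext (a.2.trans b.2.symm))⟩, ⟨⟨0, rfl⟩⟩⟩
      rw [Φ.card_norm, hcard, one_mul, mul_one] at this
      exact this
    refine le_trans ?_ (mono_T h1)
    rw [Nat.cast_add, hj]
    simp only [pow_add, pow_mul', pow_one] at lc ihC ⊢
    set q : ℤ := (Fintype.card F : ℤ)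
    set P := q ^ j
    nlinarith [mul_le_mul_of_nonneg_left lc (show 0 ≤ q ^ 2 - 1 by nlinarith),
      mul_nonneg (show 0 ≤ P by positivity) ((poly_aux (q := q) (by linarith) hP).2.2.1)]
  · refine le_trans ?_ (mono_T h2)
    have l1 := Φ.cnt_one_zero hj hK
    rw [Nat.cast_mul, Nat.cast_two, hj]
    simp only [pow_add, pow_mul', pow_one] at l1 ⊢
    set q : ℤ := (Fintype.card F : ℤ)
    set P := q ^ j
    set N0 : ℤ := ((Φ.cnt 1 0 - 1 : ℕ) : ℤ)
    rw [show q * (q ^ 2 - 1) * (2 * N0) = 2 * (q ^ 2 - 1) * (q * N0) by ring, l1]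
    have hq2 : 0 ≤ q ^ 2 - 1 := by nlinarith
    nlinarith [mul_nonneg (mul_nonneg (sq_nonneg q) (show 0 ≤ P by positivity))
        ((poly_aux (q := q) (by linarith) hP).2.1),
      mul_nonneg (mul_nonneg hq2 (show 0 ≤ q by linarith)) (show 0 ≤ P - 1 by nlinarith)]
  · have ht := mono_T (F := F) (hM.Cs_bound_minus hm hK hno)
    rw [Nat.cast_sub (by omega : 1 ≤ Φ.m), Nat.cast_one] at ht
    have h := Φ.finrank_Xk_zero hM hK
    rw [h]
    ring_nf
    ring_nf at ht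
    linarith

end Frame

end CfsgLib.KnownA.OrthMinDeg
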