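import Mathlib

/-!
# Independence of idempotent-like operators along a chain or a fork
-/

set_option autoImplicit false

namespace CfsgLib.KnownA.OrthMinDeg

variable {W : Type*} [AddCommGroup W] [Module ℂ W]

/-- Operators of a chain: `U² = (1 + 1/q) U`, far ones multiply to zero, neighbours `UVU = U/q`. -/
structure ChainOps (q : ℝ) (r : ℕ) (U : ℕ → W →ₗ[ℂ] W) : Prop where
  hq : 2 ≤ q
  sq : ∀ i < r, ∀ x, U i (U i x) = ((1 + q⁻¹ : ℝ) : ℂ) • U i x
  far : ∀ i < r, ∀ j < r, i + 2 ≤ j ∨ j + 2 ≤ i → ∀ x, U i (U j x) = 0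
  adj : ∀ i, i + 1 < r → ∀ x, U i (U (i + 1) (U i x)) = ((q⁻¹ : ℝ) : ℂ) • U i x ∧
    U (i + 1) (U i (U (i + 1) x)) = ((q⁻¹ : ℝ) : ℂ) • U (i + 1) x

/-- The continuants. -/
noncomputable def dval (q : ℝ) : ℕ → ℝ
  | 0 => 1 + q⁻¹
  | i + 1 => 1 + q⁻¹ - (q * dval q i)⁻¹

theorem one_le_dval {q : ℝ} (hq : 2 ≤ q) : ∀ i, 1 ≤ dval q i
  | 0 => le_add_of_nonneg_right (by positivity)
  | i + 1 => by
    have h := one_le_dval hq i
    have h1 : (q * dval q i)⁻¹ ≤ q⁻¹ := inv_anti₀ (by linarith) (le_mul_of_one_le_right (by linarith) h)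
    show 1 ≤ 1 + q⁻¹ - (q * dval q i)⁻¹
    linarith

namespace ChainOps

variable {q : ℝ} {r : ℕ} {U : ℕ → W →ₗ[ℂ] W} (hU : ChainOps q r U)
include hU

theorem k_ne : ((1 + q⁻¹ : ℝ) : ℂ) ≠ 0 := by
  have : (0 : ℝ) < 1 + q⁻¹ := by have := hU.hq; positivity
  exact_mod_cast this.ne'

theorem q_ne : ((q⁻¹ : ℝ) : ℂ) ≠ 0 := by
  have : (0 : ℝ) < q⁻¹ := by have := hU.hq; positivity
  exact_mod_cast this.ne'

/-- One non-zero operator makes all non-zero. -/
theorem all_ne {i₀ : ℕ} (hi₀ : i₀ < r) (h0 : U i₀ ≠ 0) : ∀ i < r, U i ≠ 0 := by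
  have step : ∀ i, i + 1 < r → (U i = 0 ↔ U (i + 1) = 0) := fun i hi => by
    constructor <;> intro h <;> refine LinearMap.ext fun x => ?_
    · have h1 := (hU.adj i hi x).2
      rw [h, LinearMap.zero_apply, map_zero] at h1
      exact (smul_eq_zero.mp h1.symm).resolve_left hU.q_ne
    · have h1 := (hU.adj i hi x).1
      rw [h, LinearMap.zero_apply, map_zero] at h1
      exact (smul_eq_zero.mp h1.symm).resolve_left hU.q_ne
  have up : ∀ d i, i + d < r → (U i = 0 ↔ U (i + d) = 0) := by
    intro d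
    induction d with
    | zero => exact fun i _ => Iff.rfl
    | succ d ih => exact fun i hi => (ih i (by omega)).trans (step (i + d) (by omega))
  intro i hi h
  rcases Nat.le_total i i₀ with hle | hle
  · obtain ⟨d, rfl⟩ := Nat.exists_eq_add_of_le hle
    exact h0 ((up d i hi₀).mp h)
  · obtain ⟨d, rfl⟩ := Nat.exists_eq_add_of_le hle
    exact h0 ((up d i₀ hi).mpr h)

/-- Elimination along the chain. -/
theorem elim {w : ℕ → W} (hw : ∀ i < r, U i (w i) = ((1 + q⁻¹ : ℝ) : ℂ) • w i) {p : ℕ} (hp : p < r)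
    (heq : ∀ i < p, ((1 + q⁻¹ : ℝ) : ℂ) • w i + (if 0 < i then U i (w (i - 1)) else 0) +
      U i (w (i + 1)) = 0) :
    (∀ i < p, (dval q i : ℂ) • w i = -(U i (w (i + 1)))) ∧
      ((1 + q⁻¹ : ℝ) : ℂ) • w p + (if 0 < p then U p (w (p - 1)) else 0) = (dval q p : ℂ) • w p := by
  induction p with
  | zero =>
    refine ⟨fun i hi => absurd hi (Nat.not_lt_zero i), ?_⟩
    rw [if_neg (lt_irrefl 0), add_zero]
    rfl
  | succ p ih =>
    obtain ⟨h1, h2⟩ := ih (by omega) fun i hi => heq i (by omega)
    have h3 : (dval q p : ℂ) • w p = -(U p (w (p + 1))) := by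
      rw [← h2]
      exact eq_neg_of_add_eq_zero_left (heq p (by omega))
    refine ⟨fun i hi => ?_, ?_⟩
    · rcases Nat.lt_succ_iff_lt_or_eq.mp hi with hi | rfl
      · exact h1 i hi
      · exact h3
    rw [if_pos (Nat.succ_pos p), Nat.add_sub_cancel]
    have h4 := congrArg (U (p + 1)) h3
    rw [map_smul, map_neg] at h4
    have hk := hU.k_ne
    have h5 : U (p + 1) (U p (w (p + 1))) = ((q⁻¹ : ℝ) : ℂ) • w (p + 1) := by
      have h6 := (hU.adj p hp (w (p + 1))).2
      rw [hw _ hp, map_smul, map_smul, smul_comm ((q⁻¹ : ℝ) : ℂ)] at h6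
      exact smul_right_injective W hk h6
    rw [h5] at h4
    have hd : (dval q p : ℂ) ≠ 0 := by
      have : (0 : ℝ) < dval q p := by have := one_le_dval hU.hq p; linarith
      exact_mod_cast this.ne'
    have hq0 : (q : ℂ) ≠ 0 := by
      have : (0 : ℝ) < q := by have := hU.hq; linarith
      exact_mod_cast this.ne'
    refine smul_right_injective W hd ?_
    show (dval q p : ℂ) • _ = (dval q p : ℂ) • _
    rw [smul_add, h4, show dval q (p + 1) = 1 + q⁻¹ - (q * dval q p)⁻¹ from rfl]
    push_cast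
    match_scalars
    field_simp
    ring

/-- The equation obtained by applying one operator to a relation. -/
theorem apply_sum {w : ℕ → W} (hw : ∀ i < r, U i (w i) = ((1 + q⁻¹ : ℝ) : ℂ) • w i)
    (hz : ∀ i, r ≤ i → w i = 0) (him : ∀ i < r, ∃ y, U i y = w i) {i : ℕ} (hi : i < r) :
    U i (∑ l ∈ Finset.range (r + 1), w l) =
      ((1 + q⁻¹ : ℝ) : ℂ) • w i + (if 0 < i then U i (w (i - 1)) else 0) + U i (w (i + 1)) := by
  rw [map_sum]
  have hfar : ∀ l, l ≠ i → l ≠ i + 1 → l + 1 ≠ i → U i (w l) = 0 := fun l h1 h2 h3 => by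
    rcases Nat.lt_or_ge l r with hl | hl
    · obtain ⟨y, hy⟩ := him l hl
      rw [← hy]
      exact hU.far i hi l hl (by omega) y
    · rw [hz l hl, map_zero]
  split_ifs with h0
  · obtain ⟨j, rfl⟩ : ∃ j, i = j + 1 := ⟨i - 1, by omega⟩
    rw [← Finset.sum_subset (s₁ := ({j, j + 1, j + 1 + 1} : Finset ℕ))
      (by intro l hl; simp only [Finset.mem_insert, Finset.mem_singleton] at hl
          exact Finset.mem_range.mpr (by omega))
      (fun l _ hl => by
        simp only [Finset.mem_insert, Finset.mem_singleton, not_or] at hl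
        exact hfar l (by omega) (by omega) (by omega)),
      Finset.sum_insert (by simp; omega), Finset.sum_insert (by simp), Finset.sum_singleton, hw _ hi,
      Nat.add_sub_cancel]
    abel
  · obtain rfl : i = 0 := by omega
    rw [← Finset.sum_subset (s₁ := ({0, 1} : Finset ℕ))
      (by intro l hl; simp only [Finset.mem_insert, Finset.mem_singleton] at hl
          exact Finset.mem_range.mpr (by omega))
      (fun l _ hl => by
        simp only [Finset.mem_insert, Finset.mem_singleton, not_or] at hl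
        exact hfar l (by omega) (by omega) (by omega)),
      Finset.sum_insert (by simp), Finset.sum_singleton, hw _ hi, add_zero]

theorem back {w : ℕ → W} {p : ℕ} (h1 : ∀ i < p, (dval q i : ℂ) • w i = -(U i (w (i + 1))))
    (hp : w p = 0) : ∀ i ≤ p, w i = 0 := by
  have : ∀ d i, i + d = p → w i = 0 := by
    intro d
    induction d with
    | zero => intro i hi; rw [show i = p by omega]; exact hp
    | succ d ih =>
      intro i hi
      have h := h1 i (by omega)
      rw [ih (i + 1) (by omega), map_zero, neg_zero] at h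
      refine (smul_eq_zero.mp h).resolve_left ?_
      have h' : (0 : ℝ) < dval q i := by have := one_le_dval hU.hq i; linarith
      exact_mod_cast h'.ne'
  exact fun i hi => this (p - i) i (by omega)

/-- The chain bound. -/
theorem le_finrank [FiniteDimensional ℂ W] (hne : ∀ i < r, U i ≠ 0) : r ≤ Module.finrank ℂ W := by
  have hex : ∀ i : Fin r, ∃ y, U i y ≠ 0 := fun i => by
    by_contra hc
    push Not at hc
    exact hne i i.2 (LinearMap.ext hc)
  choose y hy using hex
  let u : Fin r → W := fun i => U i (y i)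
  have hli : LinearIndependent ℂ u := by
    rw [Fintype.linearIndependent_iff]
    intro g hg
    let w : ℕ → W := fun i => if h : i < r then g ⟨i, h⟩ • u ⟨i, h⟩ else 0
    have hwi : ∀ (i : Fin r), w i = g i • u i := fun i => dif_pos i.2
    have hw : ∀ i < r, U i (w i) = ((1 + q⁻¹ : ℝ) : ℂ) • w i := fun i hi => by
      show U i (dite _ _ _) = _ • dite _ _ _
      rw [dif_pos hi, map_smul, smul_comm]
      congr 1
      exact hU.sq i hi _
    have him : ∀ i < r, ∃ z, U i z = w i := fun i hi =>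
      ⟨g ⟨i, hi⟩ • y ⟨i, hi⟩, by rw [map_smul]; exact (hwi ⟨i, hi⟩).symm⟩
    have hz : ∀ i, r ≤ i → w i = 0 := fun i hi => dif_neg (by omega)
    have hsum : ∑ l ∈ Finset.range (r + 1), w l = 0 := by
      rw [Finset.sum_range_succ, hz r le_rfl, add_zero, ← Fin.sum_univ_eq_sum_range w r]
      simpa only [hwi] using hg
    intro i
    obtain ⟨p, hp⟩ : ∃ p, r = p + 1 := ⟨r - 1, by have := i.2; omega⟩
    have heq : ∀ l < r, _ := fun l hl => (hU.apply_sum hw hz him hl).symm.trans
      (by rw [hsum, map_zero] : U l (∑ l ∈ Finset.range (r + 1), w l) = 0)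
    obtain ⟨h1, h2⟩ := hU.elim hw (p := p) (by omega) fun l hl => heq l (by omega)
    have hlast := heq p (by omega)
    rw [hz (p + 1) (by omega), map_zero, add_zero, h2] at hlast
    have hp0 : w p = 0 := (smul_eq_zero.mp hlast).resolve_left (by
      have h' : (0 : ℝ) < dval q p := by have := one_le_dval hU.hq p; linarith
      exact_mod_cast h'.ne')
    have hwi0 := hU.back h1 hp0 i (by have := i.2; omega)
    rw [hwi] at hwi0
    exact (smul_eq_zero.mp hwi0).resolve_right (hy i)
  have := hli.fintype_card_le_finrank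
  rwa [Fintype.card_fin] at this

/-- The fork bound. -/
theorem fork_le_finrank [FiniteDimensional ℂ W] {T : W →ₗ[ℂ] W} (hr : 2 ≤ r)
    (hsq : ∀ x, T (T x) = ((1 + q⁻¹ : ℝ) : ℂ) • T x)
    (hfar : ∀ i < r, i + 2 ≠ r → ∀ x, U i (T x) = 0 ∧ T (U i x) = 0)
    (hadj : ∀ i, i + 2 = r → ∀ x, U i (T (U i x)) = ((q⁻¹ : ℝ) : ℂ) • U i x)
    (hne : ∀ i < r, U i ≠ 0) (hT : T ≠ 0) : r + 1 ≤ Module.finrank ℂ W := by
  obtain ⟨p, hp⟩ : ∃ p, r = p + 2 := ⟨r - 2, by omega⟩
  have hex : ∀ i : Fin r, ∃ y, U i y ≠ 0 := fun i => by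
    by_contra hc
    push Not at hc
    exact hne i i.2 (LinearMap.ext hc)
  choose y hy using hex
  obtain ⟨yT, hyT⟩ : ∃ y, T y ≠ 0 := by
    by_contra hc
    push Not at hc
    exact hT (LinearMap.ext hc)
  let u : Option (Fin r) → W := fun i => i.elim (T yT) fun i => U i (y i)
  have hli : LinearIndependent ℂ u := by
    rw [Fintype.linearIndependent_iff]
    intro g hg
    rw [Fintype.sum_option] at hg
    let w : ℕ → W := fun i => if h : i < r then g (some ⟨i, h⟩) • U i (y ⟨i, h⟩) else 0
    set wT := g none • T yT with hwT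
    have hwi : ∀ (i : Fin r), w i = g (some i) • U i (y i) := fun i => dif_pos i.2
    have hw : ∀ i < r, U i (w i) = ((1 + q⁻¹ : ℝ) : ℂ) • w i := fun i hi => by
      show U i (dite _ _ _) = _ • dite _ _ _
      rw [dif_pos hi, map_smul, smul_comm]
      congr 1
      exact hU.sq i hi _
    have him : ∀ i < r, ∃ z, U i z = w i := fun i hi =>
      ⟨g (some ⟨i, hi⟩) • y ⟨i, hi⟩, by rw [map_smul]; exact (hwi ⟨i, hi⟩).symm⟩
    have hz : ∀ i, r ≤ i → w i = 0 := fun i hi => dif_neg (by omega)
    have hsum : ∑ l ∈ Finset.range (r + 1), w l + wT = 0 := by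
      rw [Finset.sum_range_succ, hz r le_rfl, add_zero, ← Fin.sum_univ_eq_sum_range w r]
      rw [add_comm, hwT]
      simpa only [hwi, u, Option.elim] using hg
    have heq : ∀ l < r, ((1 + q⁻¹ : ℝ) : ℂ) • w l + (if 0 < l then U l (w (l - 1)) else 0) +
        U l (w (l + 1)) + U l wT = 0 := fun l hl => by
      rw [← hU.apply_sum hw hz him hl, ← map_add, hsum, map_zero]
    have hUT : ∀ l < r, l + 2 ≠ r → U l wT = 0 := fun l hl hlr => by
      rw [hwT, map_smul, (hfar l hl hlr yT).1, smul_zero]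
    obtain ⟨h1, h2⟩ := hU.elim hw (p := p) (by omega) fun l hl => by
      have := heq l (by omega)
      rwa [hUT l (by omega) (by omega), add_zero] at this
    have hk := hU.k_ne
    set k := ((1 + q⁻¹ : ℝ) : ℂ) with hkdef
    set qi := ((q⁻¹ : ℝ) : ℂ) with hqi
    have hTT : T wT = k • wT := by rw [hwT, map_smul, hsq, smul_comm]
    have hlast : k • w (p + 1) = -(U (p + 1) (w p)) := by
      have h := heq (p + 1) (by omega)
      rw [hz (p + 1 + 1) (by omega), map_zero, add_zero, hUT (p + 1) (by omega) (by omega), add_zero,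
        if_pos (Nat.succ_pos p), Nat.add_sub_cancel] at h
      exact eq_neg_of_add_eq_zero_left h
    have hTw : k • wT = -(T (w p)) := by
      refine eq_neg_of_add_eq_zero_left ?_
      have h := congrArg T hsum
      rw [map_zero, map_add, hTT, map_sum, Finset.sum_eq_single p] at h
      · rw [add_comm]; exact h
      · intro l _ hl
        rcases Nat.lt_or_ge l r with hlr | hlr
        · obtain ⟨z, hz'⟩ := him l hlr
          rw [← hz', (hfar l hlr (by omega) z).2]
        · rw [hz l hlr, map_zero]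
      · intro hmem
        exact absurd (Finset.mem_range.mpr (by omega)) hmem
    have e1 : k • (k • U p (w (p + 1))) = -((qi * k) • w p) := by
      have h := congrArg (U p) hlast
      rw [map_smul, map_neg] at h
      have h6 := (hU.adj p (by omega) (w p)).1
      rw [hw p (by omega), map_smul, map_smul, smul_smul] at h6
      rw [h, smul_neg, h6]
    have e2 : k • (k • U p wT) = -((qi * k) • w p) := by
      have h := congrArg (U p) hTw
      rw [map_smul, map_neg] at h
      have h6 := hadj p hp.symm (w p)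
      rw [hw p (by omega), map_smul, map_smul, smul_smul] at h6
      rw [h, smul_neg, h6]
    have hnode := heq p (by omega)
    rw [h2] at hnode
    have hfin : ((dval q p : ℂ) * (k * k) - 2 * (qi * k)) • w p = 0 := by
      have h := congrArg (fun z => k • (k • z)) hnode
      simp only [smul_add, smul_zero, e1, e2] at h
      rw [← h]
      module
    have hcoef : (dval q p : ℂ) * (k * k) - 2 * (qi * k) ≠ 0 := by
      have hd := one_le_dval hU.hq p
      have hq := hU.hq
      have hr' : (0 : ℝ) < dval q p * ((1 + q⁻¹) * (1 + q⁻¹)) - 2 * (q⁻¹ * (1 + q⁻¹)) := by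
        have hqi0 : (0 : ℝ) < q⁻¹ := by positivity
        have hqh : q⁻¹ ≤ 1 / 2 := by
          rw [one_div]; exact inv_anti₀ two_pos hq
        nlinarith [mul_le_mul_of_nonneg_right hd (mul_nonneg (by linarith : (0:ℝ) ≤ 1 + q⁻¹)
          (by linarith : (0:ℝ) ≤ 1 + q⁻¹))]
      rw [hkdef, hqi]
      exact_mod_cast hr'.ne'
    have hp0 := (smul_eq_zero.mp hfin).resolve_left hcoef
    have hl0 : w (p + 1) = 0 := by
      rw [hp0, map_zero, neg_zero] at hlast
      exact (smul_eq_zero.mp hlast).resolve_left hk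
    have hT0 : wT = 0 := by
      rw [hp0, map_zero, neg_zero] at hTw
      exact (smul_eq_zero.mp hTw).resolve_left hk
    rintro (_ | i)
    · exact (smul_eq_zero.mp hT0).resolve_right hyT
    · refine (smul_eq_zero.mp ((hwi i).symm.trans ?_)).resolve_right (hy i)
      rcases Nat.lt_or_ge i.1 (p + 1) with h | h
      · exact hU.back h1 hp0 i (by omega)
      · rw [show i.1 = p + 1 by have := i.2; omega]; exact hl0
  have := hli.fintype_card_le_finrank
  rwa [Fintype.card_option, Fintype.card_fin] at this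

end ChainOps

end CfsgLib.KnownA.OrthMinDeg
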