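import Cfsg.Agent.Lib.KnownA.OrthMinDeg.States
import Cfsg.Agent.Lib.KnownA.OrthMinDeg.Adjacent
import Cfsg.Agent.Lib.KnownA.OrthMinDeg.ChainIndep

/-!
# The torus on the last fixed space: the case of trivial coroots
-/

set_option autoImplicit false

namespace CfsgLib.KnownA.OrthMinDeg

open QuadraticMap CfsgLib.Geometry CfsgLib.KnownA.CentralChar

variable {F M : Type*} [Field F] [Fintype F] [AddCommGroup M] [Module F M] [Finite M]
  [FiniteDimensional F M]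
  {Q : QuadraticForm F M} {V : Type*} [AddCommGroup V] [Module ℂ V] [FiniteDimensional ℂ V]
  {ρ : Representation ℂ (siegelGroup Q) V}

namespace Frame

/-- The operator `1 - T`. -/
noncomputable def U (Φ : Frame Q) (ρ : Representation ℂ (siegelGroup Q) V) (i : ℕ) : V →ₗ[ℂ] V :=
  LinearMap.id - Φ.T ρ i

omit [Finite M] [FiniteDimensional F M] [FiniteDimensional ℂ V] in
theorem U_apply (Φ : Frame Q) (i : ℕ) (x : V) : Φ.U ρ i x = x - Φ.T ρ i x := rfl

omit [Fintype F] [Finite M] [FiniteDimensional F M] in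
theorem flip_e {Φ : Frame Q} {i : ℕ} (h : i + 1 ≠ Φ.m) : Φ.flip.e i = Φ.e i := if_neg h

omit [Fintype F] [Finite M] [FiniteDimensional F M] in
theorem flip_f {Φ : Frame Q} {i : ℕ} (h : i + 1 ≠ Φ.m) : Φ.flip.f i = Φ.f i := if_neg h

omit [Fintype F] [Finite M] [FiniteDimensional F M] in
theorem flip_e_last {Φ : Frame Q} {i : ℕ} (h : i + 1 = Φ.m) : Φ.flip.e i = Φ.f i := if_pos h

omit [Fintype F] [Finite M] [FiniteDimensional F M] in
theorem flip_f_last {Φ : Frame Q} {i : ℕ} (h : i + 1 = Φ.m) : Φ.flip.f i = Φ.e i := if_pos h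

omit [Fintype F] [Finite M] [FiniteDimensional F M] in
theorem exists_rest (Φ : Frame Q) (h : 0 < Module.finrank F (Φ.lev Φ.m)) :
    ∃ z ∈ Φ.lev Φ.m, Q z ≠ 0 := by
  by_contra hc
  push Not at hc
  rw [(Submodule.eq_bot_iff _).mpr fun z hz => Φ.aniso_last hz (hc z hz), finrank_bot] at h
  exact lt_irrefl 0 h

omit [Fintype F] [Finite M] [FiniteDimensional F M] in
theorem flip_n {Φ : Frame Q} {i : ℕ} (h : i + 2 < Φ.m) : Φ.flip.n i = Φ.n i := by
  simp only [Frame.n, flip_e (show i + 1 ≠ Φ.m by omega), flip_f (show i + 1 ≠ Φ.m by omega),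
    flip_e (show i + 1 + 1 ≠ Φ.m by omega), flip_f (show i + 1 + 1 ≠ Φ.m by omega)]

omit [Finite M] [FiniteDimensional F M] [FiniteDimensional ℂ V] in
theorem flip_U {Φ : Frame Q} {i : ℕ} (h : i + 2 < Φ.m) : Φ.flip.U ρ i = Φ.U ρ i := by
  simp only [Frame.U, Frame.T, flip_e (show i + 1 ≠ Φ.m by omega),
    flip_f (show i + 1 ≠ Φ.m by omega), flip_e (show i + 1 + 1 ≠ Φ.m by omega),
    flip_f (show i + 1 + 1 ≠ Φ.m by omega)]

end Frame

section Indep

variable {e f e' f' u v u' v' : M} (h : Indep Q e f e' f' u v u' v')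
include h

theorem Indep.Top_comm_Top (x : V) :
    Top ρ e f e' f' (Top ρ u v u' v' x) = Top ρ u v u' v' (Top ρ e f e' f' x) := by
  simp only [Top, LinearMap.comp_apply]
  rw [avA_comm h.nA, avA_comm (fun s => (h.An s).symm), avA_swap h.AA, ← rho_mul, h.nn.eq, rho_mul]

/-- If the product of the operators kills `x`, so does the product of the `1 - T`. -/
theorem Indep.U_U (hd : Two Q e f e' f') (hd' : Two Q u v u' v') {x : V}
    (hzero : Dop ρ e f e' f' (Dop ρ u v u' v' x) = 0) (hx : ∀ s, ρ (rA Q e f' s) x = x)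
    (hx' : ∀ s, ρ (rA Q u v' s) x = x)
    (hnn : ρ (rN Q u v u' v') (ρ (rN Q u v u' v') x) = x)
    (hsq : (Fintype.card F : ℂ) • Top ρ u v u' v' (Top ρ u v u' v' x) =
      x + ((Fintype.card F : ℂ) - 1) • Top ρ u v u' v' x) :
    Top ρ e f e' f' (x - Top ρ u v u' v' x) = x - Top ρ u v u' v' x := by
  have hq1 : (Fintype.card F : ℂ) - 1 ≠ 0 := by
    rw [sub_ne_zero]
    have h2 : 2 ≤ Fintype.card F := Fintype.one_lt_card
    norm_cast
    omega
  have h1 := (h.cons hd hzero hx).2.1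
  have h2 : Top ρ u v u' v' (Dop ρ u v u' v' x) = x - Top ρ u v u' v' (Top ρ u v u' v' x) := by
    rw [Dop, LinearMap.sub_apply, map_sub]
    congr 1
    rw [Top, LinearMap.comp_apply, hnn, avA_fixed hx']
  have h3 : ((Fintype.card F : ℂ) - 1) • (x - Top ρ u v u' v' x) =
      (Fintype.card F : ℂ) • Top ρ u v u' v' (Dop ρ u v u' v' x) := by
    rw [h2, smul_sub, smul_sub, hsq]
    module
  refine smul_right_injective V hq1 ?_
  show ((Fintype.card F : ℂ) - 1) • Top ρ e f e' f' _ = ((Fintype.card F : ℂ) - 1) • _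
  rw [← LinearMap.map_smul, h3, LinearMap.map_smul, h.Top_comm_Top, h1]

end Indep

/-- The coroots act trivially on the last fixed space. -/
def Triv (ρ : Representation ℂ (siegelGroup Q) V) (Φ : Frame Q) (X : Submodule ℂ V) : Prop :=
  ∀ y ∈ Cs ρ Φ X, ∀ k, k + 1 < Φ.m → ∀ c : F, c ≠ 0 → ρ (Φ.h k c) y = y

namespace Mod

variable {Φ : Frame Q} {X : Submodule ℂ V} (hM : Mod ρ Φ X)
include hM

theorem fix_rA {x : V} (hx : x ∈ Cs ρ Φ X) {i : ℕ} (hi : i + 1 < Φ.m) (s : F) :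
    ρ (rA Q (Φ.e i) (Φ.f (i + 1)) s) x = x :=
  hM.fix_e hx (by omega) (Submodule.smul_mem _ s ((Φ.pair_mem_lev (Nat.le_succ i) hi).2))
    (by rw [polar_smul_right', (Φ.two hi).ef', mul_zero])

theorem n_n (ht : Triv ρ Φ X) {x : V} (hx : x ∈ Cs ρ Φ X) {i : ℕ} (hi : i + 1 < Φ.m) :
    ρ (Φ.n i) (ρ (Φ.n i) x) = x := by
  rw [← rho_mul, Frame.n, rN_sq (Φ.two hi)]
  exact ht x hx i hi _ (neg_ne_zero.mpr one_ne_zero)

theorem T_T (ht : Triv ρ Φ X) {x : V} (hx : x ∈ Cs ρ Φ X) {i : ℕ} (hi : i + 1 < Φ.m) :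
    (Fintype.card F : ℂ) • Φ.T ρ i (Φ.T ρ i x) = x + ((Fintype.card F : ℂ) - 1) • Φ.T ρ i x := by
  classical
  rw [Frame.T, Top_Top (Φ.two hi) (W := Cs ρ Φ X) (fun v hv s => hM.fix_rA hv hi s)
    (fun v hv a ha => diag_mem hM (Φ.h_diag hi ha) hv) hx,
    show ρ (rH Q (Φ.e i) (Φ.f i) (Φ.e (i + 1)) (Φ.f (i + 1)) (-1)) x = x from
      ht x hx i hi _ (neg_ne_zero.mpr one_ne_zero)]
  congr 1
  rw [Finset.sum_congr rfl fun a ha => show ρ (rH Q (Φ.e i) (Φ.f i) (Φ.e (i + 1)) (Φ.f (i + 1)) a)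
      (Top ρ (Φ.e i) (Φ.f i) (Φ.e (i + 1)) (Φ.f (i + 1)) x) = _ from
      ht _ (hM.Top_mem hx hi) i hi a (Finset.ne_of_mem_erase ha),
    Finset.sum_const, Finset.card_erase_of_mem (Finset.mem_univ _), Finset.card_univ,
    ← Nat.cast_smul_eq_nsmul ℂ, Nat.cast_sub Fintype.card_pos, Nat.cast_one]

theorem U_mem {x : V} (hx : x ∈ Cs ρ Φ X) {i : ℕ} (hi : i + 1 < Φ.m) : Φ.U ρ i x ∈ Cs ρ Φ X :=
  sub_mem hx (hM.Top_mem hx hi)

theorem U_sq (ht : Triv ρ Φ X) {x : V} (hx : x ∈ Cs ρ Φ X) {i : ℕ} (hi : i + 1 < Φ.m) :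
    Φ.U ρ i (Φ.U ρ i x) = (1 + (Fintype.card F : ℂ)⁻¹) • Φ.U ρ i x := by
  have hq : (Fintype.card F : ℂ) ≠ 0 := Nat.cast_ne_zero.mpr Fintype.card_ne_zero
  refine smul_right_injective V hq ?_
  show (Fintype.card F : ℂ) • _ = (Fintype.card F : ℂ) • _
  simp only [Frame.U_apply, map_sub, smul_sub, hM.T_T ht hx hi]
  match_scalars <;> field_simp <;> ring

theorem U_far (ht : Triv ρ Φ X) {x : V} (hx : x ∈ Cs ρ Φ X) {i j : ℕ} (hij : i + 2 ≤ j)
    (hj : j + 1 < Φ.m) : Φ.U ρ i (Φ.U ρ j x) = 0 ∧ Φ.U ρ j (Φ.U ρ i x) = 0 := by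
  have hi : i + 1 < Φ.m := by omega
  have hI : Indep Q (Φ.e i) (Φ.f i) (Φ.e (i + 1)) (Φ.f (i + 1))
      (Φ.e j) (Φ.f j) (Φ.e (j + 1)) (Φ.f (j + 1)) := Mod.indep_far hi hj (Or.inl hij)
  have h0 := hM.far_zero hx hij hj
  refine ⟨sub_eq_zero.mpr ?_, sub_eq_zero.mpr ?_⟩
  · exact (hI.U_U (Φ.two hi) (Φ.two hj) (by rw [hI.Dop_Dop]; exact h0) (hM.fix_rA hx hi)
      (hM.fix_rA hx hj) (hM.n_n ht hx hj) (hM.T_T ht hx hj)).symm
  · exact (hI.symm.U_U (Φ.two hj) (Φ.two hi) h0 (hM.fix_rA hx hj)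
      (hM.fix_rA hx hi) (hM.n_n ht hx hi) (hM.T_T ht hx hi)).symm

theorem U_adj (ht : Triv ρ Φ X) {x : V} (hx : x ∈ Cs ρ Φ X) {i : ℕ} (hi : i + 2 < Φ.m) :
    Φ.U ρ i (Φ.U ρ (i + 1) (Φ.U ρ i x)) = (Fintype.card F : ℂ)⁻¹ • Φ.U ρ i x ∧
      Φ.U ρ (i + 1) (Φ.U ρ i (Φ.U ρ (i + 1) x)) = (Fintype.card F : ℂ)⁻¹ • Φ.U ρ (i + 1) x := by
  have h1 : i + 1 < Φ.m := by omega
  have h2 : i + 1 + 1 < Φ.m := by omega
  set q : ℂ := (Fintype.card F : ℂ) with hq
  have hq0 : q ≠ 0 := Nat.cast_ne_zero.mpr Fintype.card_ne_zero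
  have hb : Φ.T ρ i (Φ.T ρ (i + 1) (Φ.T ρ i x)) = Φ.T ρ (i + 1) (Φ.T ρ i (Φ.T ρ (i + 1) x)) :=
    Adj.braid ⟨Φ.two h1, Φ.two h2, Φ.orth i (by omega) (i + 2) hi (by omega)⟩ x
  have heq : Φ.U ρ i (Φ.U ρ (i + 1) (Φ.U ρ i x) - q⁻¹ • x) =
      Φ.U ρ (i + 1) (Φ.U ρ i (Φ.U ρ (i + 1) x) - q⁻¹ • x) := by
    refine smul_right_injective V hq0 ?_
    show q • _ = q • _
    simp only [Frame.U_apply, map_sub, LinearMap.map_smul, smul_sub, hq, hM.T_T ht hx h1,
      hM.T_T ht hx h2, hb]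
    match_scalars <;> field_simp <;> ring
  have m1 : Φ.U ρ (i + 1) (Φ.U ρ i x) - q⁻¹ • x ∈ Cs ρ Φ X :=
    sub_mem (hM.U_mem (hM.U_mem hx h1) h2) (Submodule.smul_mem _ _ hx)
  have m2 : Φ.U ρ i (Φ.U ρ (i + 1) x) - q⁻¹ • x ∈ Cs ρ Φ X :=
    sub_mem (hM.U_mem (hM.U_mem hx h2) h1) (Submodule.smul_mem _ _ hx)
  set Z := Φ.U ρ i (Φ.U ρ (i + 1) (Φ.U ρ i x) - q⁻¹ • x) with hZ
  have hneg : ∀ {k y}, y ∈ Cs ρ Φ X → k + 1 < Φ.m → q • Φ.T ρ k (Φ.U ρ k y) = -Φ.U ρ k y := by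
    intro k y hy hk
    have h := congrArg (fun t => q • t) (hM.U_sq ht hy hk)
    simp only [Frame.U_apply (x := Φ.U ρ k y), smul_sub, smul_smul] at h
    rw [mul_add, mul_one, ← hq, mul_inv_cancel₀ hq0, add_smul, one_smul, sub_eq_iff_eq_add] at h
    linear_combination (norm := module) -h
  have hZm : Z ∈ Cs ρ Φ X := hM.U_mem m1 h1
  have hz0 : Z = 0 := hM.no_common hi hZm (fun k hk c hc => ht Z hZm k hk c hc) (hneg m1 h1)
    (by rw [heq]; exact hneg m2 h2)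
  constructor
  · rw [← sub_eq_zero, ← hz0, hZ, map_sub, LinearMap.map_smul]
  · rw [← sub_eq_zero, ← hz0, heq, map_sub, LinearMap.map_smul]

/-- A fixed vector of the Hecke operator is fixed by the Weyl element. -/
theorem n_fix (ht : Triv ρ Φ X) {x : V} (hx : x ∈ Cs ρ Φ X) {i : ℕ} (hi : i + 1 < Φ.m)
    (hT : Φ.T ρ i x = x) : ρ (Φ.n i) x = x := by
  classical
  have hd := Φ.two hi
  set e := Φ.e i
  set f := Φ.f i
  set e' := Φ.e (i + 1)
  set f' := Φ.f (i + 1)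
  set n := Φ.n i with hn
  set q : ℂ := (Fintype.card F : ℂ) with hq
  have hq0 : q ≠ 0 := Nat.cast_ne_zero.mpr Fintype.card_ne_zero
  have hA : ∀ s, ρ (rA Q e f' s) x = x := fun s => hM.fix_rA hx hi s
  have hterm : ∀ s, ρ n (ρ (rA Q e f' s) (ρ n x)) = ρ (rA Q f e' s) x := fun s => by
    have h1 : n * rA Q e f' s * n⁻¹ = rA Q f e' s := rN_rA hd s
    conv_rhs => rw [← hM.n_n ht hx hi]
    rw [← hn, ← h1]
    simp only [← rho_mul]
    congr 1
    group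
  have hinv : ∀ a : F, a ≠ 0 → ρ (rA Q f e' a⁻¹) x = ρ (rA Q e f' (-a)) (ρ n x) := fun a ha => by
    rw [rB_eq hd ha, rho_mul, hA, rho_mul, rho_mul]
    congr 1
    have hc : Φ.h i a * n = n * Φ.h i a⁻¹ := by
      have := Φ.n_inv_h (i := i) (k := i) hi hi ha
      rwa [if_pos rfl] at this
    show ρ (Φ.h i a) (ρ n x) = ρ n x
    rw [← rho_mul, hc, rho_mul, ht x hx i hi _ (inv_ne_zero ha)]
  have hsum1 : q • ρ n (Φ.T ρ i x) = ∑ s, ρ (rA Q f e' s) x := by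
    rw [Frame.T, Top, LinearMap.comp_apply, avA, proj_one_apply, LinearMap.map_smul, smul_smul, hq,
      mul_inv_cancel₀ (Nat.cast_ne_zero.mpr Fintype.card_ne_zero), one_smul, map_sum]
    exact Finset.sum_congr rfl fun s _ => hterm s
  have hsum2 : ∑ s, ρ (rA Q f e' s) x = x + q • Φ.T ρ i x - ρ n x := by
    have hall : ∑ a, ρ (rA Q e f' (-a)) (ρ n x) = q • Φ.T ρ i x := by
      rw [Frame.T, Top, LinearMap.comp_apply, avA, proj_one_apply, smul_smul, hq,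
        mul_inv_cancel₀ (Nat.cast_ne_zero.mpr Fintype.card_ne_zero), one_smul]
      exact Equiv.sum_comp (Equiv.neg F) fun a => ρ (rA Q e f' a) (ρ n x)
    rw [← hall, ← Finset.add_sum_erase (f := fun a => ρ (rA Q e f' (-a)) (ρ n x)) _
      (Finset.mem_univ (0 : F)), ← Finset.add_sum_erase _ _ (Finset.mem_univ (0 : F))]
    simp only [neg_zero, rA_zero, rho_one]
    rw [add_sub_assoc, add_sub_cancel_left]
    congr 1
    refine Finset.sum_nbij' (fun s => s⁻¹) (fun a => a⁻¹) ?_ ?_ ?_ ?_ ?_ <;>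
      intro a ha <;> simp only [Finset.mem_erase, Finset.mem_univ, and_true, Finset.coe_erase,
        Set.mem_diff, Set.mem_singleton_iff, Finset.coe_univ, Set.mem_univ, true_and, ne_eq,
        inv_eq_zero, inv_inv] at ha ⊢
    · exact ha
    · exact ha
    · rw [← hinv _ (inv_ne_zero ha), inv_inv]
  rw [hsum1.symm, hT] at hsum2
  have hq1 : q + 1 ≠ 0 := by
    rw [hq]; exact Nat.cast_add_one_ne_zero _
  refine smul_right_injective V hq1 ?_
  show (q + 1) • _ = (q + 1) • x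
  linear_combination (norm := module) hsum2

/-- A vector fixed by enough Weyl elements is fixed by everything. -/
theorem fixed_all (hm : 1 ≤ Φ.m) {x : V} (hx : x ∈ Cs ρ Φ X)
    (hn : ∀ i, i + 1 < Φ.m → ρ (Φ.n i) x = x) {g₀ : siegelGroup Q} (hg₀ : g₀ ∈ SH Q Φ.H)
    (hg₀x : ρ g₀ x = x) {j : ℕ} (hj : j < Φ.m) {c : F} (hc : c ≠ 0)
    (hlink : g₀.1 (Φ.e j) = c • Φ.f (Φ.m - 1)) : ∀ g ∈ SH Q Φ.H, ρ g x = x := by
  let W : M → Prop := fun u => u ∈ Φ.H ∧ Q u = 0 ∧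
    ∀ y ∈ Φ.H, polar Q u y = 0 → ρ (sg Q u y) x = x
  have Wsmul : ∀ u (t : F), W u → W (t • u) := fun u t hu => by
    refine ⟨Φ.H.smul_mem _ hu.1, by rw [map_smul', hu.2.1, mul_zero], fun y hy hty => ?_⟩
    rcases eq_or_ne t 0 with rfl | ht0
    · rw [zero_smul, show sg Q (0 : M) y = 1 from ext' fun v => by
        rw [sg_apply (QuadraticMap.map_zero Q) (polar_zero_left (Q := Q) y), polar_zero_right, one_apply']
        module, rho_one]
    have huy : polar Q u y = 0 := by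
      rw [polar_smul_left'] at hty; exact (mul_eq_zero.mp hty).resolve_left ht0
    rw [sg_smul_left hu.2.1 huy]
    exact hu.2.2 _ (Φ.H.smul_mem _ hy) (by rw [polar_smul_right', huy, mul_zero])
  have Wmap : ∀ u (g : siegelGroup Q), g ∈ SH Q Φ.H → ρ g x = x → W u → W (g.1 u) := by
    intro u g hg hgx hu
    refine ⟨SH_map hg hu.1, by rw [mem_orth', hu.2.1], fun y hy huy => ?_⟩
    have h1 : polar Q u ((g⁻¹).1 y) = 0 := by rw [← polar' g, apply_inv_self]; exact huy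
    conv_lhs => rw [← hgx]
    rw [← rho_mul, mul_sg, inv_apply_self, rho_mul, hu.2.2 _ ((SH_props hg).2.1 y hy) h1, hgx]
  have hnmem : ∀ i, i + 1 < Φ.m → Φ.n i ∈ SH Q Φ.H := fun i hi =>
    rN_mem (Φ.mem i (by omega)).1 (Φ.mem i (by omega)).2 (Φ.mem _ hi).1 (Φ.mem _ hi).2
  have hninv : ∀ i, i + 1 < Φ.m → ρ (Φ.n i)⁻¹ x = x := fun i hi => by
    conv_lhs => rw [← hn i hi]
    rw [rho_inv_self]
  have he0 : W (Φ.e 0) := ⟨(Φ.mem 0 hm).1, (Φ.hyp 0 hm).qe, fun y hy h => hM.fix_e hx hm hy h⟩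
  have hes : ∀ i, i < Φ.m → W (Φ.e i) := by
    intro i
    induction i with
    | zero => exact fun _ => he0
    | succ i ih =>
      intro hi
      have := Wmap _ _ (hnmem i hi) (hn i hi) (ih (by omega))
      rwa [Frame.n, rN_e (Φ.two hi)] at this
  have hflast : W (Φ.f (Φ.m - 1)) := by
    have := Wsmul _ c⁻¹ (Wmap _ _ hg₀ hg₀x (hes j hj))
    rwa [hlink, inv_smul_smul₀ hc] at this
  have hfs : ∀ d i, i + d + 1 = Φ.m → W (Φ.f i) := by
    intro d
    induction d with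
    | zero => intro i hi; rwa [show i = Φ.m - 1 by omega]
    | succ d ih =>
      intro i hi
      have := Wmap _ _ (inv_mem (hnmem i (by omega))) (hninv i (by omega)) (ih (i + 1) (by omega))
      rwa [Frame.n, rN_inv_f' (Φ.two (by omega))] at this
  have hf0 : W (Φ.f 0) := hfs (Φ.m - 1) 0 (by omega)
  have hyp := Φ.hyp 0 hm
  -- a point not orthogonal to one of the first pair
  have key : ∀ {a b}, Hyp Q a b → W a → W b → ∀ u ∈ Φ.H, Q u = 0 → polar Q u a ≠ 0 → W u := by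
    intro a b hab ha hb u hu hq hne
    set β := polar Q u a with hβ
    set r := u - polar Q u b • a - β • b with hr
    obtain ⟨hrH, ra, rb⟩ : r ∈ Φ.H ∧ polar Q a r = 0 ∧ polar Q b r = 0 :=
      mem_perp2.mp (decomp_mem hab ha.1 hb.1 hu)
    set t := β⁻¹ • r with ht'
    have hat : polar Q a t = 0 := by rw [ht', polar_smul_right', ra, mul_zero]
    have hg : ρ (sg Q a t) x = x := ha.2.2 t (Φ.H.smul_mem _ hrH) hat
    have h1 := Wsmul _ β (Wmap _ _ (sg_mem_SH ha.1 (Φ.H.smul_mem _ hrH)) hg hb)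
    have hu' : u = polar Q u b • a + β • b + r := by rw [hr]; module
    have hQr : polar Q u b * β + Q r = 0 := by
      have h0 : Q (polar Q u b • a + β • b + r) = 0 := by rw [← hu']; exact hq
      simpa [map_add', map_smul', hab.qe, hab.qf, polar_add_left, polar_smul_left',
        polar_smul_right', hab.pol, ra, rb, mul_comm β] using h0
    have hval : β • (sg Q a t).1 b = u := by
      rw [sg_apply hab.qe hat, hab.pol', ht', polar_smul_right', rb, map_smul',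
        show Q r = -(polar Q u b * β) by linear_combination hQr]
      conv_rhs => rw [hu']
      match_scalars <;> field_simp <;> ring
    rwa [hval] at h1
  have hall : ∀ u ∈ Φ.H, Q u = 0 → W u := by
    intro u hu hq
    by_cases h1 : polar Q u (Φ.e 0) ≠ 0
    · exact key hyp he0 hf0 u hu hq h1
    by_cases h2 : polar Q u (Φ.f 0) ≠ 0
    · exact key hyp.symm hf0 he0 u hu hq h2
    push Not at h1 h2
    rcases eq_or_ne u 0 with rfl | hu0
    · simpa using Wsmul _ 0 he0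
    have hu1 : u ∈ Φ.lev 1 :=
      mem_perp2.mpr ⟨hu, by rw [polar_comm]; exact h1, by rw [polar_comm]; exact h2⟩
    obtain ⟨h, hh, huh⟩ : ∃ h ∈ Φ.lev 1, polar Q u h ≠ 0 := by
      by_contra hcon
      push Not at hcon
      exact hu0 (Φ.lev_nd hm u hu1 hcon)
    obtain ⟨hhH, he, -⟩ := mem_perp2.mp hh
    have hgm : sg Q (Φ.e 0) h ∈ SH Q Φ.H := sg_mem_SH he0.1 hhH
    have hgx : ρ (sg Q (Φ.e 0) h) x = x := he0.2.2 h hhH he
    have hgu : (sg Q (Φ.e 0) h).1 u = u - polar Q u h • Φ.e 0 := by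
      rw [sg_apply hyp.qe he, h1]; module
    have h3 : W ((sg Q (Φ.e 0) h).1 u) := by
      refine key hyp.symm hf0 he0 _ (SH_map hgm hu) (by rw [mem_orth', hq]) ?_
      rw [hgu, polar_sub_left, h2, polar_smul_left', hyp.pol, mul_one, zero_sub]
      exact neg_ne_zero.mpr huh
    have h4 := Wmap _ _ (inv_mem hgm) (by conv_lhs => rw [← hgx]
                                          rw [rho_inv_self]) h3
    rwa [inv_apply_self] at h4
  intro g hg
  refine mem_fixer ρ |>.mp ((Subgroup.closure_le (K := fixer ρ x)).mpr ?_ hg)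
  rintro _ ⟨u, hu, y, hy, rfl⟩
  show ρ (sg Q u y) x = x
  by_cases h : Q u = 0 ∧ polar Q u y = 0
  · exact (hall u hu h.1).2.2 y hy h.2
  · rw [sg, dif_neg h, rho_one]

/-- The restriction of `1 - T` to the last fixed space. -/
noncomputable def Uop (i : ℕ) : Cs ρ Φ X →ₗ[ℂ] Cs ρ Φ X :=
  if hi : i + 1 < Φ.m then (Φ.U ρ i).restrict fun _ hx => hM.U_mem hx hi else 0

theorem Uop_coe {i : ℕ} (hi : i + 1 < Φ.m) (x : Cs ρ Φ X) : (hM.Uop i x : V) = Φ.U ρ i x := by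
  rw [Uop, dif_pos hi]; rfl

theorem chainOps (ht : Triv ρ Φ X) : ChainOps (Fintype.card F : ℝ) (Φ.m - 1) hM.Uop where
  hq := by
    have h2 : 2 ≤ Fintype.card F := Fintype.one_lt_card
    exact_mod_cast h2
  sq i hi x := Subtype.ext (by
    rw [hM.Uop_coe (by omega), hM.Uop_coe (by omega), Submodule.coe_smul, hM.Uop_coe (by omega),
      hM.U_sq ht x.2 (by omega)]
    push_cast
    rfl)
  far i hi j hj hij x := Subtype.ext (by
    rw [hM.Uop_coe (by omega), hM.Uop_coe (by omega)]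
    rcases hij with h | h
    · exact (hM.U_far ht x.2 h (by omega)).1
    · exact (hM.U_far ht x.2 h (by omega)).2)
  adj i hi x := by
    obtain ⟨a, b⟩ := hM.U_adj ht x.2 (i := i) (by omega)
    refine ⟨Subtype.ext ?_, Subtype.ext ?_⟩ <;>
      simp only [hM.Uop_coe (show i + 1 < Φ.m by omega), hM.Uop_coe (show i + 1 + 1 < Φ.m by omega),
        Submodule.coe_smul] <;> push_cast
    · exact a
    · exact b

theorem fixed_of_Uop (ht : Triv ρ Φ X) (hz : ∀ i, i + 1 < Φ.m → hM.Uop i = 0) {x : V}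
    (hx : x ∈ Cs ρ Φ X) : ∀ i, i + 1 < Φ.m → ρ (Φ.n i) x = x := fun i hi => by
  refine hM.n_fix ht hx hi ?_
  have h := hM.Uop_coe hi ⟨x, hx⟩
  rw [hz i hi, LinearMap.zero_apply, Submodule.coe_zero] at h
  exact (sub_eq_zero.mp h.symm).symm

/-- Without fixed vectors, a vector off the pairs rules out the trivial chain. -/
theorem exists_Uop_ne_zero (hm : 3 ≤ Φ.m) (hno : ∀ x ∈ X, (∀ g ∈ SH Q Φ.H, ρ g x = x) → x = 0)
    (ht : Triv ρ Φ X) {z : M} (hz : z ∈ Φ.lev Φ.m) (hz0 : Q z ≠ 0) :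
    ∃ i, i + 1 < Φ.m ∧ hM.Uop i ≠ 0 := by
  by_contra hc
  push Not at hc
  obtain ⟨x, hx, hx0⟩ :=
    Submodule.exists_mem_ne_zero_of_ne_bot (last_ne_bot hM.cond hM.good hM.full hm)
  obtain ⟨-, hzp⟩ := (Φ.mem_lev _).mp hz
  obtain ⟨p, hp⟩ : ∃ p, p + 1 = Φ.m := ⟨Φ.m - 1, by omega⟩
  have hpm : p < Φ.m := by omega
  obtain ⟨hep, hfp⟩ := Φ.mem p hpm
  have hzH := Φ.lev_le _ hz
  have hzl : z ∈ Φ.lev p := Φ.lev_mono (by omega) hz
  have hgx : ρ (wN Q (Φ.e p) (Φ.f p) z) x = x := by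
    rw [wN, rho_mul, rho_mul, hM.fix_e hx hpm hzl (hzp p hpm).1,
      hM.fix_bottom hx hp (by rw [hp]; exact Submodule.smul_mem _ _ hz),
      hM.fix_e hx hpm hzl (hzp p hpm).1]
  refine hx0 (hno x ((mem_Xk ρ Φ X _).mp hx).1 (hM.fixed_all (by omega) hx (hM.fixed_of_Uop ht hc hx)
    (wN_mem hep hfp hzH) hgx hpm (c := -(Q z)⁻¹) (neg_ne_zero.mpr (inv_ne_zero hz0)) ?_))
  rw [wN_apply (Φ.hyp p hpm) (hzp p hpm).1 (hzp p hpm).2 hz0, (Φ.hyp p hpm).pol, (Φ.hyp p hpm).ee,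
    (hzp p hpm).1, show Φ.m - 1 = p by omega]
  module

/-- The bound when nothing is left over. -/
theorem Cs_bound_plus (hm : 4 ≤ Φ.m) (hK : Module.finrank F (Φ.lev Φ.m) = 0)
    (hno : ∀ x ∈ X, (∀ g ∈ SH Q Φ.H, ρ g x = x) → x = 0) :
    Φ.m ≤ Module.finrank ℂ (Cs ρ Φ X) := by
  classical
  by_cases ht : Triv ρ Φ X
  swap
  · simp only [Triv, not_forall] at ht
    obtain ⟨y, hy, k, hk, c, hc, hne⟩ := ht
    obtain ⟨χ, x, hx, hn⟩ := exists_eig hM hk hc hy hne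
    exact caseA hM (by omega) (fun h => absurd h (by omega)) hx ⟨k, hk, hn⟩
  by_cases ht' : Triv ρ Φ.flip X
  swap
  · simp only [Triv, not_forall] at ht'
    obtain ⟨y, hy, k, hk, c, hc, hne⟩ := ht'
    obtain ⟨χ, x, hx, hn⟩ := exists_eig hM.flip hk hc hy hne
    have := caseA hM.flip (show 3 ≤ Φ.m by omega) (fun h => absurd (show Φ.m = 3 from h) (by omega))
      hx ⟨k, hk, hn⟩
    rwa [hM.Cs_flip] at this
  have hF := hM.flip
  have hflip : ∀ {x}, x ∈ Cs ρ Φ X → x ∈ Cs ρ Φ.flip X := fun hx => by rwa [hM.Cs_flip]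
  obtain ⟨p, hp⟩ : ∃ p, p + 2 = Φ.m := ⟨Φ.m - 2, by omega⟩
  have hp' : p + 1 < Φ.flip.m := show p + 1 < Φ.m by omega
  let T : Cs ρ Φ X →ₗ[ℂ] Cs ρ Φ X := (Φ.flip.U ρ p).restrict fun x hx => by
    have := hF.U_mem (hflip hx) hp'
    rwa [hM.Cs_flip] at this
  have Tcoe : ∀ x, (T x : V) = Φ.flip.U ρ p x := fun x => rfl
  have hC := hM.chainOps ht
  set q : ℝ := (Fintype.card F : ℝ) with hq
  have hadjT : ∀ i, i + 3 = Φ.m → ∀ x : Cs ρ Φ X,
      hM.Uop i (T (hM.Uop i x)) = ((q⁻¹ : ℝ) : ℂ) • hM.Uop i x ∧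
      T (hM.Uop i (T x)) = ((q⁻¹ : ℝ) : ℂ) • T x := by
    intro i hi x
    obtain ⟨a, b⟩ := hF.U_adj ht' (hflip x.2) (i := i) (show i + 2 < Φ.m by omega)
    rw [show i + 1 = p by omega, Frame.flip_U (show i + 2 < Φ.m by omega)] at a b
    refine ⟨Subtype.ext ?_, Subtype.ext ?_⟩ <;>
      simp only [hM.Uop_coe (show i + 1 < Φ.m by omega), Tcoe, Submodule.coe_smul, hq] <;> push_cast
    · exact a
    · exact b
  have hfarT : ∀ i, i < Φ.m - 1 → i + 3 ≠ Φ.m → ∀ x : Cs ρ Φ X,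
      hM.Uop i (T x) = 0 ∧ T (hM.Uop i x) = 0 := by
    intro i hi hne x
    suffices h : Φ.U ρ i (Φ.flip.U ρ p x) = 0 ∧ Φ.flip.U ρ p (Φ.U ρ i x) = 0 by
      refine ⟨Subtype.ext ?_, Subtype.ext ?_⟩ <;>
        simp only [hM.Uop_coe (show i + 1 < Φ.m by omega), Tcoe, Submodule.coe_zero]
      · exact h.1
      · exact h.2
    rcases Nat.lt_or_ge i p with hlt | hge
    · have h := hF.U_far ht' (hflip x.2) (i := i) (j := p) (by omega) hp'
      rwa [Frame.flip_U (show i + 2 < Φ.m by omega)] at h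
    obtain rfl : i = p := by omega
    obtain ⟨hI, h0⟩ := hM.fork_zero hK hp x.2
    have hi1 : i + 1 < Φ.m := by omega
    have hd := Φ.two hi1
    have a1 := hF.fix_rA (hflip x.2) hp'
    have a2 := hF.n_n ht' (hflip x.2) hp'
    have a3 := hF.T_T ht' (hflip x.2) hp'
    simp only [Frame.T, Frame.n, Frame.flip_e (show i + 1 ≠ Φ.m by omega),
      Frame.flip_f (show i + 1 ≠ Φ.m by omega), Frame.flip_e_last (show i + 1 + 1 = Φ.m by omega),
      Frame.flip_f_last (show i + 1 + 1 = Φ.m by omega)] at a1 a2 a3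
    simp only [Frame.U_apply, Frame.T, Frame.flip_e (show i + 1 ≠ Φ.m by omega),
      Frame.flip_f (show i + 1 ≠ Φ.m by omega), Frame.flip_e_last (show i + 1 + 1 = Φ.m by omega),
      Frame.flip_f_last (show i + 1 + 1 = Φ.m by omega)]
    refine ⟨sub_eq_zero.mpr ?_, sub_eq_zero.mpr ?_⟩
    · exact (hI.U_U hd hd.swapR h0 (hM.fix_rA x.2 hi1) a1 a2 a3).symm
    · exact (hI.symm.U_U hd.swapR hd (by rw [hI.symm.Dop_Dop]; exact h0) a1 (hM.fix_rA x.2 hi1)
        (hM.n_n ht x.2 hi1) (hM.T_T ht x.2 hi1)).symm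
  obtain ⟨l, hl⟩ : ∃ l, l + 3 = Φ.m := ⟨Φ.m - 3, by omega⟩
  by_cases hz : ∀ i, i + 1 < Φ.m → hM.Uop i = 0
  · exfalso
    obtain ⟨x, hx, hx0⟩ :=
      Submodule.exists_mem_ne_zero_of_ne_bot (last_ne_bot hM.cond hM.good hM.full (by omega))
    have hT0 : T ⟨x, hx⟩ = 0 := by
      have h := (hadjT l hl ⟨x, hx⟩).2
      rw [hz l (by omega), LinearMap.zero_apply, map_zero] at h
      exact (smul_eq_zero.mp h.symm).resolve_left hC.q_ne
    have hθ : ρ (Φ.flip.n p) x = x := hF.n_fix ht' (hflip hx) hp' (by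
      have h := Tcoe ⟨x, hx⟩
      rw [hT0, Submodule.coe_zero] at h
      exact (sub_eq_zero.mp h.symm).symm)
    refine hx0 (hno x ((mem_Xk ρ Φ X _).mp hx).1 (hM.fixed_all (by omega) hx
      (hM.fixed_of_Uop ht hz hx) (g₀ := Φ.flip.n p)
      (rN_mem (Φ.flip.mem p (show p < Φ.m by omega)).1 (Φ.flip.mem p (show p < Φ.m by omega)).2
        (Φ.flip.mem _ hp').1 (Φ.flip.mem _ hp').2)
      hθ (show p < Φ.m by omega) (c := (1 : F)) one_ne_zero ?_))
    rw [one_smul, Frame.n, ← Frame.flip_e (Φ := Φ) (show p + 1 ≠ Φ.m by omega),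
      rN_e (Φ.flip.two hp'), Frame.flip_e_last (show p + 1 + 1 = Φ.m by omega),
      show Φ.m - 1 = p + 1 by omega]
  push Not at hz
  obtain ⟨i₀, hi₀, hne⟩ := hz
  have hall := hC.all_ne (show i₀ < Φ.m - 1 by omega) hne
  have hTne : T ≠ 0 := fun h0 => hall l (by omega) (LinearMap.ext fun x => by
    have h := (hadjT l hl x).1
    rw [h0, LinearMap.zero_apply, map_zero] at h
    exact (smul_eq_zero.mp h.symm).resolve_left hC.q_ne)
  have := hC.fork_le_finrank (T := T) (by omega)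
    (fun x => Subtype.ext (by
      rw [Tcoe, Tcoe, Submodule.coe_smul, Tcoe, hF.U_sq ht' (hflip x.2) hp']
      simp only [hq]; push_cast; rfl))
    (fun i hi hne x => hfarT i hi (by omega) x) (fun i hi x => (hadjT i (by omega) x).1) hall hTne
  omega

/-- The bound when a plane is left over. -/
theorem Cs_bound_minus (hm : 3 ≤ Φ.m) (hK : Module.finrank F (Φ.lev Φ.m) = 2)
    (hno : ∀ x ∈ X, (∀ g ∈ SH Q Φ.H, ρ g x = x) → x = 0) :
    Φ.m - 1 ≤ Module.finrank ℂ (Cs ρ Φ X) := by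
  by_cases ht : Triv ρ Φ X
  swap
  · simp only [Triv, not_forall] at ht
    obtain ⟨y, hy, k, hk, c, hc, hne⟩ := ht
    obtain ⟨χ, x, hx, hn⟩ := exists_eig hM hk hc hy hne
    rcases Nat.eq_or_lt_of_le hm with h3 | h4
    · have := caseA_two hM hm hx ⟨k, hk, hn⟩
      omega
    · have := caseA hM hm (fun h => absurd h (by omega)) hx ⟨k, hk, hn⟩
      omega
  obtain ⟨z, hz, hz0⟩ := Φ.exists_rest (by omega)
  obtain ⟨i₀, hi₀, hne⟩ := hM.exists_Uop_ne_zero hm hno ht hz hz0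
  exact (hM.chainOps ht).le_finrank ((hM.chainOps ht).all_ne (by omega) hne)

end Mod

end CfsgLib.KnownA.OrthMinDeg
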