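import Cfsg.Agent.Lib.KnownA.OrthMinDeg.Inherit

/-!
# The chain of fixed spaces of a frame
-/

set_option autoImplicit false

namespace CfsgLib.KnownA.OrthMinDeg

open QuadraticMap CfsgLib.Geometry CfsgLib.KnownA.CentralChar

variable {F M : Type*} [Field F] [Finite F] [AddCommGroup M] [Module F M] [Finite M]
  [FiniteDimensional F M]
  {Q : QuadraticForm F M} {V : Type*} [AddCommGroup V] [Module ℂ V] [FiniteDimensional ℂ V]

variable (ρ : Representation ℂ (siegelGroup Q) V)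

/-- The subspaces fixed by the radicals of the first `k` points. -/
noncomputable def Xk (Φ : Frame Q) (X : Submodule ℂ V) : ℕ → Submodule ℂ V
  | 0 => X
  | k + 1 => wsp ρ (Xk Φ X k) (Φ.lev k) (Φ.e k) (Φ.f k) 0

theorem Xk_succ (Φ : Frame Q) (X : Submodule ℂ V) (k : ℕ) :
    Xk ρ Φ X (k + 1) = wsp ρ (Xk ρ Φ X k) (Φ.lev k) (Φ.e k) (Φ.f k) 0 := rfl

theorem Xk_mono (Φ : Frame Q) (X : Submodule ℂ V) {k l : ℕ} (h : k ≤ l) :
    Xk ρ Φ X l ≤ Xk ρ Φ X k := by
  induction h with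
  | refl => exact le_rfl
  | step _ ih => exact inf_le_left.trans ih

theorem mem_Xk (Φ : Frame Q) (X : Submodule ℂ V) {v : V} : ∀ k : ℕ,
    v ∈ Xk ρ Φ X k ↔ v ∈ X ∧ ∀ i < k, ∀ x ∈ Φ.lev (i + 1), ρ (sg Q (Φ.e i) x) v = v
  | 0 => by simp [Xk]
  | k + 1 => by
    rw [Xk_succ, mem_fixed_iff, mem_Xk Φ X k, ← Φ.lev_succ]
    constructor
    · rintro ⟨⟨h, hi⟩, hk⟩
      refine ⟨h, fun i hik => ?_⟩
      rcases Nat.lt_succ_iff_lt_or_eq.mp hik with hik | rfl
      · exact hi i hik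
      · exact hk
    · rintro ⟨h, hi⟩
      exact ⟨⟨h, fun i hik => hi i (by omega)⟩, hi k (by omega)⟩

/-- The range of the theorem: more than three elements, or a plane left over. -/
def Cond (Φ : Frame Q) : Prop := 3 < Nat.card F ∨ Module.finrank F (Φ.lev Φ.m) = 2

variable {ρ}

omit [Finite F] [Finite M] [FiniteDimensional F M] in
theorem linearIndependent_three {e' f' d ds u : M} (h : Hyp Q e' f') (hd : Hyp Q d ds)
    (h1 : polar Q f' d = 0) (h2 : polar Q f' u = 0) (h3 : polar Q ds u = 0)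
    (h4 : polar Q ds e' = 0) (hu : u ≠ 0) : LinearIndependent F ![e', d, u] := by
  rw [Fintype.linearIndependent_iff]
  intro g hg
  simp only [Fin.sum_univ_three, Matrix.cons_val_zero, Matrix.cons_val_one, Matrix.cons_val] at hg
  have a0 : g 0 = 0 := by
    have := congrArg (fun t => polar Q f' t) hg
    simpa [polar_add_right, polar_smul_right', h.pol', h1, h2] using this
  have a1 : g 1 = 0 := by
    have := congrArg (fun t => polar Q ds t) hg
    simpa [polar_add_right, polar_smul_right', hd.pol', h3, h4] using this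
  intro i
  fin_cases i
  · exact a0
  · exact a1
  · simpa [a0, a1, hu] using hg

omit [Finite F] [Finite M] in
theorem finrank_span_three {U : Submodule F M} {e' d u : M} (hi : LinearIndependent F ![e', d, u])
    (h1 : e' ∈ U) (h2 : d ∈ U) (h3 : u ∈ U) : 3 ≤ Module.finrank F U := by
  have h := finrank_span_eq_card hi
  have hle : Submodule.span F (Set.range ![e', d, u]) ≤ U := Submodule.span_le.mpr (by
    rintro _ ⟨i, rfl⟩
    fin_cases i <;> assumption)
  have := Submodule.finrank_mono hle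
  rw [h, Fintype.card_fin] at this
  exact this

omit [Finite M] [Finite F] in
theorem finrank_span_two {U : Submodule F M} {e' f' d : M} (h : Hyp Q e' f')
    (hd : polar Q f' d = 0) (hd0 : d ≠ 0) (h1 : e' ∈ U) (h2 : d ∈ U) :
    2 ≤ Module.finrank F U := by
  have hi : LinearIndependent F ![e', d] := by
    rw [Fintype.linearIndependent_iff]
    intro g hg
    simp only [Fin.sum_univ_two, Matrix.cons_val_zero, Matrix.cons_val_one] at hg
    have a0 : g 0 = 0 := by
      have := congrArg (fun t => polar Q f' t) hg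
      simpa [polar_add_right, polar_smul_right', h.pol', hd] using this
    intro i
    fin_cases i
    · exact a0
    · simpa [a0, hd0] using hg
  have hle : Submodule.span F (Set.range ![e', d]) ≤ U := Submodule.span_le.mpr (by
    rintro _ ⟨i, rfl⟩
    fin_cases i <;> assumption)
  have := Submodule.finrank_mono hle
  rw [finrank_span_eq_card hi, Fintype.card_fin] at this
  exact this

theorem good_succ {Φ : Frame Q} {X : Submodule ℂ V} {k : ℕ} (hk : k < Φ.m)
    (hG : Good ρ (Xk ρ Φ X k) (Φ.lev k)) : Good ρ (Xk ρ Φ X (k + 1)) (Φ.lev (k + 1)) := by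
  have he := Φ.pair_mem_lev le_rfl hk
  refine ⟨stb_fixed hG.stb (Φ.hyp k hk), fun e f d h hee hf hd hQ => ?_,
    fun e f d h hee hf hd hd0 hQ => ?_⟩
  · exact Cfg.nonsing_fixed ⟨Φ.lev_nd hk.le, Φ.hyp k hk, he.1, he.2, h, hee, hf⟩ hG hd hQ
  · exact Cfg.le_one_fixed ⟨Φ.lev_nd hk.le, Φ.hyp k hk, he.1, he.2, h, hee, hf⟩ hG hd hd0 hQ

theorem full_succ {Φ : Frame Q} (hΦ : Cond Φ) {X : Submodule ℂ V} {k : ℕ} (hk : k < Φ.m)
    (hG : Good ρ (Xk ρ Φ X k) (Φ.lev k)) (hF : Full ρ (Xk ρ Φ X k) (Φ.lev k)) :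
    Full ρ (Xk ρ Φ X (k + 1)) (Φ.lev (k + 1)) := by
  intro e f d h hee hf hd hd0 hQ
  have he := Φ.pair_mem_lev le_rfl hk
  have C : Cfg Q (Φ.lev k) (Φ.e k) (Φ.f k) e f :=
    ⟨Φ.lev_nd hk.le, Φ.hyp k hk, he.1, he.2, h, hee, hf⟩
  have hne := hF e f d h (perp2_le hee) (perp2_le hf) (C.mem00' hd) hd0 hQ
  by_cases hq : 3 < Nat.card F
  · have := Fintype.ofFinite F
    exact C.full_of_big hG (by rwa [← Nat.card_eq_fintype_card]) hd hd0 hQ hne
  have h2 := hΦ.resolve_left hq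
  obtain ⟨ds, hds, hdp, -⟩ := exists_partner_in C.nd00 ⊥ bot_le hd (by simpa using hd0) hQ (by simp)
  have hlev : ∀ x, x ∈ perp2 Q (perp2 Q (Φ.lev k) (Φ.e k) (Φ.f k)) e f → x ∈ Φ.lev (k + 1) :=
    fun x hx => perp2_le hx
  have e1 := finrank_perp2_add (Q := Q) h hee hf
  have e2 := finrank_perp2_add (Q := Q) hdp hd hds
  have e3 := Φ.finrank_lev (k := k + 1) hk
  obtain ⟨hdH, d1, d2⟩ := mem_perp2.mp hd
  obtain ⟨hsH, s1, s2⟩ := mem_perp2.mp hds
  -- a totally singular line gives two pairs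
  have hr2 : 2 ≤ Φ.m - (k + 1) := by
    refine le_trans ?_ (Φ.index_le (r := Φ.m - (k + 1)) (k := k + 1) (by omega)
      (Submodule.span F {e, d}) (Submodule.span_le.mpr (by
        rintro x (rfl | rfl)
        · exact hee
        · exact hlev _ hd)) ?_)
    · exact finrank_span_two h d2 hd0 (Submodule.subset_span (by simp)) (Submodule.subset_span (by simp))
    · intro x hx
      obtain ⟨a, b, rfl⟩ := Submodule.mem_span_pair.mp hx
      rw [map_add', map_smul', map_smul', h.qe, hQ, polar_smul_left', polar_smul_right', d1]; ring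
  have f1 : Module.finrank F (perp2 Q (Φ.lev k) (Φ.e k) (Φ.f k)) ≤
      Module.finrank F (perp2 Q (perp2 Q (Φ.lev k) (Φ.e k) (Φ.f k)) e f) + 2 := e1
  have f2 : Module.finrank F (perp2 Q (perp2 Q (Φ.lev k) (Φ.e k) (Φ.f k)) e f) ≤
      Module.finrank F (perp2 Q (perp2 Q (perp2 Q (Φ.lev k) (Φ.e k) (Φ.f k)) e f) d ds) + 2 := e2
  have f3 : Module.finrank F (perp2 Q (Φ.lev k) (Φ.e k) (Φ.f k)) =
      2 * (Φ.m - (k + 1)) + Module.finrank F (Φ.lev Φ.m) := e3
  have hR : 2 ≤ Module.finrank F (perp2 Q (perp2 Q (perp2 Q (Φ.lev k) (Φ.e k) (Φ.f k)) e f) d ds) := by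
    omega
  refine C.full_of_room hG hd hd0 hQ hne hds hdp hR fun u hu hu0 hQu => ?_
  by_contra h3
  obtain ⟨hu', u1, u2⟩ := mem_perp2.mp hu
  obtain ⟨huH, u3, u4⟩ := mem_perp2.mp hu'
  have hr3 : 3 ≤ Φ.m - (k + 1) := by
    refine le_trans ?_ (Φ.index_le (r := Φ.m - (k + 1)) (k := k + 1) (by omega)
      (Submodule.span F (Set.range ![e, d, u])) (Submodule.span_le.mpr (by
        rintro _ ⟨i, rfl⟩
        fin_cases i
        · exact hee
        · exact hlev _ hd
        · exact huH)) ?_)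
    · have hi := linearIndependent_three h hdp d2 u4 u2 (by rw [polar_comm]; exact s1) hu0
      exact finrank_span_three hi (Submodule.subset_span ⟨0, rfl⟩) (Submodule.subset_span ⟨1, rfl⟩)
        (Submodule.subset_span ⟨2, rfl⟩)
    · intro x hx
      obtain ⟨c, rfl⟩ := (Submodule.mem_span_range_iff_exists_fun F).mp hx
      simp [Fin.sum_univ_three, map_add', map_smul', h.qe, hQ, hQu, polar_add_left, polar_smul_left',
        polar_smul_right', d1, u1, u3]
  omega

theorem good_Xk {Φ : Frame Q} (hΦ : Cond Φ) {X : Submodule ℂ V} (hG : Good ρ X Φ.H)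
    (hF : Full ρ X Φ.H) : ∀ k ≤ Φ.m,
      Good ρ (Xk ρ Φ X k) (Φ.lev k) ∧ Full ρ (Xk ρ Φ X k) (Φ.lev k)
  | 0, _ => ⟨hG, hF⟩
  | k + 1, hk => by
    obtain ⟨h1, h2⟩ := good_Xk hΦ hG hF k (by omega)
    exact ⟨good_succ (by omega) h1, full_succ hΦ (by omega) h1 h2⟩

/-- The dimension drops by the number of non-zero singular vectors. -/
theorem finrank_Xk {Φ : Frame Q} (hΦ : Cond Φ) {X : Submodule ℂ V} (hG : Good ρ X Φ.H)
    (hF : Full ρ X Φ.H) {k : ℕ} (hk : k < Φ.m) :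
    Module.finrank ℂ (Xk ρ Φ X k) + 1 =
      Φ.cnt (k + 1) 0 + Module.finrank ℂ (Xk ρ Φ X (k + 1)) := by
  classical
  obtain ⟨hGk, hFk⟩ := good_Xk hΦ hG hF k hk.le
  obtain ⟨he, hf⟩ := Φ.pair_mem_lev le_rfl hk
  have hyp := Φ.hyp k hk
  have hnd : NDs Q (perp2 Q (Φ.lev k) (Φ.e k) (Φ.f k)) := (Φ.lev_nd hk.le).perp2 hyp he hf
  let A := perp2 Q (Φ.lev k) (Φ.e k) (Φ.f k)
  let S0 : Finset A := Finset.univ.filter fun d : A => Q (d : M) = 0
  let S := S0.image fun d : A => wch Q A (d : M)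
  have hinj : Set.InjOn (fun d : A => wch Q A (d : M)) (S0 : Set A) := fun a _ b _ hab =>
    Subtype.ext (wch_injective hnd a.2 b.2 hab)
  let fr : AddChar A ℂ → ℕ := fun ψ =>
    Module.finrank ℂ ↥(Xk ρ Φ X k ⊓ space ρ (zf Q A (Φ.e k)) ψ)
  have heq : Module.finrank ℂ (Xk ρ Φ X k) = ∑ ψ ∈ S, fr ψ := by
    refine le_antisymm ?_ (sum_finrank_le ρ (zf Q A (Φ.e k)) _ S)
    refine finrank_le_sum ρ (zf_add hyp.qe) _ (fun a => hGk.stb.stable_zf he a) S fun ψ hψ => ?_
    obtain ⟨d, hd, rfl⟩ := exists_wch hnd ψ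
    exact hGk.nonsing _ _ d hyp he hf hd fun h0 =>
      hψ (Finset.mem_image.mpr ⟨⟨d, hd⟩, Finset.mem_filter.mpr ⟨Finset.mem_univ _, h0⟩, rfl⟩)
  have hsum : ∑ ψ ∈ S, fr ψ = ∑ d ∈ S0, fr (wch Q A (d : M)) := Finset.sum_image hinj
  have h0mem : (0 : A) ∈ S0 := Finset.mem_filter.mpr ⟨Finset.mem_univ _, by simp⟩
  have hone : ∀ d ∈ S0.erase 0, fr (wch Q A (d : M)) = 1 := fun d hd => by
    obtain ⟨hne, hd'⟩ := Finset.mem_erase.mp hd
    have hd0 : (d : M) ≠ 0 := fun h => hne (Subtype.ext h)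
    exact le_antisymm (hGk.le_one _ _ _ hyp he hf d.2 hd0 (Finset.mem_filter.mp hd').2)
      (Nat.one_le_iff_ne_zero.mpr fun h0 =>
        hFk _ _ _ hyp he hf d.2 hd0 (Finset.mem_filter.mp hd').2 (Submodule.finrank_eq_zero.mp h0))
  have hcnt : Φ.cnt (k + 1) 0 = S0.card := by
    rw [Frame.cnt, Nat.card_eq_fintype_card]
    exact Fintype.card_subtype _
  rw [heq, hsum, ← Finset.add_sum_erase _ _ h0mem, Finset.sum_congr rfl hone, Finset.sum_const,
    smul_eq_mul, mul_one, Finset.card_erase_of_mem h0mem, hcnt,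
    show fr (wch Q A ((0 : A) : M)) = Module.finrank ℂ (Xk ρ Φ X (k + 1)) from rfl]
  have := Finset.card_pos.mpr ⟨_, h0mem⟩
  omega

theorem Xk_last {Φ : Frame Q} (hΦ : Cond Φ) {X : Submodule ℂ V} (hG : Good ρ X Φ.H)
    (hF : Full ρ X Φ.H) {k : ℕ} (hk : k + 1 = Φ.m) : Xk ρ Φ X (k + 1) = Xk ρ Φ X k := by
  have h := finrank_Xk hΦ hG hF (k := k) (by omega)
  rw [hk, Φ.cnt_last_zero, ← hk] at h
  exact Submodule.eq_of_le_of_finrank_le (Xk_mono ρ Φ X (Nat.le_succ k)) (by omega)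

/-! ### The last space is non-zero -/

/-- A point of the plane spanned by three vectors, normalised. -/
def planeVec (a b c : M) : (F × F) ⊕ F ⊕ Unit → M :=
  Sum.elim (fun p => a + p.1 • b + p.2 • c) (Sum.elim (fun s => b + s • c) fun _ => c)

omit [Finite F] [Finite M] [FiniteDimensional F M] in
theorem planeVec_props {a b c fa fb fc : M} (ha : Hyp Q a fa) (hb : Hyp Q b fb) (hc : Hyp Q c fc)
    (hab : Two Q a fa b fb) (hac : Two Q a fa c fc) (hbc : Two Q b fb c fc) :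
    (∀ p, Q (planeVec (F := F) a b c p) = 0 ∧ planeVec (F := F) a b c p ≠ 0) ∧
    (∀ p q, polar Q (planeVec (F := F) a b c p) (planeVec (F := F) a b c q) = 0) ∧
    ∀ p q, p ≠ q → ∀ t : F, t • planeVec (F := F) a b c p ≠ planeVec (F := F) a b c q := by
  have hco : ∀ x y z : F, polar Q fa (x • a + y • b + z • c) = x ∧
      polar Q fb (x • a + y • b + z • c) = y ∧ polar Q fc (x • a + y • b + z • c) = z := fun x y z => by
    simp [polar_add_right, polar_smul_right', ha.pol', hb.pol', hc.pol', hab.fe', hac.fe', hbc.fe',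
      hab.comm.fe', hac.comm.fe', hbc.comm.fe']
  let co : (F × F) ⊕ F ⊕ Unit → F × F × F :=
    Sum.elim (fun p => (1, p.1, p.2)) (Sum.elim (fun s => (0, 1, s)) fun _ => (0, 0, 1))
  have hv : ∀ p, planeVec (F := F) a b c p = (co p).1 • a + (co p).2.1 • b + (co p).2.2 • c := by
    rintro (p | s | u) <;> simp [planeVec, co]
  have hzero : ∀ x y z x' y' z' : F,
      polar Q (x • a + y • b + z • c) (x' • a + y' • b + z' • c) = 0 := fun x y z x' y' z' => by
    simp [polar_add_left, polar_add_right, polar_smul_left', polar_smul_right', ha.ee, hb.ee, hc.ee,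
      hab.ee', hac.ee', hbc.ee', hab.comm.ee', hac.comm.ee', hbc.comm.ee']
  refine ⟨fun p => ⟨?_, fun h0 => ?_⟩, fun p q => ?_, fun p q hpq t ht => ?_⟩
  · rw [hv]
    simp [map_add', map_smul', ha.qe, hb.qe, hc.qe, polar_add_left, polar_smul_left',
      polar_smul_right', hab.ee', hac.ee', hbc.ee']
  · obtain ⟨h1, h2, h3⟩ := hco (co p).1 (co p).2.1 (co p).2.2
    rw [← hv, h0, polar_zero_right] at h1 h2 h3
    rcases p with p | s | u <;> simp [co] at h1 h2 h3
  · rw [hv, hv]; exact hzero ..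
  · obtain ⟨h1, h2, h3⟩ := hco (co q).1 (co q).2.1 (co q).2.2
    obtain ⟨k1, k2, k3⟩ := hco (co p).1 (co p).2.1 (co p).2.2
    rw [← hv] at h1 h2 h3 k1 k2 k3
    rw [← ht, polar_smul_right'] at h1 h2 h3
    rw [k1] at h1
    rw [k2] at h2
    rw [k3] at h3
    clear k1 k2 k3 ht hco hv hzero
    apply hpq
    rcases p with ⟨p1, p2⟩ | s | u <;> rcases q with ⟨q1, q2⟩ | s' | u' <;>
      simp only [co, Sum.elim_inl, Sum.elim_inr, mul_zero, mul_one, zero_ne_one, one_ne_zero] at h1 h2 h3 <;>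
      subst_vars <;>
      first
        | rfl
        | simp at h2 h3 ⊢
        | simp_all

theorem last_ne_bot {Φ : Frame Q} (hΦ : Cond Φ) {X : Submodule ℂ V} (hG : Good ρ X Φ.H)
    (hF : Full ρ X Φ.H) (hm : 3 ≤ Φ.m) : Xk ρ Φ X Φ.m ≠ ⊥ := by
  classical
  have := Fintype.ofFinite F
  obtain ⟨j, hj⟩ : ∃ j, Φ.m = j + 3 := ⟨Φ.m - 3, by omega⟩
  intro hC
  have h2 : Xk ρ Φ X (j + 2) = ⊥ := by rw [← Xk_last hΦ hG hF (k := j + 2) hj.symm, ← hj]; exact hC
  obtain ⟨hGj, -⟩ := good_Xk hΦ hG hF j (by omega)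
  set Y := Xk ρ Φ X j with hY
  set H := Φ.lev j with hH
  have hnd : NDs Q H := Φ.lev_nd (by omega)
  have hdimH : 4 ≤ Module.finrank F H := by rw [hH, Φ.finrank_lev (by omega)]; omega
  have hyp := Φ.hyp j (by omega)
  obtain ⟨hej, hfj⟩ := Φ.pair_mem_lev (k := j) le_rfl (show j < Φ.m by omega)
  -- a vector killed after averaging over the radical of another point
  have kill : ∀ p fp p', Hyp Q p fp → p ∈ H → fp ∈ H → p' ∈ H → Q p' = 0 → p' ≠ 0 →
      polar Q p p' = 0 → polar Q fp p' = 0 → ∀ v ∈ Y,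
      (∀ x ∈ H, polar Q p' x = 0 → ρ (sg Q p' x) v = v) → wproj ρ H p fp 0 v = 0 := by
    intro p fp p' hp hpH hfH hp'H hp' hp'0 hpp hfp v hv hfix
    have hwmem := wproj_mem hGj.stb hpH hp.qe 0 (f := fp) hv
    set w := wproj ρ H p fp 0 v with hw
    have hwfix : ∀ x ∈ perp2 Q H p fp, polar Q p' x = 0 → ρ (sg Q p' x) w = w := by
      intro x hx hxp'
      obtain ⟨hxH, x1, x2⟩ := mem_perp2.mp hx
      rw [hw, wproj_conj (sg_mem_SH hp'H hxH) (sg_fix_pair hp' hxp' hpp x1)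
        (sg_fix_pair hp' hxp' hfp x2) 0 v, map_zero, hfix x hxH hxp']
    obtain ⟨g1, hg1, hg1p, hg1f⟩ := trans_pair hnd hdimH hp hyp hpH hfH hej hfj
    have hmem1 : g1.1 p' ∈ Φ.lev (j + 1) := mem_perp2.mpr ⟨SH_map hg1 hp'H,
      by rw [← hg1p, polar']; exact hpp, by rw [← hg1f, polar']; exact hfp⟩
    obtain ⟨hej1, -⟩ := Φ.pair_mem_lev (k := j + 1) le_rfl (show j + 1 < Φ.m by omega)
    obtain ⟨g2, hg2, hg2p⟩ := trans_singular (Φ.lev_nd (k := j + 1) (by omega))
      (by rw [Φ.finrank_lev (by omega)]; omega) hmem1 hej1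
      (fun h => hp'0 (g1.1.injective (by rw [h, map_zero]))) (Φ.hyp _ (by omega)).ne
      (by rw [mem_orth', hp']) (Φ.hyp _ (by omega)).qe
    set g := g2 * g1
    have hg : g ∈ SH Q H := mul_mem (SH_mono (Φ.lev_mono (Nat.le_succ j)) hg2) hg1
    have gp : g.1 p = Φ.e j := by
      rw [mul_apply', hg1p]
      exact SH_fix hg2 fun y hy => by rw [polar_comm]; exact (mem_perp2.mp hy).2.1
    have gf : g.1 fp = Φ.f j := by
      rw [mul_apply', hg1f]
      exact SH_fix hg2 fun y hy => by rw [polar_comm]; exact (mem_perp2.mp hy).2.2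
    have hgw : ρ g w ∈ Xk ρ Φ X (j + 1) := by
      have h1 := wsp_move (e' := Φ.e j) (f' := Φ.f j) hg (hGj.stb g hg) hp.qe one_ne_zero
        (by rw [one_smul, gp]) (by rw [inv_one, one_smul, gf]) hwmem
      rwa [map_zero, smul_zero] at h1
    have hgw2 : ρ g w ∈ Xk ρ Φ X (j + 2) := mem_fixed_iff.mpr ⟨hgw, fun x hx => by
      obtain ⟨hxl, x1, -⟩ := mem_perp2.mp hx
      obtain ⟨hxH, x2, x3⟩ := mem_perp2.mp hxl
      have gp' : g.1 p' = Φ.e (j + 1) := hg2p
      have hy : (g⁻¹).1 x ∈ perp2 Q H p fp := mem_perp2.mpr ⟨(SH_props hg).2.1 x hxH,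
        by rw [← polar' g, gp, apply_inv_self]; exact x2,
        by rw [← polar' g, gf, apply_inv_self]; exact x3⟩
      rw [← rho_mul, show sg Q (Φ.e (j + 1)) x * g = g * sg Q p' ((g⁻¹).1 x) by
        rw [sg_mul_comm, gp', apply_inv_self], rho_mul,
        hwfix _ hy (by rw [← polar' g, gp', apply_inv_self]; exact x1)]⟩
    rw [h2, Submodule.mem_bot] at hgw2
    exact rho_injective ρ g (by rw [hgw2, map_zero])
  -- the fixed spaces of the points of a plane
  let fix : M → Submodule ℂ V := fun p => ⨅ x : {x : M // x ∈ H ∧ polar Q p x = 0},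
    LinearMap.ker (ρ (sg Q p x.1) - 1) ⊓ Y
  have mem_fix : ∀ {p v}, p ∈ H → Q p = 0 →
      (v ∈ fix p ↔ v ∈ Y ∧ ∀ x ∈ H, polar Q p x = 0 → ρ (sg Q p x) v = v) := by
    intro p v hp hq
    simp only [fix, Submodule.mem_iInf, Submodule.mem_inf, LinearMap.mem_ker, LinearMap.sub_apply,
      Module.End.one_apply, sub_eq_zero, Subtype.forall]
    constructor
    · intro h
      exact ⟨(h 0 ⟨H.zero_mem, polar_zero_right _ _⟩).2, fun x hx hx' => (h x ⟨hx, hx'⟩).1⟩
    · exact fun h x hx => ⟨h.2 x hx.1 hx.2, h.1⟩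
  have he := fun i (h : j ≤ i) (h' : i < Φ.m) => Φ.pair_mem_lev h h'
  obtain ⟨hpv, hporth, hpne⟩ := planeVec_props (F := F) (Φ.hyp j (by omega)) (Φ.hyp (j + 1) (by omega))
    (Φ.hyp (j + 2) (by omega)) (Φ.orth _ (by omega) _ (by omega) (by omega))
    (Φ.orth _ (by omega) _ (by omega) (by omega)) (Φ.orth _ (by omega) _ (by omega) (by omega))
  set P := planeVec (F := F) (Φ.e j) (Φ.e (j + 1)) (Φ.e (j + 2))
  have hPH : ∀ p, P p ∈ H := by
    have a1 := (he j le_rfl (by omega)).1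
    have a2 := (he (j + 1) (by omega) (by omega)).1
    have a3 := (he (j + 2) (by omega) (by omega)).1
    rintro (p | s | u)
    · exact add_mem (add_mem a1 (H.smul_mem _ a2)) (H.smul_mem _ a3)
    · exact add_mem a2 (H.smul_mem _ a3)
    · exact a3
  let T : (Π p, fix (P p)) →ₗ[ℂ] Y := ∑ p, (Submodule.inclusion (show fix (P p) ≤ Y from
    fun v hv => ((mem_fix (hPH p) (hpv p).1).mp hv).1)).comp (LinearMap.proj p)
  have hT : Function.Injective T := by
    rw [← LinearMap.ker_eq_bot, LinearMap.ker_eq_bot']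
    intro u hu
    have hu' : ∑ p, (u p : V) = 0 := by
      have := congrArg (fun x : Y => (x : V)) hu
      simpa [T, LinearMap.sum_apply] using this
    funext p
    have hp := hPH p
    obtain ⟨hq, hp0⟩ := hpv p
    have hzero : ∀ q, q ≠ p → ∃ fp, Hyp Q (P p) fp ∧ fp ∈ H ∧ polar Q fp (P q) = 0 := by
      intro q hqp
      obtain ⟨fp, hfp, hpair, hfq⟩ := exists_partner_in hnd (Submodule.span F {P q})
        (by rw [Submodule.span_singleton_le_iff_mem]; exact hPH q) hp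
        (fun hm => by
          obtain ⟨t, ht⟩ := Submodule.mem_span_singleton.mp hm
          exact hpne q p hqp t ht) hq
        (fun z hz => by
          obtain ⟨t, rfl⟩ := Submodule.mem_span_singleton.mp hz
          rw [polar_smul_right', hporth, mul_zero])
      exact ⟨fp, hpair, hfp, hfq _ (Submodule.mem_span_singleton_self _)⟩
    -- average over the radical of `P p`
    obtain ⟨f0, hf0, hp0', -⟩ := exists_partner_in hnd ⊥ bot_le hp (by simpa using hp0) hq (by simp)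
    have havg : ∀ fp, Hyp Q (P p) fp → fp ∈ H → ∀ v ∈ Y,
        wproj ρ H (P p) fp 0 v = 0 → wproj ρ H (P p) f0 0 v = 0 := by
      intro fp hpair hfp v hv h0
      have hw : ∀ y : perp2 Q H (P p) fp, wproj ρ H (P p) f0 0 (ρ (zf Q _ (P p) y) v) =
          wproj ρ H (P p) f0 0 v := by
        intro y
        obtain ⟨hyH, hy1, -⟩ := mem_perp2.mp y.2
        have hy' := decomp_mem hp0' hp hf0 hyH
        rw [polar_comm Q (y : M) (P p), hy1, zero_smul, sub_zero] at hy'
        have hk : zf Q _ (P p) y = zf Q _ (P p) (⟨_, hy'⟩ : perp2 Q H (P p) f0) := by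
          simp only [zf]
          conv_lhs => rw [show (y : M) = ((y : M) - polar Q (y : M) f0 • P p) +
            polar Q (y : M) f0 • P p by rw [sub_add_cancel]]
          rw [sg_add hp0'.qe (mem_perp2.mp hy').2.1
            (by rw [polar_smul_right', hp0'.ee, mul_zero]), sg_smul_self hp0'.qe, mul_one]
        rw [hk, wproj, wch_zero]
        exact proj_one_absorb ρ (zf_add hp0'.qe) _ v
      rw [wproj, wch_zero, proj_one_apply] at h0
      have h1 := congrArg (wproj ρ H (P p) f0 0) h0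
      rwa [map_zero, map_smul, map_sum, Finset.sum_congr rfl fun y _ => hw y, Finset.sum_const,
        Finset.card_univ, ← Nat.cast_smul_eq_nsmul ℂ, smul_smul,
        inv_mul_cancel₀ (Nat.cast_ne_zero.mpr Fintype.card_ne_zero), one_smul] at h1
    have h1 := congrArg (wproj ρ H (P p) f0 0) hu'
    rw [map_zero, map_sum, Finset.sum_eq_single p] at h1
    · refine Subtype.ext ?_
      have hmem : (u p : V) ∈ space ρ (zf Q (perp2 Q H (P p) f0) (P p)) (wch Q _ 0) := fun x => by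
        rw [wch_zero, AddChar.one_apply, one_smul]
        exact ((mem_fix hp hq).mp (u p).2).2 x (perp2_le x.2) (mem_perp2.mp x.2).2.1
      rw [wproj, proj_of_mem ρ hmem] at h1
      exact h1
    · intro q _ hqp
      obtain ⟨fp, hpair, hfp, hfq⟩ := hzero q hqp
      obtain ⟨hY', hfix⟩ := (mem_fix (hPH q) (hpv q).1).mp (u q).2
      exact havg fp hpair hfp _ hY' (kill (P p) fp (P q) hpair hp hfp (hPH q) (hpv q).1 (hpv q).2
        (hporth p q) hfq _ hY' hfix)
    · simp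
  have hC' : ∀ p, Module.finrank ℂ (Xk ρ Φ X (j + 1)) ≤ Module.finrank ℂ (fix (P p)) := by
    intro p
    obtain ⟨g, hg, hge⟩ := trans_singular hnd hdimH hej (hPH p) hyp.ne (hpv p).2 hyp.qe (hpv p).1
    refine LinearMap.finrank_le_finrank_of_injective (f := (ρ g).restrict fun v hv => ?_)
      fun a b hab => Subtype.ext (rho_injective ρ g (congrArg Subtype.val hab))
    obtain ⟨hvY, hvfix⟩ := mem_fixed_iff.mp hv
    refine (mem_fix (hPH p) (hpv p).1).mpr ⟨hGj.stb g hg v hvY, fun x hx hxp => ?_⟩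
    have hy : polar Q (Φ.e j) ((g⁻¹).1 x) = 0 := by rw [← polar' g, hge, apply_inv_self]; exact hxp
    have hy' := decomp_mem hyp hej hfj ((SH_props hg).2.1 x hx)
    rw [polar_comm Q ((g⁻¹).1 x) (Φ.e j), hy, zero_smul, sub_zero] at hy'
    have hsg : ρ (sg Q (Φ.e j) ((g⁻¹).1 x)) v = v := by
      conv_lhs => rw [show (g⁻¹).1 x = ((g⁻¹).1 x - polar Q ((g⁻¹).1 x) (Φ.f j) • Φ.e j) +
        polar Q ((g⁻¹).1 x) (Φ.f j) • Φ.e j by rw [sub_add_cancel]]
      rw [sg_add hyp.qe (mem_perp2.mp hy').2.1 (by rw [polar_smul_right', hyp.ee, mul_zero]),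
        sg_smul_self hyp.qe, mul_one, hvfix _ hy']
    rw [← rho_mul, show sg Q (P p) x * g = g * sg Q (Φ.e j) ((g⁻¹).1 x) by
      rw [sg_mul_comm, hge, apply_inv_self], rho_mul, hsg]
  have hle := LinearMap.finrank_le_finrank_of_injective hT
  rw [Module.finrank_pi_fintype] at hle
  have hge := le_trans (Finset.card_nsmul_le_sum Finset.univ (fun p => Module.finrank ℂ (fix (P p)))
    (Module.finrank ℂ (Xk ρ Φ X (j + 1))) fun p _ => hC' p) hle
  rw [Finset.card_univ, smul_eq_mul, Fintype.card_sum, Fintype.card_sum, Fintype.card_prod,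
    Fintype.card_unit, ← Nat.card_eq_fintype_card] at hge
  have e1 : Module.finrank ℂ Y + 1 = _ := finrank_Xk hΦ hG hF (k := j) (by omega)
  have e2 := finrank_Xk hΦ hG hF (k := j + 1) (by omega)
  rw [show j + 1 + 1 = j + 2 by omega, h2, finrank_bot, add_zero] at e2
  have c1 := Φ.cnt_closed (k := j + 2) (r := 1) (by omega) 0
  have c2 := Φ.cnt_closed (k := j + 1) (r := 2) (by omega) 0
  rw [Φ.cnt_last_zero] at c1 c2
  set q := Nat.card F with hq
  have hq2 : 2 ≤ q := Finite.one_lt_card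
  set κ := Module.finrank F (Φ.lev Φ.m)
  -- `(q² + q) N₁ ≤ N₂` is impossible
  set a := Module.finrank ℂ (Xk ρ Φ X (j + 1))
  set z1 := Φ.cnt (j + 2) 0
  set z2 := Φ.cnt (j + 1) 0
  have i2 : a + 1 = z1 := e2
  have i1 : (q * q + (q + 1)) * a + 1 ≤ z2 + a := by omega
  have i3 := Nat.mul_le_mul_left q i1
  ring_nf at c1 c2 i3
  obtain ⟨b, hb⟩ : ∃ b, q = b + 2 := ⟨q - 2, by omega⟩
  have hpow : 0 < q ^ κ := by positivity
  rw [← i2] at c1
  have k1 : (q + q ^ 2) * (q * q ^ κ + q * (a + 1)) = (q + q ^ 2) * (q ^ 2 + q ^ 2 * q ^ κ) := by rw [c1]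
  have k2 : 2 * q ^ 3 ≤ q ^ 4 := by rw [show q ^ 4 = q * q ^ 3 by ring]; exact Nat.mul_le_mul_right _ hq2
  have k3 : 2 * q ^ 2 ≤ q ^ 3 := by rw [show q ^ 3 = q * q ^ 2 by ring]; exact Nat.mul_le_mul_right _ hq2
  ring_nf at k1 i3 k2 k3
  omega

end CfsgLib.KnownA.OrthMinDeg
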