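import Cfsg.Agent.Lib.KnownA.OrthMinDeg.Chain

/-!
# Weights of a moved module
-/

set_option autoImplicit false

namespace CfsgLib.KnownA.OrthMinDeg

open QuadraticMap CfsgLib.Geometry CfsgLib.KnownA.CentralChar

variable {F M : Type*} [Field F] [Fintype F] [AddCommGroup M] [Module F M] [Finite M]
  [FiniteDimensional F M]
  {Q : QuadraticForm F M} {V : Type*} [AddCommGroup V] [Module ℂ V] [FiniteDimensional ℂ V]
  {ρ : Representation ℂ (siegelGroup Q) V}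

/-- Some element of the group moves some vector. -/
def Moved (ρ : Representation ℂ (siegelGroup Q) V) (X : Submodule ℂ V) (H : Submodule F M) : Prop :=
  ∃ g ∈ SH Q H, ∃ v ∈ X, ρ g v ≠ v

omit [Fintype F] [FiniteDimensional F M] in
/-- Removing the fixed vectors. -/
theorem exists_noFix {X : Submodule ℂ V} {H : Submodule F M} (hX : Stb ρ X H) (hmv : Moved ρ X H) :
    ∃ X', X' ≤ X ∧ Stb ρ X' H ∧ Moved ρ X' H ∧
      ∀ x ∈ X', (∀ g ∈ SH Q H, ρ g x = x) → x = 0 := by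
  classical
  have : Finite (M ≃ₗ[F] M) := DFunLike.finite _
  have := Fintype.ofFinite (SH Q H)
  let S : V →ₗ[ℂ] V := ∑ g : SH Q H, ρ (g : siegelGroup Q)
  have hS : ∀ v, S v = ∑ g : SH Q H, ρ (g : siegelGroup Q) v := fun v => by
    simp [S, LinearMap.sum_apply]
  have hright : ∀ h ∈ SH Q H, ∀ v, S (ρ h v) = S v := fun h hh v => by
    rw [hS, hS]
    refine Fintype.sum_equiv (Equiv.mulRight ⟨h, hh⟩) _ _ fun g => ?_
    rw [← rho_mul]; rfl
  have hleft : ∀ h ∈ SH Q H, ∀ v, ρ h (S v) = S v := fun h hh v => by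
    rw [hS, map_sum]
    refine Fintype.sum_equiv (Equiv.mulLeft ⟨h, hh⟩) _ _ fun g => ?_
    rw [← rho_mul]; rfl
  have hSX : ∀ v ∈ X, S v ∈ X := fun v hv => by
    rw [hS]; exact X.sum_mem fun g _ => hX g g.2 v hv
  set c : ℂ := (Fintype.card (SH Q H) : ℂ)
  have hc : c ≠ 0 := Nat.cast_ne_zero.mpr Fintype.card_ne_zero
  have hfix : ∀ x, (∀ g ∈ SH Q H, ρ g x = x) → S x = c • x := fun x hx => by
    rw [hS, Finset.sum_congr rfl fun (g : SH Q H) _ => hx g g.2, Finset.sum_const, Finset.card_univ,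
      Nat.cast_smul_eq_nsmul ℂ]
  refine ⟨X ⊓ LinearMap.ker S, inf_le_left, fun g hg v hv => ⟨hX g hg v hv.1, ?_⟩, ?_, fun x hx h => ?_⟩
  · show S (ρ g v) = 0
    rw [hright g hg]; exact hv.2
  · obtain ⟨g, hg, v, hv, hne⟩ := hmv
    refine ⟨g, hg, v - c⁻¹ • S v, ⟨sub_mem hv (X.smul_mem _ (hSX v hv)), ?_⟩, ?_⟩
    · show S (v - c⁻¹ • S v) = 0
      rw [map_sub, LinearMap.map_smul, hfix (S v) (fun g hg => hleft g hg v), inv_smul_smul₀ hc,
        sub_self]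
    · rw [map_sub, LinearMap.map_smul, hleft g hg]
      intro h; exact hne (sub_left_inj.mp h)
  · have h1 : S x = 0 := hx.2
    rw [hfix x h] at h1
    exact (smul_eq_zero.mp h1).resolve_left hc

namespace Frame

variable (Φ : Frame Q) {X : Submodule ℂ V}

theorem dim_lev_one (hm : 3 ≤ Φ.m) : 4 ≤ Module.finrank F (Φ.lev 1) ∧ 4 ≤ Module.finrank F Φ.H := by
  constructor
  · rw [Φ.finrank_lev (by omega)]; omega
  · rw [← Φ.lev_zero, Φ.finrank_lev (by omega)]; omega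

/-- A moved module has a non-trivial weight at the first pair. -/
theorem exists_weight (hm : 3 ≤ Φ.m) (hX : Stb ρ X Φ.H) (hmv : Moved ρ X Φ.H) :
    ∃ d ∈ Φ.lev 1, d ≠ 0 ∧ wsp ρ X Φ.H (Φ.e 0) (Φ.f 0) d ≠ ⊥ := by
  obtain ⟨e, he, x, hx, v, hv, hne⟩ : ∃ e ∈ Φ.H, ∃ x ∈ Φ.H, ∃ v ∈ X, ρ (sg Q e x) v ≠ v := by
    by_contra hc
    push Not at hc
    obtain ⟨g, hg, v, hv, hne⟩ := hmv
    refine hne ((mem_fixer ρ).mp ((Subgroup.closure_le (K := fixer ρ v)).mpr ?_ hg))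
    rintro _ ⟨e, he, x, hx, rfl⟩
    exact hc e he x hx v hv
  have hcond : Q e = 0 ∧ polar Q e x = 0 := by
    by_contra h
    rw [sg, dif_neg h, rho_one] at hne
    exact hne rfl
  obtain ⟨hQe, hex⟩ := hcond
  have he0 : e ≠ 0 := by
    rintro rfl
    refine hne ?_
    rw [show sg Q (0 : M) x = 1 from ext' fun w => by
      rw [sg_apply hQe hex, polar_zero_right, one_apply']; module, rho_one]
  obtain ⟨f, hf, hp, -⟩ := exists_partner_in Φ.nd ⊥ bot_le he (by simpa using he0) hQe (by simp)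
  obtain ⟨hxe, hdec⟩ : polar Q x e = 0 ∧ x - polar Q x f • e - polar Q x e • f ∈ perp2 Q Φ.H e f :=
    ⟨by rw [polar_comm]; exact hex, decomp_mem hp he hf hx⟩
  rw [hxe, zero_smul, sub_zero] at hdec
  have hsg : sg Q e x = sg Q e (x - polar Q x f • e) := by
    conv_lhs => rw [show x = (x - polar Q x f • e) + polar Q x f • e by rw [sub_add_cancel]]
    rw [sg_add hQe (mem_perp2.mp hdec).2.1 (by rw [polar_smul_right', hp.ee, mul_zero]),
      sg_smul_self hQe, mul_one]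
  rw [hsg] at hne
  obtain ⟨hdim1, hdim⟩ := Φ.dim_lev_one hm
  obtain ⟨h0, h0'⟩ := Φ.mem 0 (by omega)
  obtain ⟨g, hg, hge, hgf⟩ := trans_pair Φ.nd hdim hp (Φ.hyp 0 (by omega)) he hf h0 h0'
  obtain ⟨hyH, hye, hyf⟩ := mem_perp2.mp hdec
  set y := x - polar Q x f • e
  have hgy : g.1 y ∈ perp2 Q Φ.H (Φ.e 0) (Φ.f 0) := mem_perp2.mpr
    ⟨SH_map hg hyH, by rw [← hge, polar', hye], by rw [← hgf, polar', hyf]⟩
  refine exists_wsp_ne_bot Φ.nd hX (Φ.hyp 0 (by omega)) h0 h0' (hX g hg v hv) hgy fun h => hne ?_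
  rw [← rho_mul, ← hge, ← sg_mul_comm, rho_mul] at h
  exact rho_injective ρ g h

/-- Every weight space is a copy of one at the first pair. -/
theorem wsp_to_first (hm : 3 ≤ Φ.m) (hX : Stb ρ X Φ.H) {e f d : M} (h : Hyp Q e f) (he : e ∈ Φ.H)
    (hf : f ∈ Φ.H) (hd : d ∈ perp2 Q Φ.H e f) :
    ∃ d' ∈ Φ.lev 1, Q d' = Q d ∧ (d ≠ 0 → d' ≠ 0) ∧
      Module.finrank ℂ (wsp ρ X Φ.H e f d) ≤
        Module.finrank ℂ (wsp ρ X Φ.H (Φ.e 0) (Φ.f 0) d') ∧
      Module.finrank ℂ (wsp ρ X Φ.H (Φ.e 0) (Φ.f 0) d') ≤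
        Module.finrank ℂ (wsp ρ X Φ.H e f d) := by
  obtain ⟨-, hdim⟩ := Φ.dim_lev_one hm
  obtain ⟨h0, h0'⟩ := Φ.mem 0 (by omega)
  obtain ⟨g, hg, hge, hgf⟩ := trans_pair Φ.nd hdim h (Φ.hyp 0 (by omega)) he hf h0 h0'
  obtain ⟨hdH, hde, hdf⟩ := mem_perp2.mp hd
  refine ⟨g.1 d, mem_perp2.mpr ⟨SH_map hg hdH, by rw [← hge, polar', hde], by rw [← hgf, polar', hdf]⟩,
    mem_orth' g d, fun h0 hc => h0 (g.1.injective (by rw [hc, map_zero])), ?_, ?_⟩
  · have := wsp_finrank_le (ρ := ρ) (X := X) (d := d) hg (hX g hg) h.qe one_ne_zero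
      (e' := Φ.e 0) (f' := Φ.f 0) (by rw [one_smul, hge]) (by rw [inv_one, one_smul, hgf])
    rwa [inv_one, one_smul] at this
  · have := wsp_finrank_le (ρ := ρ) (X := X) (d := g.1 d) (inv_mem hg) (hX _ (inv_mem hg))
      (Φ.hyp 0 (by omega)).qe one_ne_zero (e' := e) (f' := f)
      (by rw [one_smul, inv_apply_eq hge]) (by rw [inv_one, one_smul, inv_apply_eq hgf])
    rwa [inv_one, one_smul, inv_apply_self] at this

/-- Vectors of one norm have equally large weight spaces. -/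
theorem wsp_norm_le (hm : 3 ≤ Φ.m) (hX : Stb ρ X Φ.H) {d d' : M} (hd : d ∈ Φ.lev 1)
    (hd' : d' ∈ Φ.lev 1) (hd0 : d ≠ 0) (hd0' : d' ≠ 0) (h : Q d' = Q d) :
    Module.finrank ℂ (wsp ρ X Φ.H (Φ.e 0) (Φ.f 0) d) ≤
      Module.finrank ℂ (wsp ρ X Φ.H (Φ.e 0) (Φ.f 0) d') := by
  obtain ⟨hdim1, -⟩ := Φ.dim_lev_one hm
  obtain ⟨g, hg, hgd⟩ : ∃ g ∈ SH Q (Φ.lev 1), g.1 d = d' := by
    by_cases h0 : Q d = 0
    · exact trans_singular (Φ.lev_nd (by omega)) hdim1 hd hd' hd0 hd0' h0 (h.trans h0)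
    · exact trans_norm (Φ.lev_nd (by omega)) hdim1 hd hd' h0 h
  have hgH := SH_mono (Φ.lev_le 1) hg
  have := wsp_finrank_le (ρ := ρ) (X := X) (d := d) hgH (hX g hgH) (Φ.hyp 0 (by omega)).qe one_ne_zero
    (e' := Φ.e 0) (f' := Φ.f 0)
    (by rw [one_smul]; exact SH_fix hg fun y hy => by rw [polar_comm]; exact (mem_perp2.mp hy).2.1)
    (by rw [inv_one, one_smul]
        exact SH_fix hg fun y hy => by rw [polar_comm]; exact (mem_perp2.mp hy).2.2)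
  rwa [inv_one, one_smul, hgd] at this

/-- The dimension is at least the sum over disjoint sets of weights. -/
theorem count_le (hm : 1 ≤ Φ.m) (P P' : Φ.lev 1 → Prop) (hdis : ∀ d, P d → ¬P' d) (k k' : ℕ)
    (h : ∀ d, P d → k ≤ Module.finrank ℂ (wsp ρ X Φ.H (Φ.e 0) (Φ.f 0) (d : M)))
    (h' : ∀ d, P' d → k' ≤ Module.finrank ℂ (wsp ρ X Φ.H (Φ.e 0) (Φ.f 0) (d : M))) :
    k * Nat.card {d // P d} + k' * Nat.card {d // P' d} ≤ Module.finrank ℂ X := by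
  classical
  obtain ⟨h0, h0'⟩ := Φ.mem 0 hm
  let A : Submodule F M := perp2 Q Φ.H (Φ.e 0) (Φ.f 0)
  have hnd : NDs Q A := Φ.nd.perp2 (Φ.hyp 0 hm) h0 h0'
  let fr : Φ.lev 1 → ℕ := fun d => Module.finrank ℂ (wsp ρ X Φ.H (Φ.e 0) (Φ.f 0) (d : M))
  have hinj : Set.InjOn (fun d : Φ.lev 1 => wch Q A (d : M)) ((Finset.univ : Finset (Φ.lev 1)) : Set (Φ.lev 1)) :=
    fun a _ b _ hab => Subtype.ext (wch_injective hnd a.2 b.2 hab)
  have hsum : ∑ d : Φ.lev 1, fr d ≤ Module.finrank ℂ X := by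
    refine le_trans (le_of_eq ?_) (sum_finrank_le ρ (zf Q A (Φ.e 0)) X
      (Finset.univ.image fun d : Φ.lev 1 => wch Q A (d : M)))
    exact (Finset.sum_image (f := fun ψ => Module.finrank ℂ ↥(X ⊓ space ρ (zf Q A (Φ.e 0)) ψ)) hinj).symm
  refine le_trans ?_ hsum
  rw [Nat.card_eq_fintype_card, Nat.card_eq_fintype_card, Fintype.card_subtype, Fintype.card_subtype,
    mul_comm k, mul_comm k', ← smul_eq_mul, ← Finset.sum_const, ← smul_eq_mul, ← Finset.sum_const]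
  calc (∑ d ∈ Finset.univ.filter P, k) + ∑ d ∈ Finset.univ.filter P', k'
      ≤ (∑ d ∈ Finset.univ.filter P, fr d) + ∑ d ∈ Finset.univ.filter P', fr d :=
        Nat.add_le_add (Finset.sum_le_sum fun d hd => h d (Finset.mem_filter.mp hd).2)
          (Finset.sum_le_sum fun d hd => h' d (Finset.mem_filter.mp hd).2)
    _ = ∑ d ∈ Finset.univ.filter P ∪ Finset.univ.filter P', fr d :=
        (Finset.sum_union (Finset.disjoint_filter.mpr fun d _ => hdis d)).symm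
    _ ≤ ∑ d, fr d := Finset.sum_le_sum_of_subset (Finset.subset_univ _)

end Frame

end CfsgLib.KnownA.OrthMinDeg
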