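import Cfsg.Agent.Lib.KnownA.OrthMinDeg.Weights

/-!
# Frames of hyperbolic pairs and the numbers of vectors of each norm
-/

set_option autoImplicit false

namespace CfsgLib.KnownA.OrthMinDeg

open QuadraticMap CfsgLib.Geometry

variable {F M : Type*} [Field F] [AddCommGroup M] [Module F M]

/-- A subspace with a maximal family of orthogonal hyperbolic pairs. -/
structure Frame (Q : QuadraticForm F M) where
  /-- the subspace -/
  H : Submodule F M
  /-- the number of pairs -/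
  m : ℕ
  /-- first vectors -/
  e : ℕ → M
  /-- second vectors -/
  f : ℕ → M
  nd : NDs Q H
  mem : ∀ i < m, e i ∈ H ∧ f i ∈ H
  hyp : ∀ i < m, Hyp Q (e i) (f i)
  orth : ∀ i < m, ∀ j < m, i ≠ j → Two Q (e i) (f i) (e j) (f j)
  aniso : ∀ x ∈ H, (∀ i < m, polar Q (e i) x = 0 ∧ polar Q (f i) x = 0) → Q x = 0 → x = 0

variable {Q : QuadraticForm F M}

namespace Frame

variable (Φ : Frame Q)

/-- The vectors of `H` orthogonal to the first `k` pairs. -/
noncomputable def lev : ℕ → Submodule F M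
  | 0 => Φ.H
  | k + 1 => perp2 Q (lev k) (Φ.e k) (Φ.f k)

theorem lev_zero : Φ.lev 0 = Φ.H := rfl

theorem lev_succ (k : ℕ) : Φ.lev (k + 1) = perp2 Q (Φ.lev k) (Φ.e k) (Φ.f k) := rfl

theorem mem_lev (k : ℕ) {x : M} : x ∈ Φ.lev k ↔
    x ∈ Φ.H ∧ ∀ i < k, polar Q (Φ.e i) x = 0 ∧ polar Q (Φ.f i) x = 0 := by
  induction k with
  | zero => simp [lev_zero]
  | succ k ih =>
    rw [lev_succ, mem_perp2, ih]
    constructor
    · rintro ⟨⟨h, hi⟩, h1, h2⟩
      refine ⟨h, fun i hik => ?_⟩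
      rcases Nat.lt_succ_iff_lt_or_eq.mp hik with hik | rfl
      · exact hi i hik
      · exact ⟨h1, h2⟩
    · rintro ⟨h, hi⟩
      exact ⟨⟨h, fun i hik => hi i (by omega)⟩, hi k (by omega)⟩

theorem lev_mono {k l : ℕ} (h : k ≤ l) : Φ.lev l ≤ Φ.lev k := fun x hx => by
  rw [mem_lev] at hx ⊢
  exact ⟨hx.1, fun i hi => hx.2 i (hi.trans_le h)⟩

theorem lev_le (k : ℕ) : Φ.lev k ≤ Φ.H := Φ.lev_mono (Nat.zero_le k)

theorem pair_mem_lev {k j : ℕ} (hk : k ≤ j) (hj : j < Φ.m) : Φ.e j ∈ Φ.lev k ∧ Φ.f j ∈ Φ.lev k := by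
  simp only [mem_lev]
  refine ⟨⟨(Φ.mem j hj).1, fun i hi => ?_⟩, ⟨(Φ.mem j hj).2, fun i hi => ?_⟩⟩
  · have h := Φ.orth i (by omega) j hj (by omega)
    exact ⟨h.ee', h.fe'⟩
  · have h := Φ.orth i (by omega) j hj (by omega)
    exact ⟨h.ef', h.ff'⟩

theorem lev_nd : ∀ {k : ℕ}, k ≤ Φ.m → NDs Q (Φ.lev k)
  | 0, _ => Φ.nd
  | k + 1, hk => (lev_nd (by omega)).perp2 (Φ.hyp k (by omega)) (Φ.pair_mem_lev le_rfl (by omega)).1
      (Φ.pair_mem_lev le_rfl (by omega)).2

theorem aniso_last {x : M} (hx : x ∈ Φ.lev Φ.m) (hq : Q x = 0) : x = 0 := by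
  rw [mem_lev] at hx
  exact Φ.aniso x hx.1 hx.2 hq

/-- The frame of the complement of the first pair. -/
noncomputable def shift (h : 1 ≤ Φ.m) : Frame Q where
  H := Φ.lev 1
  m := Φ.m - 1
  e i := Φ.e (i + 1)
  f i := Φ.f (i + 1)
  nd := Φ.lev_nd h
  mem i hi := Φ.pair_mem_lev (by omega) (by omega)
  hyp i hi := Φ.hyp _ (by omega)
  orth i hi j hj hij := Φ.orth _ (by omega) _ (by omega) (by omega)
  aniso x hx hx' hq := by
    rw [mem_lev] at hx
    refine Φ.aniso x hx.1 (fun i hi => ?_) hq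
    rcases i with - | i
    · exact hx.2 0 (by omega)
    · exact hx' i (by omega)

/-- The frame with the last pair reversed. -/
noncomputable def flip : Frame Q where
  H := Φ.H
  m := Φ.m
  e i := if i + 1 = Φ.m then Φ.f i else Φ.e i
  f i := if i + 1 = Φ.m then Φ.e i else Φ.f i
  nd := Φ.nd
  mem i hi := by split_ifs <;> [exact (Φ.mem i hi).symm; exact Φ.mem i hi]
  hyp i hi := by split_ifs <;> [exact (Φ.hyp i hi).symm; exact Φ.hyp i hi]
  orth i hi j hj hij := by
    have h := Φ.orth i hi j hj hij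
    by_cases h1 : i + 1 = Φ.m <;> by_cases h2 : j + 1 = Φ.m
    · omega
    · simp only [if_pos h1, if_neg h2]
      exact h.comm.swapR.comm
    · simp only [if_neg h1, if_pos h2]
      exact h.swapR
    · simp only [if_neg h1, if_neg h2]
      exact h
  aniso x hx hx' hq := by
    refine Φ.aniso x hx (fun i hi => ?_) hq
    have h := hx' i hi
    split_ifs at h
    · exact h.symm
    · exact h

theorem flip_lev (k : ℕ) : Φ.flip.lev k = Φ.lev k := by
  ext x
  rw [mem_lev, mem_lev]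
  refine and_congr Iff.rfl (forall₂_congr fun i _ => ?_)
  show polar Q (if i + 1 = Φ.m then Φ.f i else Φ.e i) x = 0 ∧
    polar Q (if i + 1 = Φ.m then Φ.e i else Φ.f i) x = 0 ↔ _
  split_ifs
  · exact and_comm
  · exact Iff.rfl

theorem shift_lev (h : 1 ≤ Φ.m) : ∀ k, (Φ.shift h).lev k = Φ.lev (k + 1)
  | 0 => rfl
  | k + 1 => by
    rw [lev_succ, lev_succ, shift_lev h k]
    rfl

/-- Coordinates along a pair. -/
noncomputable def coord {k : ℕ} (hk : k < Φ.m) : Φ.lev k ≃ₗ[F] (F × F) × Φ.lev (k + 1) where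
  toFun x := ((polar Q (x : M) (Φ.f k), polar Q (x : M) (Φ.e k)),
    ⟨_, decomp_mem (Φ.hyp k hk) (Φ.pair_mem_lev le_rfl hk).1 (Φ.pair_mem_lev le_rfl hk).2 x.2⟩)
  map_add' x y := by
    refine Prod.ext (Prod.ext ?_ ?_) (Subtype.ext ?_)
    · simp [polar_add_left]
    · simp [polar_add_left]
    · show ((x + y : Φ.lev k) : M) - _ - _ = _ + _
      simp only [Submodule.coe_add, polar_add_left]
      module
  map_smul' c x := by
    refine Prod.ext (Prod.ext ?_ ?_) (Subtype.ext ?_)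
    · simp [polar_smul_left']
    · simp [polar_smul_left']
    · show ((c • x : Φ.lev k) : M) - _ - _ = c • _
      simp only [Submodule.coe_smul, polar_smul_left']
      module
  invFun p := ⟨p.1.1 • Φ.e k + p.1.2 • Φ.f k + p.2, add_mem (add_mem
    ((Φ.lev k).smul_mem _ (Φ.pair_mem_lev le_rfl hk).1)
    ((Φ.lev k).smul_mem _ (Φ.pair_mem_lev le_rfl hk).2)) (Φ.lev_mono (Nat.le_succ k) p.2.2)⟩
  left_inv x := Subtype.ext (by
    show polar Q (x : M) (Φ.f k) • Φ.e k + polar Q (x : M) (Φ.e k) • Φ.f k + _ = (x : M)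
    module)
  right_inv p := by
    obtain ⟨⟨a, b⟩, y⟩ := p
    have h := Φ.hyp k hk
    obtain ⟨-, h1, h2⟩ := (mem_perp2 (H := Φ.lev k) (e := Φ.e k) (f := Φ.f k)).mp y.2
    have e1 : polar Q (a • Φ.e k + b • Φ.f k + (y : M)) (Φ.f k) = a := by
      rw [polar_add_left, polar_add_left, polar_smul_left', polar_smul_left', h.pol, h.ff,
        polar_comm Q (y : M), h2]; ring
    have e2 : polar Q (a • Φ.e k + b • Φ.f k + (y : M)) (Φ.e k) = b := by
      rw [polar_add_left, polar_add_left, polar_smul_left', polar_smul_left', h.pol', h.ee,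
        polar_comm Q (y : M), h1]; ring
    refine Prod.ext (Prod.ext e1 e2) (Subtype.ext ?_)
    show a • Φ.e k + b • Φ.f k + (y : M) - polar Q _ (Φ.f k) • Φ.e k - polar Q _ (Φ.e k) • Φ.f k = _
    rw [e1, e2]
    module

theorem norm_coord {k : ℕ} (hk : k < Φ.m) (x : Φ.lev k) :
    Q (x : M) = (Φ.coord hk x).1.1 * (Φ.coord hk x).1.2 + Q ((Φ.coord hk x).2 : M) := by
  conv_lhs => rw [← (Φ.coord hk).symm_apply_apply x]
  generalize Φ.coord hk x = p
  obtain ⟨⟨a, b⟩, y⟩ := p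
  have h := Φ.hyp k hk
  obtain ⟨-, h1, h2⟩ := (mem_perp2 (H := Φ.lev k) (e := Φ.e k) (f := Φ.f k)).mp y.2
  show Q (a • Φ.e k + b • Φ.f k + (y : M)) = a * b + Q (y : M)
  simp only [map_add', map_smul', h.qe, h.qf, polar_add_left, polar_smul_left', polar_smul_right',
    h.pol, h1, h2]
  ring

variable [Finite F] [FiniteDimensional F M]

theorem finrank_lev {k : ℕ} (hk : k ≤ Φ.m) :
    Module.finrank F (Φ.lev k) = 2 * (Φ.m - k) + Module.finrank F (Φ.lev Φ.m) := by
  obtain ⟨r, hr⟩ : ∃ r, Φ.m = k + r := ⟨Φ.m - k, by omega⟩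
  induction r generalizing k with
  | zero => obtain rfl : k = Φ.m := by omega
            simp
  | succ r ih =>
    have hk' : k < Φ.m := by omega
    rw [(Φ.coord hk').finrank_eq, Module.finrank_prod, Module.finrank_prod, Module.finrank_self,
      ih hk' (by omega)]
    omega

/-- The number of vectors of norm `c`. -/
noncomputable def cnt (k : ℕ) (c : F) : ℕ := Nat.card {x : Φ.lev k // Q (x : M) = c}

omit [FiniteDimensional F M] in
theorem card_mul_eq (t : F) [Fintype F] [DecidableEq F] :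
    Fintype.card {p : F × F // p.1 * p.2 = t} =
      (Fintype.card F - 1) + if t = 0 then Fintype.card F else 0 := by
  rw [Fintype.card_congr (Equiv.subtypeProdEquivSigmaSubtype fun a b : F => a * b = t),
    Fintype.card_sigma, ← Finset.add_sum_erase _ _ (Finset.mem_univ (0 : F))]
  have hne : ∀ a ∈ Finset.univ.erase (0 : F), Fintype.card {b : F // a * b = t} = 1 := fun a ha => by
    rw [Fintype.card_eq_one_iff]
    exact ⟨⟨t / a, mul_div_cancel₀ t (Finset.ne_of_mem_erase ha)⟩, fun b => Subtype.ext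
      ((eq_div_iff (Finset.ne_of_mem_erase ha)).mpr (by rw [mul_comm]; exact b.2))⟩
  rw [Finset.sum_congr rfl hne, Finset.sum_const, Finset.card_erase_of_mem (Finset.mem_univ _),
    Finset.card_univ, smul_eq_mul, mul_one, add_comm]
  congr 1
  split_ifs with ht
  · rw [Fintype.card_of_subtype Finset.univ (fun b => by simp [ht]), Finset.card_univ]
  · exact Fintype.card_eq_zero_iff.mpr ⟨fun b => ht (by rw [← b.2, zero_mul])⟩

theorem cnt_succ [Finite M] {k : ℕ} (hk : k < Φ.m) (c : F) :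
    Φ.cnt k c = (Nat.card F - 1) * Nat.card (Φ.lev (k + 1)) + Nat.card F * Φ.cnt (k + 1) c := by
  classical
  have := Fintype.ofFinite F
  have e : {x : Φ.lev k // Q (x : M) = c} ≃
      {p : (F × F) × Φ.lev (k + 1) // p.1.1 * p.1.2 + Q (p.2 : M) = c} :=
    (Φ.coord hk).toEquiv.subtypeEquiv fun x => by rw [Φ.norm_coord hk x]; exact Iff.rfl
  have e' : {p : (F × F) × Φ.lev (k + 1) // p.1.1 * p.1.2 + Q (p.2 : M) = c} ≃
      Σ y : Φ.lev (k + 1), {p : F × F // p.1 * p.2 = c - Q (y : M)} :=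
    { toFun := fun p => ⟨p.1.2, p.1.1, by rw [eq_sub_iff_add_eq]; exact p.2⟩
      invFun := fun s => ⟨(s.2.1, s.1), by rw [s.2.2]; ring⟩
      left_inv := fun p => rfl
      right_inv := fun s => rfl }
  rw [cnt, Nat.card_congr (e.trans e'), Nat.card_eq_fintype_card, Fintype.card_sigma]
  rw [Finset.sum_congr rfl fun (y : Φ.lev (k + 1)) _ =>
    (Fintype.card_congr (Equiv.refl _)).trans (card_mul_eq (c - Q (y : M)))]
  rw [Finset.sum_add_distrib, Finset.sum_const, smul_eq_mul, ← Finset.sum_filter, Finset.sum_const,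
    smul_eq_mul, Finset.card_univ, cnt, Nat.card_eq_fintype_card (α := F),
    Nat.card_eq_fintype_card (α := Φ.lev (k + 1)), Nat.card_eq_fintype_card,
    Fintype.card_subtype (fun x : Φ.lev (k + 1) => Q (x : M) = c)]
  simp only [sub_eq_zero, eq_comm (a := c)]
  ring

theorem cnt_last_zero [Finite M] : Φ.cnt Φ.m 0 = 1 := by
  rw [cnt, Nat.card_eq_one_iff_unique]
  refine ⟨⟨fun a b => Subtype.ext (Subtype.ext ?_)⟩, ⟨⟨0, by simp⟩⟩⟩
  rw [Φ.aniso_last a.1.2 a.2, Φ.aniso_last b.1.2 b.2]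

theorem card_lev {k : ℕ} (hk : k ≤ Φ.m) :
    Nat.card (Φ.lev k) = Nat.card F ^ (2 * (Φ.m - k) + Module.finrank F (Φ.lev Φ.m)) := by
  have := Fintype.ofFinite F
  rw [Module.natCard_eq_pow_finrank (K := F), Φ.finrank_lev hk]

theorem cnt_closed [Finite M] {k r : ℕ} (hkr : k + r = Φ.m) (c : F) :
    Nat.card F * Φ.cnt k c + Nat.card F ^ (r + Module.finrank F (Φ.lev Φ.m)) =
      Nat.card F ^ (r + 1) * Φ.cnt Φ.m c + Nat.card F ^ (2 * r + Module.finrank F (Φ.lev Φ.m)) := by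
  set κ := Module.finrank F (Φ.lev Φ.m)
  set q := Nat.card F with hq
  induction r generalizing k with
  | zero => subst hkr; simp
  | succ r ih =>
    have ih' := ih (k := k + 1) (by omega)
    rw [Φ.cnt_succ (by omega) c, Φ.card_lev (by omega), show Φ.m - (k + 1) = r by omega, ← hq]
    obtain ⟨p, hp⟩ : ∃ p, q = p + 1 := ⟨q - 1, by have : 0 < q := Nat.card_pos; omega⟩
    rw [hp] at ih' ⊢
    simp only [Nat.add_sub_cancel]
    have key := congrArg (fun t => (p + 1) * t) ih'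
    simp only [Nat.mul_add] at key
    have e1 : (p + 1) * (p * (p + 1) ^ (2 * r + κ) + (p + 1) * Φ.cnt (k + 1) c) +
        (p + 1) ^ (r + 1 + κ) = p * (p + 1) ^ (2 * r + κ + 1) +
        ((p + 1) * ((p + 1) * Φ.cnt (k + 1) c) + (p + 1) * (p + 1) ^ (r + κ)) := by ring
    rw [e1, key]
    ring

end Frame

end CfsgLib.KnownA.OrthMinDeg
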