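import Cfsg.Agent.Lib.KnownA.OrthMinDeg.Weights

/-!
# Passing the weight structure to the fixed space of a radical

`Good ρ X H` says that in `X` only singular weights occur, each of multiplicity one at most.
The fixed space of the radical of a singular point inherits this, and contains every singular
weight of its own.
-/

set_option autoImplicit false

namespace CfsgLib.KnownA.OrthMinDeg

open QuadraticMap CfsgLib.Geometry CfsgLib.KnownA.CentralChar

variable {F M : Type*} [Field F] [Finite F] [AddCommGroup M] [Module F M] [Finite M]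
  {Q : QuadraticForm F M} {V : Type*} [AddCommGroup V] [Module ℂ V]
  {ρ : Representation ℂ (siegelGroup Q) V}

variable (ρ) in
/-- Only singular weights, each at most once. -/
structure Good (X : Submodule ℂ V) (H : Submodule F M) : Prop where
  stb : Stb ρ X H
  nonsing : ∀ e f d, Hyp Q e f → e ∈ H → f ∈ H → d ∈ perp2 Q H e f → Q d ≠ 0 →
    wsp ρ X H e f d = ⊥
  le_one : ∀ e f d, Hyp Q e f → e ∈ H → f ∈ H → d ∈ perp2 Q H e f → d ≠ 0 → Q d = 0 →
    Module.finrank ℂ (wsp ρ X H e f d) ≤ 1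

variable (ρ) in
/-- Every singular weight occurs. -/
def Full (X : Submodule ℂ V) (H : Submodule F M) : Prop :=
  ∀ e f d, Hyp Q e f → e ∈ H → f ∈ H → d ∈ perp2 Q H e f → d ≠ 0 → Q d = 0 →
    wsp ρ X H e f d ≠ ⊥

theorem sg_fix_pair {e x a : M} (he : Q e = 0) (hx : polar Q e x = 0) (h1 : polar Q a e = 0)
    (h2 : polar Q a x = 0) : (sg Q e x).1 a = a := by
  rw [sg_apply he hx, h1, h2]; module

theorem mem_fixed_iff {X : Submodule ℂ V} {H : Submodule F M} {e f : M} {v : V} :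
    v ∈ wsp ρ X H e f 0 ↔ v ∈ X ∧ ∀ x ∈ perp2 Q H e f, ρ (sg Q e x) v = v := by
  simp [mem_wsp]

theorem wsp_move_one {X : Submodule ℂ V} {H : Submodule F M} (hX : Stb ρ X H) {g : siegelGroup Q}
    (hg : g ∈ SH Q H) {e f d : M} (hq : Q e = 0) (he : g.1 e = e) (hf : g.1 f = f) {v : V}
    (hv : v ∈ wsp ρ X H e f d) : ρ g v ∈ wsp ρ X H e f (g.1 d) := by
  have := wsp_move (e' := e) (f' := f) hg (hX g hg) hq one_ne_zero (by rw [one_smul]; exact he)
    (by rw [inv_one, one_smul]; exact hf) hv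
  rwa [inv_one, one_smul] at this

theorem stb_fixed {X : Submodule ℂ V} {H : Submodule F M} (hX : Stb ρ X H) {e f : M}
    (h : Hyp Q e f) : Stb ρ (wsp ρ X H e f 0) (perp2 Q H e f) := by
  intro g hg v hv
  have hgH : g ∈ SH Q H := SH_mono perp2_le hg
  have he : g.1 e = (1 : F) • e := by
    rw [one_smul]; exact SH_fix hg fun y hy => by rw [polar_comm]; exact (mem_perp2.mp hy).2.1
  have hf : g.1 f = (1 : F)⁻¹ • f := by
    rw [inv_one, one_smul]
    exact SH_fix hg fun y hy => by rw [polar_comm]; exact (mem_perp2.mp hy).2.2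
  have h1 := wsp_move hgH (hX g hgH) h.qe one_ne_zero he hf hv
  rwa [map_zero, smul_zero] at h1

/-- An element fixing a pair commutes with its weight projections. -/
theorem wproj_conj {H : Submodule F M} {g : siegelGroup Q} (hg : g ∈ SH Q H) {e f : M}
    (he : g.1 e = e) (hf : g.1 f = f) (d : M) (v : V) :
    ρ g (wproj ρ H e f d v) = wproj ρ H e f (g.1 d) (ρ g v) := by
  have hmem : ∀ x ∈ perp2 Q H e f, g.1 x ∈ perp2 Q H e f := fun x hx => by
    obtain ⟨h0, h1, h2⟩ := mem_perp2.mp hx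
    refine mem_perp2.mpr ⟨SH_map hg h0, ?_, ?_⟩
    · rw [← he, polar', h1]
    · rw [← hf, polar', h2]
  have hmem' : ∀ x ∈ perp2 Q H e f, (g⁻¹).1 x ∈ perp2 Q H e f := fun x hx => by
    obtain ⟨h0, h1, h2⟩ := mem_perp2.mp hx
    refine mem_perp2.mpr ⟨(SH_props hg).2.1 x h0, ?_, ?_⟩
    · rw [← polar' g, he, apply_inv_self, h1]
    · rw [← polar' g, hf, apply_inv_self, h2]
  let φ : perp2 Q H e f ≃+ perp2 Q H e f :=
    { toFun := fun x => ⟨g.1 x, hmem x x.2⟩
      invFun := fun x => ⟨(g⁻¹).1 x, hmem' x x.2⟩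
      left_inv := fun x => Subtype.ext (inv_apply_self g _)
      right_inv := fun x => Subtype.ext (apply_inv_self g _)
      map_add' := fun x y => Subtype.ext (map_add g.1 _ _) }
  rw [wproj, proj_conj ρ g φ (fun x => by
    show g * sg Q e x = sg Q e (g.1 x) * g
    rw [sg_mul_comm, he])]
  have hw : (wch Q (perp2 Q H e f) d).compAddMonoidHom φ.symm.toAddMonoidHom =
      wch Q (perp2 Q H e f) (g.1 d) := by
    refine DFunLike.ext _ _ fun x => ?_
    rw [AddChar.compAddMonoidHom_apply, wch_apply, wch_apply]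
    show psi F (polar Q d ((g⁻¹).1 (x : M))) = _
    rw [← polar' g, apply_inv_self]
  rw [hw, wproj]

theorem scalar_of_finrank_le_one [FiniteDimensional ℂ V] {L : Submodule ℂ V}
    (hL : Module.finrank ℂ L ≤ 1) {y : V} (hy : y ∈ L) (hy0 : y ≠ 0) {g : siegelGroup Q}
    (hg : Stable ρ L g) : ∃ c : ℂ, ρ g y = c • y := by
  obtain ⟨v, hv⟩ := finrank_le_one_iff.mp hL
  obtain ⟨a, ha⟩ := hv ⟨y, hy⟩
  obtain ⟨b, hb⟩ := hv ⟨ρ g y, hg y hy⟩
  have ha' : a • (v : V) = y := congrArg Subtype.val ha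
  have hb' : b • (v : V) = ρ g y := congrArg Subtype.val hb
  have a0 : a ≠ 0 := fun h => hy0 (by rw [← ha', h, zero_smul])
  exact ⟨b / a, by rw [← hb', ← ha', smul_smul, div_mul_cancel₀ _ a0]⟩

/-- Conjugate elements act in the same way on an invariant line. -/
theorem eq_on_line [FiniteDimensional ℂ V] {L : Submodule ℂ V} (hL : Module.finrank ℂ L ≤ 1) {y : V}
    (hy : y ∈ L) {g z z' : siegelGroup Q} (hg : Stable ρ L g) (hz : Stable ρ L z)
    (hz' : Stable ρ L z') (he : g * z = z' * g) : ρ z' y = ρ z y := by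
  by_cases hy0 : y = 0
  · rw [hy0, map_zero, map_zero]
  obtain ⟨a, ha⟩ := scalar_of_finrank_le_one hL hy hy0 hg
  obtain ⟨b, hb⟩ := scalar_of_finrank_le_one hL hy hy0 hz
  obtain ⟨b', hb'⟩ := scalar_of_finrank_le_one hL hy hy0 hz'
  have a0 : a ≠ 0 := fun h => hy0 (rho_injective ρ g (by rw [ha, h, zero_smul, map_zero]))
  have h1 : ρ g (ρ z y) = ρ z' (ρ g y) := by rw [← rho_mul, he, rho_mul]
  rw [hb, map_smul, ha, map_smul, hb', smul_smul, smul_smul] at h1
  have h2 : b * a = a * b' := smul_left_injective ℂ hy0 h1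
  rw [hb, hb', mul_left_cancel₀ a0 (h2.symm.trans (mul_comm b a))]

/-- Two orthogonal pairs inside `H`. -/
structure Cfg (Q : QuadraticForm F M) (H : Submodule F M) (e f e' f' : M) : Prop where
  nd : NDs Q H
  hp : Hyp Q e f
  he : e ∈ H
  hf : f ∈ H
  hp' : Hyp Q e' f'
  he' : e' ∈ perp2 Q H e f
  hf' : f' ∈ perp2 Q H e f

namespace Cfg

variable {H : Submodule F M} {e f e' f' : M} (C : Cfg Q H e f e' f')
include C

theorem ee' : polar Q e e' = 0 := (mem_perp2.mp C.he').2.1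
theorem fe' : polar Q f e' = 0 := (mem_perp2.mp C.he').2.2
theorem ef' : polar Q e f' = 0 := (mem_perp2.mp C.hf').2.1
theorem ff' : polar Q f f' = 0 := (mem_perp2.mp C.hf').2.2

theorem two : Two Q e f e' f' := ⟨C.hp, C.hp', C.ee', C.ef', C.fe', C.ff'⟩

theorem nd0 : NDs Q (perp2 Q H e f) := C.nd.perp2 C.hp C.he C.hf

theorem nd00 : NDs Q (perp2 Q (perp2 Q H e f) e' f') := C.nd0.perp2 C.hp' C.he' C.hf'

theorem e_mem' : e ∈ perp2 Q H e' f' :=
  mem_perp2.mpr ⟨C.he, by rw [polar_comm]; exact C.ee', by rw [polar_comm]; exact C.ef'⟩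

theorem f_mem' : f ∈ perp2 Q H e' f' :=
  mem_perp2.mpr ⟨C.hf, by rw [polar_comm]; exact C.fe', by rw [polar_comm]; exact C.ff'⟩

theorem mem00 {x : M} (hx : x ∈ perp2 Q (perp2 Q H e f) e' f') :
    x ∈ H ∧ polar Q e x = 0 ∧ polar Q f x = 0 ∧ polar Q e' x = 0 ∧ polar Q f' x = 0 :=
  ⟨hx.1.1, hx.1.2.1, hx.1.2.2, hx.2.1, hx.2.2⟩

theorem mem00' {x : M} (hx : x ∈ perp2 Q (perp2 Q H e f) e' f') : x ∈ perp2 Q H e' f' :=
  mem_perp2.mpr ⟨hx.1.1, hx.2.1, hx.2.2⟩

/-- The weights in a vector fixed by the radical of `e`. -/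
theorem weight_of_fixed {X : Submodule ℂ V} {d v : _}
    (hd : d ∈ perp2 Q (perp2 Q H e f) e' f')
    (hv : v ∈ wsp ρ (wsp ρ X H e f 0) (perp2 Q H e f) e' f' d) {D : M}
    (hD : D ∈ perp2 Q H e' f') (h0 : wproj ρ H e' f' D v ≠ 0) : D = d + polar Q D f • e := by
  obtain ⟨hv0, hvd⟩ := (mem_wsp ρ).mp hv
  obtain ⟨-, hfix⟩ := mem_fixed_iff.mp hv0
  have hDe : polar Q D e = 0 := eq_zero_of_psi fun t => by
    have hte : t • e ∈ perp2 Q H e' f' := Submodule.smul_mem _ t C.e_mem'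
    have hact : ρ (sg Q e' (t • e)) v = (1 : ℂ) • v := by
      rw [one_smul, sg_swap C.hp'.qe (by rw [map_smul', C.hp.qe, mul_zero])
        (by rw [polar_smul_right', polar_comm, C.ee', mul_zero]),
        sg_smul_left C.hp.qe (by rw [polar_neg_right, C.ee', neg_zero])]
      exact hfix _ (Submodule.smul_mem _ t (neg_mem C.he'))
    have h1 := eq_of_proj ρ (zf_add C.hp'.qe) (a := ⟨_, hte⟩) h0 hact
    rwa [wch_apply, polar_smul_right'] at h1
  obtain ⟨hDH, hDe', hDf'⟩ := mem_perp2.mp hD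
  set D0 := D - polar Q D f • e with hD0
  have hD00 : D0 ∈ perp2 Q (perp2 Q H e f) e' f' := by
    refine mem_perp2.mpr ⟨mem_perp2.mpr ⟨sub_mem hDH (H.smul_mem _ C.he), ?_, ?_⟩, ?_, ?_⟩
    · rw [polar_sub_right, polar_smul_right', C.hp.ee, polar_comm, hDe]; ring
    · rw [polar_sub_right, polar_smul_right', C.hp.pol', polar_comm Q f D]; ring
    · rw [polar_sub_right, polar_smul_right', hDe', polar_comm Q e' e, C.ee']; ring
    · rw [polar_sub_right, polar_smul_right', hDf', polar_comm Q f' e, C.ef']; ring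
  have heq : D0 - d = 0 := C.nd00 _ (sub_mem hD00 hd) fun y hy => eq_zero_of_psi fun t => by
    have hty := Submodule.smul_mem _ t hy
    have h1 := eq_of_proj ρ (zf_add C.hp'.qe) (a := ⟨t • y, C.mem00' hty⟩) h0
      (hvd (t • y) hty)
    rw [wch_apply] at h1
    rw [← polar_smul_right', polar_sub_left, sub_eq_add_neg, AddChar.map_add_eq_mul]
    rw [hD0, polar_sub_left, polar_smul_left', (C.mem00 hty).2.1, mul_zero, sub_zero, h1,
      ← AddChar.map_add_eq_mul, add_neg_cancel, AddChar.map_zero_eq_one]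
  rw [← sub_eq_zero.mp heq, hD0, sub_add_cancel]

theorem nonsing_fixed {X : Submodule ℂ V} (hG : Good ρ X H) {d : M}
    (hd : d ∈ perp2 Q (perp2 Q H e f) e' f') (hQd : Q d ≠ 0) :
    wsp ρ (wsp ρ X H e f 0) (perp2 Q H e f) e' f' d = ⊥ := by
  refine (Submodule.eq_bot_iff _).mpr fun v hv => ?_
  refine eq_zero_of_wproj C.nd C.hp' (perp2_le C.he') (perp2_le C.hf') (ρ := ρ) fun D hD => ?_
  by_contra h0
  have hD' := C.weight_of_fixed hd hv hD h0
  have hQD : Q D ≠ 0 := by
    rw [hD', map_add', map_smul', polar_smul_right', C.hp.qe, polar_comm Q d e, (C.mem00 hd).2.1]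
    simpa using hQd
  have hmem := wproj_mem hG.stb (perp2_le C.he') C.hp'.qe D (f := f')
    ((mem_fixed_iff.mp ((mem_wsp ρ).mp hv).1).1)
  rw [hG.nonsing _ _ _ C.hp' (perp2_le C.he') (perp2_le C.hf') hD hQD, Submodule.mem_bot] at hmem
  exact h0 hmem

theorem sg_e_mem {x : M} (hx : x ∈ H) : sg Q e x ∈ SH Q H := sg_mem_SH C.he hx

theorem exists_x0 {d : M} (hd : d ∈ perp2 Q (perp2 Q H e f) e' f') (hd0 : d ≠ 0) :
    ∃ x0 ∈ perp2 Q (perp2 Q H e f) e' f', polar Q d x0 = 1 := by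
  by_contra hc
  push Not at hc
  refine hd0 (C.nd00 d hd fun y hy => by_contra fun h => ?_)
  exact hc _ (Submodule.smul_mem _ (polar Q d y)⁻¹ hy) (by rw [polar_smul_right', inv_mul_cancel₀ h])

/-- A translation by the radical of `e`. -/
theorem sg_e_props {x : M} (hx : x ∈ perp2 Q (perp2 Q H e f) e' f') {d : M}
    (hd : polar Q e d = 0) :
    (sg Q e x).1 e' = e' ∧ (sg Q e x).1 f' = f' ∧ (sg Q e x).1 d = d - polar Q d x • e := by
  obtain ⟨-, h1, -, h3, h4⟩ := C.mem00 hx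
  refine ⟨sg_fix_pair C.hp.qe h1 (by rw [polar_comm]; exact C.ee') h3,
    sg_fix_pair C.hp.qe h1 (by rw [polar_comm]; exact C.ef') h4, ?_⟩
  rw [sg_apply C.hp.qe h1, polar_comm Q d e, hd]; module

theorem le_one_fixed [FiniteDimensional ℂ V] {X : Submodule ℂ V} (hG : Good ρ X H) {d : M}
    (hd : d ∈ perp2 Q (perp2 Q H e f) e' f') (hd0 : d ≠ 0) (hQd : Q d = 0) :
    Module.finrank ℂ (wsp ρ (wsp ρ X H e f 0) (perp2 Q H e f) e' f' d) ≤ 1 := by
  have hdA : d ∈ perp2 Q H e' f' := C.mem00' hd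
  refine le_trans ?_ (hG.le_one _ _ _ C.hp' (perp2_le C.he') (perp2_le C.hf') hdA hd0 hQd)
  refine LinearMap.finrank_le_finrank_of_injective (f := ((wproj ρ H e' f' d).comp
    (wsp ρ (wsp ρ X H e f 0) (perp2 Q H e f) e' f' d).subtype).codRestrict _ fun v =>
      wproj_mem hG.stb (perp2_le C.he') C.hp'.qe d
        ((mem_fixed_iff.mp ((mem_wsp ρ).mp v.2).1).1)) ?_
  rw [← LinearMap.ker_eq_bot, LinearMap.ker_eq_bot']
  intro v hv
  have hv' : wproj ρ H e' f' d (v : V) = 0 := congrArg Subtype.val hv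
  refine Subtype.ext (eq_zero_of_wproj C.nd C.hp' (perp2_le C.he') (perp2_le C.hf') (ρ := ρ)
    fun D hD => by_contra fun h0 => h0 ?_)
  have hD' := C.weight_of_fixed hd v.2 hD h0
  obtain ⟨x0, hx0, hdx⟩ := C.exists_x0 hd hd0
  have hbx := Submodule.smul_mem _ (-polar Q D f) hx0
  obtain ⟨g1, g2, g3⟩ := C.sg_e_props hbx (C.mem00 hd).2.1
  have hconj := wproj_conj (C.sg_e_mem (C.mem00 hbx).1) g1 g2 d (v : V) (ρ := ρ)
  rw [g3, polar_smul_right', hdx, mul_one,
    show d - -polar Q D f • e = d + polar Q D f • e by module, ← hD', hv', map_zero,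
    (mem_fixed_iff.mp ((mem_wsp ρ).mp v.2).1).2 _ hbx.1] at hconj
  exact hconj.symm

/-- A weight vector fixed by the translations orthogonal to its weight gives a fixed weight vector. -/
theorem exists_fixed_weight [FiniteDimensional ℂ V] {X : Submodule ℂ V} (hG : Good ρ X H) {d : M}
    (hd : d ∈ perp2 Q (perp2 Q H e f) e' f') (hd0 : d ≠ 0)
    {y : V} (hy : y ∈ wsp ρ X H e' f' d) (hy0 : y ≠ 0)
    (hS : ∀ x ∈ perp2 Q (perp2 Q H e f) e' f', polar Q d x = 0 → ρ (sg Q e x) y = y)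
    {g : siegelGroup Q} (hg : g ∈ SH Q H) (hge : g.1 e = e) (hgf : g.1 f = f) (hge' : g.1 e' = e')
    (hgf' : g.1 f' = f') (hgd : g.1 d ≠ d) :
    wsp ρ (wsp ρ X H e f 0) (perp2 Q H e f) e' f' d ≠ ⊥ := by
  classical
  have := Fintype.ofFinite F
  obtain ⟨x0, hx0, hdx⟩ := C.exists_x0 hd hd0
  obtain ⟨hyX, hyw⟩ := (mem_wsp ρ).mp hy
  have hp0 : ∀ {x : M}, x ∈ perp2 Q (perp2 Q H e f) e' f' → polar Q e x = 0 := fun hx =>
    (C.mem00 hx).2.1
  have hbx : ∀ b : F, b • x0 ∈ perp2 Q (perp2 Q H e f) e' f' := fun b =>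
    Submodule.smul_mem _ b hx0
  let T : F → V := fun b => ρ (sg Q e (b • x0)) y
  set v := ∑ b, T b with hv
  -- weights of the terms
  have hT : ∀ b, T b ∈ wsp ρ X H e' f' (d - b • e) := fun b => by
    obtain ⟨g1, g2, g3⟩ := C.sg_e_props (hbx b) (hp0 hd)
    have h1 := wsp_move_one hG.stb (C.sg_e_mem (C.mem00 (hbx b)).1) C.hp'.qe g1 g2 hy
    simpa [g3, polar_smul_right', hdx] using h1
  have hmemT : ∀ b, d - b • e ∈ perp2 Q H e' f' := fun b =>
    sub_mem (C.mem00' hd) (Submodule.smul_mem _ b C.e_mem')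
  have hv0 : v ≠ 0 := fun h => hy0 (by
    have h1 : wproj ρ H e' f' d v = y := by
      rw [hv, map_sum, Finset.sum_eq_single (0 : F)]
      · simp only [T, zero_smul, sg_zero, rho_one]
        exact proj_of_mem ρ hy.2
      · intro b _ hb
        refine proj_of_mem_ne ρ (zf_add C.hp'.qe) (fun hh => hb ?_) (hT b).2
        have h2 := wch_injective (C.nd.perp2 C.hp' (perp2_le C.he') (perp2_le C.hf'))
          (C.mem00' hd) (hmemT b) hh
        have h3 : b • e = 0 := by
          have := sub_eq_zero.mpr h2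
          rwa [sub_sub_cancel] at this
        exact (smul_eq_zero.mp h3).resolve_right C.hp.ne
      · simp
    rw [← h1, h, map_zero])
  -- fixed by the translations in `H00 + F e'`
  have hfix00 : ∀ x ∈ perp2 Q (perp2 Q H e f) e' f', ρ (sg Q e x) v = v := fun x hx => by
    have hs : x - polar Q d x • x0 ∈ perp2 Q (perp2 Q H e f) e' f' := sub_mem hx (hbx _)
    have hsd : polar Q d (x - polar Q d x • x0) = 0 := by
      rw [polar_sub_right, polar_smul_right', hdx, mul_one, sub_self]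
    rw [hv, map_sum]
    refine Fintype.sum_equiv (Equiv.addLeft (polar Q d x)) _ _ fun b => ?_
    simp only [T, Equiv.coe_addLeft, ← rho_mul]
    rw [← sg_add C.hp.qe (hp0 hx) (hp0 (hbx b)),
      show x + b • x0 = (polar Q d x + b) • x0 + (x - polar Q d x • x0) by module,
      sg_add C.hp.qe (hp0 (hbx _)) (hp0 hs), rho_mul, hS _ hs hsd]
  have hfixe' : ∀ a : F, ρ (sg Q e (a • e')) v = v := fun a => by
    have hswap : sg Q e (a • e') = sg Q e' (-(a • e)) := by
      rw [← sg_smul_left C.hp.qe C.ee' a, sg_swap (by rw [map_smul', C.hp.qe, mul_zero]) C.hp'.qe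
        (by rw [polar_smul_left', C.ee', mul_zero])]
    rw [hv, map_sum]
    refine Finset.sum_congr rfl fun b _ => ?_
    rw [hswap, ((mem_wsp ρ).mp (hT b)).2 _ (neg_mem (Submodule.smul_mem _ a C.e_mem')),
      polar_neg_right, polar_smul_right', polar_sub_left, polar_smul_left', C.hp.ee,
      polar_comm Q d e, hp0 hd]
    simp
  have hweight : ∀ x ∈ perp2 Q (perp2 Q H e f) e' f',
      ρ (sg Q e' x) v = psi F (polar Q d x) • v := fun x hx => by
    rw [hv, map_sum, Finset.smul_sum]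
    refine Finset.sum_congr rfl fun b _ => ?_
    rw [((mem_wsp ρ).mp (hT b)).2 _ (C.mem00' hx), polar_sub_left, polar_smul_left', hp0 hx,
      mul_zero, sub_zero]
  have hvX : v ∈ X := Submodule.sum_mem _ fun b _ => ((mem_wsp ρ).mp (hT b)).1
  -- only the trivial weight of the radical of `e`
  have hzero : ∀ D ∈ perp2 Q H e f, D ≠ 0 → wproj ρ H e f D v = 0 := by
    intro D hD hDne
    by_contra h0
    obtain ⟨hDH, hDe, hDf⟩ := mem_perp2.mp hD
    have hDe' : polar Q D e' = 0 := eq_zero_of_psi fun t => by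
      have h1 := eq_of_proj ρ (zf_add C.hp.qe) (a := ⟨t • e', Submodule.smul_mem _ t C.he'⟩) h0
        (show ρ (sg Q e (t • e')) v = (1 : ℂ) • v by rw [hfixe', one_smul])
      rwa [wch_apply, polar_smul_right'] at h1
    have hD00 : D - polar Q D f' • e' ∈ perp2 Q (perp2 Q H e f) e' f' := by
      refine mem_perp2.mpr ⟨sub_mem hD (Submodule.smul_mem _ _ C.he'), ?_, ?_⟩
      · rw [polar_sub_right, polar_smul_right', C.hp'.ee, polar_comm, hDe']; ring
      · rw [polar_sub_right, polar_smul_right', C.hp'.pol', polar_comm Q f' D]; ring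
    have hline : D - polar Q D f' • e' = 0 := C.nd00 _ hD00 fun x hx => eq_zero_of_psi fun t => by
      have htx := Submodule.smul_mem _ t hx
      have h1 := eq_of_proj ρ (zf_add C.hp.qe) (a := ⟨t • x, htx.1⟩) h0
        (show ρ (sg Q e (t • x)) v = (1 : ℂ) • v by rw [hfix00 _ htx, one_smul])
      rw [wch_apply] at h1
      rwa [← polar_smul_right', polar_sub_left, polar_smul_left', (C.mem00 htx).2.2.2.1, mul_zero,
        sub_zero]
    rw [sub_eq_zero] at hline
    have hQD : Q D = 0 := by rw [hline, map_smul', C.hp'.qe, mul_zero]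
    have hL := hG.le_one e f D C.hp C.he C.hf hD hDne hQD
    have hzL : wproj ρ H e f D v ∈ wsp ρ X H e f D := wproj_mem hG.stb C.he C.hp.qe D hvX
    have hphi : ∀ x ∈ perp2 Q (perp2 Q H e f) e' f',
        ρ (sg Q e' x) (wproj ρ H e f D v) = psi F (polar Q d x) • wproj ρ H e f D v := by
      intro x hx
      obtain ⟨hxH, h1, h2, h3, h4⟩ := C.mem00 hx
      have k1 : (sg Q e' x).1 e = e := sg_fix_pair C.hp'.qe h3 C.ee' h1
      have k2 : (sg Q e' x).1 f = f := sg_fix_pair C.hp'.qe h3 C.fe' h2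
      have k3 : (sg Q e' x).1 D = D := sg_fix_pair C.hp'.qe h3
        (by rw [hline, polar_smul_left', C.hp'.ee, mul_zero])
        (by rw [hline, polar_smul_left', h3, mul_zero])
      rw [wproj_conj (sg_mem_SH (perp2_le C.he') hxH) k1 k2 D v, k3, hweight x hx, map_smul]
    have hstab : ∀ {h : siegelGroup Q}, h ∈ SH Q H → h.1 e = e → h.1 f = f → h.1 D = D →
        Stable ρ (wsp ρ X H e f D) h := fun hh a b c u hu => by
      have := wsp_move_one hG.stb hh C.hp.qe a b hu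
      rwa [c] at this
    have hgD : g.1 D = D := by rw [hline, map_smul, hge']
    have hgmem : ∀ x ∈ perp2 Q (perp2 Q H e f) e' f', g.1 x ∈ perp2 Q (perp2 Q H e f) e' f' :=
      fun x hx => by
      obtain ⟨hxH, h1, h2, h3, h4⟩ := C.mem00 hx
      refine mem_perp2.mpr ⟨mem_perp2.mpr ⟨SH_map hg hxH, ?_, ?_⟩, ?_, ?_⟩
      · rw [← hge, polar', h1]
      · rw [← hgf, polar', h2]
      · rw [← hge', polar', h3]
      · rw [← hgf', polar', h4]
    have hinv : ∀ x ∈ perp2 Q (perp2 Q H e f) e' f',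
        psi F (polar Q d (g.1 x)) = psi F (polar Q d x) := by
      intro x hx
      obtain ⟨hxH, h1, h2, h3, h4⟩ := C.mem00 hx
      obtain ⟨hyH, h1', h2', h3', h4'⟩ := C.mem00 (hgmem x hx)
      have hs : ∀ {z : M}, z ∈ H → polar Q e z = 0 → polar Q f z = 0 → polar Q e' z = 0 →
          Stable ρ (wsp ρ X H e f D) (sg Q e' z) := fun hz a b c =>
        hstab (sg_mem_SH (perp2_le C.he') hz) (sg_fix_pair C.hp'.qe c C.ee' a)
          (sg_fix_pair C.hp'.qe c C.fe' b)
          (sg_fix_pair C.hp'.qe c (by rw [hline, polar_smul_left', C.hp'.ee, mul_zero])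
            (by rw [hline, polar_smul_left', c, mul_zero]))
      have h5 := eq_on_line hL hzL (hstab hg hge hgf hgD) (hs hxH h1 h2 h3) (hs hyH h1' h2' h3')
        (by rw [sg_mul_comm, hge'])
      rw [hphi x hx, hphi _ (hgmem x hx)] at h5
      exact smul_left_injective ℂ h0 h5
    refine hgd ?_
    have h6 : d - g.1 d = 0 := C.nd00 _ (sub_mem hd (hgmem d hd)) fun x hx => eq_zero_of_psi fun t => by
      have hy : (g⁻¹).1 (t • x) ∈ perp2 Q (perp2 Q H e f) e' f' := by
        obtain ⟨hxH, h1, h2, h3, h4⟩ := C.mem00 (Submodule.smul_mem _ t hx)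
        refine mem_perp2.mpr ⟨mem_perp2.mpr ⟨(SH_props hg).2.1 _ hxH, ?_, ?_⟩, ?_, ?_⟩
        · rw [← polar' g, hge, apply_inv_self, h1]
        · rw [← polar' g, hgf, apply_inv_self, h2]
        · rw [← polar' g, hge', apply_inv_self, h3]
        · rw [← polar' g, hgf', apply_inv_self, h4]
      have h7 := hinv _ hy
      rw [apply_inv_self, ← polar' g d ((g⁻¹).1 (t • x)), apply_inv_self] at h7
      rw [← polar_smul_right', polar_sub_left, sub_eq_add_neg, AddChar.map_add_eq_mul, h7,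
        ← AddChar.map_add_eq_mul, add_neg_cancel, AddChar.map_zero_eq_one]
    exact (sub_eq_zero.mp h6).symm
  have hvfix : ∀ x ∈ perp2 Q H e f, ρ (sg Q e x) v = v := fun x hx => by
    refine sub_eq_zero.mp (eq_zero_of_wproj C.nd C.hp C.he C.hf (ρ := ρ) fun D hD => ?_)
    rcases eq_or_ne D 0 with rfl | hne
    · rw [map_sub, wproj, wch_zero, sub_eq_zero]
      exact proj_one_absorb ρ (zf_add C.hp.qe) ⟨x, hx⟩ v
    · rw [map_sub, hzero D hD hne, sub_zero, wproj]
      refine (proj_comm_self ρ (zf_add C.hp.qe) _ ⟨x, hx⟩ v).trans ?_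
      exact (congrArg (ρ (sg Q e x)) (hzero D hD hne)).trans (map_zero _)
  exact (Submodule.ne_bot_iff _).mpr
    ⟨v, (mem_wsp ρ).mpr ⟨mem_fixed_iff.mpr ⟨hvX, hvfix⟩, hweight⟩, hv0⟩

end Cfg

end CfsgLib.KnownA.OrthMinDeg
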