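import Cfsg.Agent.Lib.KnownA.OrthMinDeg.Roots

/-!
# The operators of the roots on the last fixed space
-/

set_option autoImplicit false

namespace CfsgLib.KnownA.OrthMinDeg

open QuadraticMap CfsgLib.Geometry CfsgLib.KnownA.CentralChar

variable {F M : Type*} [Field F] [Fintype F] [AddCommGroup M] [Module F M] [Finite M]
  [FiniteDimensional F M]
  {Q : QuadraticForm F M} {V : Type*} [AddCommGroup V] [Module ℂ V] [FiniteDimensional ℂ V]
  {ρ : Representation ℂ (siegelGroup Q) V}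

variable (ρ)

/-- The module is of the minimal shape. -/
structure Mod (Φ : Frame Q) (X : Submodule ℂ V) : Prop where
  cond : Cond Φ
  good : Good ρ X Φ.H
  full : Full ρ X Φ.H

/-- The last fixed space. -/
noncomputable def Cs (Φ : Frame Q) (X : Submodule ℂ V) : Submodule ℂ V := Xk ρ Φ X Φ.m

/-- Averaging over a root group. -/
noncomputable def avA (e f' : M) : V →ₗ[ℂ] V := proj ρ (rA Q e f') 1

/-- The Hecke operator of a root. -/
noncomputable def Top (e f e' f' : M) : V →ₗ[ℂ] V := (avA ρ e f').comp (ρ (rN Q e f e' f'))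

/-- The Weyl element minus the Hecke operator. -/
noncomputable def Dop (e f e' f' : M) : V →ₗ[ℂ] V := ρ (rN Q e f e' f') - Top ρ e f e' f'

variable {ρ}

section Root

variable {e f e' f' : M} (hd : Two Q e f e' f')
include hd

theorem avA_mem (v : V) (s : F) : ρ (rA Q e f' s) (avA ρ e f' v) = avA ρ e f' v := by
  have h := proj_mem ρ (rA_add hd) 1 v s
  rwa [AddChar.one_apply, one_smul] at h

omit hd in
theorem avA_fixed {v : V} (h : ∀ s, ρ (rA Q e f' s) v = v) : avA ρ e f' v = v :=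
  proj_of_mem ρ fun s => by rw [AddChar.one_apply, one_smul]; exact h s

theorem avA_absorb (s : F) (v : V) : avA ρ e f' (ρ (rA Q e f' s) v) = avA ρ e f' v :=
  proj_one_absorb ρ (rA_add hd) s v

theorem avA_idem (v : V) : avA ρ e f' (avA ρ e f' v) = avA ρ e f' v :=
  avA_fixed fun s => avA_mem hd v s

theorem avA_Dop (v : V) : avA ρ e f' (Dop ρ e f e' f' v) = 0 := by
  rw [Dop, LinearMap.sub_apply, map_sub, Top, LinearMap.comp_apply, avA_idem hd, sub_self]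

omit hd in
theorem avA_comm {g : siegelGroup Q} (h : ∀ s, Commute g (rA Q e f' s)) (v : V) :
    ρ g (avA ρ e f' v) = avA ρ e f' (ρ g v) :=
  proj_comm ρ g (fun s => h s) 1 v

omit hd in
theorem Top_comm {g : siegelGroup Q} (he : g.1 e = e) (hf : g.1 f = f) (he' : g.1 e' = e')
    (hf' : g.1 f' = f') (v : V) : ρ g (Top ρ e f e' f' v) = Top ρ e f e' f' (ρ g v) := by
  rw [Top, LinearMap.comp_apply, LinearMap.comp_apply, avA_comm (fun s => commute_rA he hf' s),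
    ← rho_mul, (commute_rN he hf he' hf').eq, rho_mul]

omit hd in
theorem Dop_comm {g : siegelGroup Q} (he : g.1 e = e) (hf : g.1 f = f) (he' : g.1 e' = e')
    (hf' : g.1 f' = f') (v : V) : ρ g (Dop ρ e f e' f' v) = Dop ρ e f e' f' (ρ g v) := by
  rw [Dop, LinearMap.sub_apply, LinearMap.sub_apply, map_sub, Top_comm he hf he' hf', ← rho_mul,
    (commute_rN he hf he' hf').eq, rho_mul]

/-- Conjugating the Hecke operator by a torus element. -/
theorem Top_conj {t t' : siegelGroup Q} {c : F} (hc : c ≠ 0)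
    (hn : t' * rN Q e f e' f' = rN Q e f e' f' * t)
    (hA : ∀ s, t' * rA Q e f' s = rA Q e f' (c * s) * t') (v : V) :
    ρ t' (Top ρ e f e' f' v) = Top ρ e f e' f' (ρ t v) := by
  let φ : F ≃+ F :=
    { toFun := fun s => c * s
      invFun := fun s => c⁻¹ * s
      left_inv := fun s => by simp [hc]
      right_inv := fun s => by simp [hc]
      map_add' := mul_add c }
  rw [Top, LinearMap.comp_apply, LinearMap.comp_apply, avA, proj_conj ρ t' φ hA, ← rho_mul, hn,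
    rho_mul]
  congr 2

/-- A vector whose image under the Weyl element is fixed by the root group. -/
theorem sl2_fixed {w : V} (hA : ∀ s, ρ (rA Q e f' s) w = w)
    (hn : ρ (rN Q e f e' f') w = Top ρ e f e' f' w) :
    ρ (rN Q e f e' f') w = w ∧ Top ρ e f e' f' w = w ∧
      ∀ a : F, a ≠ 0 → ρ (rH Q e f e' f' a) w = w := by
  have hB : ∀ s, ρ (rA Q f e' s) w = w := fun s => by
    refine rho_injective ρ (rN Q e f e' f') ?_
    rw [← rho_mul, ← rN_inv_rA hd, rho_mul, hn, Top, LinearMap.comp_apply, avA_mem hd]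
  have hN : ρ (rN Q e f e' f') w = w := by rw [rN, rho_mul, rho_mul, hA, hB, hA]
  refine ⟨hN, by rw [← hn, hN], fun a _ => ?_⟩
  have hN' : ρ (rN Q e f e' f')⁻¹ w = w := by
    conv_lhs => rw [← hN]
    rw [rho_inv_self]
  rw [rH, rho_mul, hN', rho_mul, rho_mul, hA, hB, hA]

/-- The quadratic relation of the Hecke operator. -/
theorem Top_Top [DecidableEq F] {W : Submodule ℂ V} (hA : ∀ v ∈ W, ∀ s, ρ (rA Q e f' s) v = v)
    (hH : ∀ v ∈ W, ∀ a : F, a ≠ 0 → ρ (rH Q e f e' f' a) v ∈ W) {x : V} (hx : x ∈ W) :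
    (Fintype.card F : ℂ) • Top ρ e f e' f' (Top ρ e f e' f' x) =
      ρ (rH Q e f e' f' (-1)) x + ∑ a ∈ Finset.univ.erase (0 : F),
        ρ (rH Q e f e' f' a) (Top ρ e f e' f' (ρ (rH Q e f e' f' (-1)) x)) := by
  have hm1 : (-1 : F) ≠ 0 := neg_ne_zero.mpr one_ne_zero
  set n := rN Q e f e' f' with hn
  set x' := ρ (rH Q e f e' f' (-1)) x with hx'
  have hx'W : x' ∈ W := hH x hx _ hm1
  have hterm : ∀ s : F, avA ρ e f' (ρ n (ρ (rA Q e f' s) (ρ n x))) =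
      avA ρ e f' (ρ (rA Q f e' s) x') := fun s => by
    rw [hx', ← rN_sq hd, ← hn, rho_mul ρ n n, ← rho_mul ρ (rA Q f e' s), ← rN_rA hd s, ← hn,
      inv_mul_cancel_right, rho_mul]
  have h0 : avA ρ e f' (ρ (rA Q f e' 0) x') = x' := by
    rw [rA_zero, rho_one, avA_fixed fun s => hA x' hx'W s]
  have hs : ∀ a : F, a ≠ 0 → avA ρ e f' (ρ (rA Q f e' a⁻¹) x') =
      ρ (rH Q e f e' f' a) (Top ρ e f e' f' x') := fun a ha => by
    rw [rB_eq hd ha, rho_mul, hA x' hx'W, rho_mul, rho_mul, avA_absorb hd, Top, LinearMap.comp_apply]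
    let φ : F ≃+ F :=
      { toFun := fun s => a * a * s
        invFun := fun s => (a * a)⁻¹ * s
        left_inv := fun s => by field_simp
        right_inv := fun s => by field_simp
        map_add' := mul_add _ }
    rw [avA, proj_conj ρ (rH Q e f e' f' a) φ (fun s => rH_rA hd ha s)]
    congr 2
  calc (Fintype.card F : ℂ) • Top ρ e f e' f' (Top ρ e f e' f' x)
      = ∑ s, avA ρ e f' (ρ n (ρ (rA Q e f' s) (ρ n x))) := by
        simp only [Top, LinearMap.comp_apply, ← hn]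
        conv_lhs => arg 2; arg 2; rw [avA, proj_one_apply]
        rw [map_smul, map_smul, smul_smul, mul_inv_cancel₀ (Nat.cast_ne_zero.mpr Fintype.card_ne_zero),
          one_smul, map_sum, map_sum]
    _ = ∑ s, avA ρ e f' (ρ (rA Q f e' s) x') := Finset.sum_congr rfl fun s _ => hterm s
    _ = _ := by
        rw [← Finset.add_sum_erase _ _ (Finset.mem_univ (0 : F)), h0]
        congr 1
        refine Finset.sum_nbij' (fun s => s⁻¹) (fun a => a⁻¹) ?_ ?_ ?_ ?_ ?_ <;>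
          intro a ha <;> simp only [Finset.mem_erase, Finset.mem_univ, and_true, Finset.coe_erase,
            Set.mem_diff, Set.mem_singleton_iff, Finset.coe_univ, Set.mem_univ, true_and, ne_eq,
            inv_eq_zero, inv_inv] at ha ⊢
        · exact ha
        · exact ha
        · rw [← hs _ (inv_ne_zero ha), inv_inv]

end Root

/-- A torus element of the frame. -/
def Diag (Φ : Frame Q) (g : siegelGroup Q) : Prop :=
  g ∈ SH Q Φ.H ∧ ∀ k < Φ.m, ∃ c : F, c ≠ 0 ∧ g.1 (Φ.e k) = c • Φ.e k ∧ g.1 (Φ.f k) = c⁻¹ • Φ.f k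

theorem diag_lev {Φ : Frame Q} {g : siegelGroup Q} (hg : Diag Φ g) {k : ℕ} (hk : k ≤ Φ.m) {x : M}
    (hx : x ∈ Φ.lev k) : (g⁻¹).1 x ∈ Φ.lev k := by
  rw [Φ.mem_lev] at hx ⊢
  refine ⟨(SH_props hg.1).2.1 x hx.1, fun i hi => ?_⟩
  obtain ⟨c, hc, he, hf⟩ := hg.2 i (by omega)
  rw [← polar' g (Φ.e i), ← polar' g (Φ.f i), apply_inv_self, he, hf, polar_smul_left',
    polar_smul_left', (hx.2 i hi).1, (hx.2 i hi).2, mul_zero, mul_zero]
  exact ⟨rfl, rfl⟩

theorem diag_mem {Φ : Frame Q} {X : Submodule ℂ V} (hM : Mod ρ Φ X) {g : siegelGroup Q}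
    (hg : Diag Φ g) {x : V} (hx : x ∈ Cs ρ Φ X) : ρ g x ∈ Cs ρ Φ X := by
  obtain ⟨hxX, hfix⟩ := (mem_Xk ρ Φ X _).mp hx
  refine (mem_Xk ρ Φ X _).mpr ⟨hM.good.stb g hg.1 x hxX, fun i hi y hy => ?_⟩
  obtain ⟨c, hc, he, -⟩ := hg.2 i hi
  have hy' := diag_lev hg (k := i + 1) hi hy
  have h2 : (g⁻¹).1 (Φ.e i) = c⁻¹ • Φ.e i :=
    inv_apply_eq (by rw [map_smul, he, inv_smul_smul₀ hc])
  have hkey : sg Q (Φ.e i) y * g = g * sg Q (Φ.e i) (c⁻¹ • (g⁻¹).1 y) := by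
    rw [mul_sg, h2, sg_smul_left (Φ.hyp i hi).qe (mem_perp2.mp hy').2.1]
  rw [← rho_mul, hkey, rho_mul, hfix i hi _ (Submodule.smul_mem _ _ hy')]

namespace Mod

variable {Φ : Frame Q} {X : Submodule ℂ V} (hM : Mod ρ Φ X)
include hM

theorem goodk {k : ℕ} (hk : k ≤ Φ.m) : Good ρ (Xk ρ Φ X k) (Φ.lev k) :=
  (good_Xk hM.cond hM.good hM.full k hk).1

theorem mem_X {x : V} (hx : x ∈ Cs ρ Φ X) (k : ℕ) (hk : k ≤ Φ.m) : x ∈ Xk ρ Φ X k :=
  Xk_mono ρ Φ X hk hx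

theorem fix_e {x : V} (hx : x ∈ Cs ρ Φ X) {i : ℕ} (hi : i < Φ.m) {y : M} (hy : y ∈ Φ.lev i)
    (hey : polar Q (Φ.e i) y = 0) : ρ (sg Q (Φ.e i) y) x = x := by
  have h := Φ.hyp i hi
  have hp := Φ.pair_mem_lev le_rfl hi
  have hy' : y - polar Q y (Φ.f i) • Φ.e i ∈ Φ.lev (i + 1) := by
    have := decomp_mem h hp.1 hp.2 hy
    rwa [polar_comm Q y (Φ.e i), hey, zero_smul, sub_zero] at this
  conv_lhs => rw [show y = (y - polar Q y (Φ.f i) • Φ.e i) + polar Q y (Φ.f i) • Φ.e i by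
    rw [sub_add_cancel]]
  rw [sg_add h.qe (mem_perp2.mp hy').2.1 (by rw [polar_smul_right', h.ee, mul_zero]),
    sg_smul_self h.qe, mul_one]
  exact ((mem_Xk ρ Φ X _).mp hx).2 i hi _ hy'

/-- At the bottom the opposite radical acts trivially as well. -/
theorem fix_bottom {x : V} (hx : x ∈ Cs ρ Φ X) {i : ℕ} (hi : i + 1 = Φ.m) {y : M}
    (hy : y ∈ Φ.lev (i + 1)) : ρ (sg Q (Φ.f i) y) x = x := by
  obtain ⟨he, hf⟩ := Φ.pair_mem_lev (k := i) le_rfl (show i < Φ.m by omega)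
  have hyp := Φ.hyp i (by omega)
  have hG := hM.goodk (k := i) (by omega)
  have hxi := hM.mem_X hx i (by omega)
  have hmem : ∀ z, z ∈ perp2 Q (Φ.lev i) (Φ.f i) (Φ.e i) → z ∈ Φ.lev Φ.m := fun z hz => by
    rw [← hi]; exact mem_perp2.mpr ⟨hz.1, hz.2.2, hz.2.1⟩
  have hy' : y ∈ perp2 Q (Φ.lev i) (Φ.f i) (Φ.e i) :=
    mem_perp2.mpr ⟨hy.1, hy.2.2, hy.2.1⟩
  refine sub_eq_zero.mp (eq_zero_of_wproj (Φ.lev_nd (by omega)) hyp.symm hf he (ρ := ρ) fun D hD => ?_)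
  rcases eq_or_ne D 0 with rfl | hne
  · rw [map_sub, wproj, wch_zero, sub_eq_zero]
    exact proj_one_absorb ρ (zf_add hyp.qf) ⟨y, hy'⟩ x
  · have hz : wproj ρ (Φ.lev i) (Φ.f i) (Φ.e i) D x = 0 := by
      have h1 := wproj_mem hG.stb hf hyp.qf D (f := Φ.e i) hxi
      rw [hG.nonsing _ _ D hyp.symm hf he hD (fun h0 => hne (Φ.aniso_last (hmem D hD) h0)),
        Submodule.mem_bot] at h1
      exact h1
    rw [map_sub, hz, sub_zero, wproj]
    refine (proj_comm_self ρ (zf_add hyp.qf) _ ⟨y, hy'⟩ x).trans ?_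
    exact (congrArg (ρ (sg Q (Φ.f i) y)) hz).trans (map_zero _)

omit hM in
theorem lev_fix_other {i k : ℕ} (hi : i + 1 < Φ.m) {y : M} (hy : y ∈ Φ.lev (k + 1))
    (hk : i + 1 < k + 1) :
    polar Q (Φ.e i) y = 0 ∧ polar Q (Φ.f i) y = 0 ∧
      polar Q (Φ.e (i + 1)) y = 0 ∧ polar Q (Φ.f (i + 1)) y = 0 := by
  obtain ⟨-, h⟩ := (Φ.mem_lev _).mp hy
  have := hi
  exact ⟨(h i (by omega)).1, (h i (by omega)).2, (h (i + 1) (by omega)).1, (h (i + 1) (by omega)).2⟩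

omit hM in
/-- The orthogonal relations between a root and another pair. -/
theorem root_perp {i k : ℕ} (hi : i + 1 < Φ.m) (hk : k < Φ.m) (h1 : k ≠ i) (h2 : k ≠ i + 1) :
    (polar Q (Φ.e i) (Φ.e k) = 0 ∧ polar Q (Φ.f i) (Φ.e k) = 0 ∧
      polar Q (Φ.e (i + 1)) (Φ.e k) = 0 ∧ polar Q (Φ.f (i + 1)) (Φ.e k) = 0) ∧
    (polar Q (Φ.e i) (Φ.f k) = 0 ∧ polar Q (Φ.f i) (Φ.f k) = 0 ∧
      polar Q (Φ.e (i + 1)) (Φ.f k) = 0 ∧ polar Q (Φ.f (i + 1)) (Φ.f k) = 0) := by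
  have a := Φ.orth i (by omega) k hk (Ne.symm h1)
  have b := Φ.orth (i + 1) hi k hk (Ne.symm h2)
  exact ⟨⟨a.ee', a.fe', b.ee', b.fe'⟩, ⟨a.ef', a.ff', b.ef', b.ff'⟩⟩

/-- The image of `x` under a Weyl element is fixed by the radical translations orthogonal to `e'`. -/
theorem fix_low {x : V} (hx : x ∈ Cs ρ Φ X) {i : ℕ} (hi : i + 1 < Φ.m) {z : M}
    (hz : z ∈ Φ.lev (i + 1)) (hz' : polar Q (Φ.e (i + 1)) z = 0) :
    ρ (sg Q (Φ.e i) z) (ρ (rN Q (Φ.e i) (Φ.f i) (Φ.e (i + 1)) (Φ.f (i + 1))) x) =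
      ρ (rN Q (Φ.e i) (Φ.f i) (Φ.e (i + 1)) (Φ.f (i + 1))) x := by
  have hd := Φ.orth i (by omega) (i + 1) hi (by omega)
  have h' := Φ.hyp (i + 1) hi
  have hp := Φ.pair_mem_lev (k := i + 1) le_rfl hi
  have hzd : z - polar Q z (Φ.f (i + 1)) • Φ.e (i + 1) ∈ Φ.lev (i + 2) := by
    have := decomp_mem h' hp.1 hp.2 hz
    rwa [polar_comm Q z (Φ.e (i + 1)), hz', zero_smul, sub_zero] at this
  set r := z - polar Q z (Φ.f (i + 1)) • Φ.e (i + 1)
  set c := polar Q z (Φ.f (i + 1))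
  obtain ⟨r1, r2, r3, r4⟩ := lev_fix_other hi hzd (by omega)
  have hzeq : z = r + c • Φ.e (i + 1) := by simp only [r, c]; rw [sub_add_cancel]
  have hinv : ((rN Q (Φ.e i) (Φ.f i) (Φ.e (i + 1)) (Φ.f (i + 1)))⁻¹).1 z = r + c • Φ.e i := by
    rw [hzeq, map_add, map_smul, rN_inv_perp hd r1 r2 r3 r4, rN_inv_e' hd]
  rw [← rho_mul, mul_sg, rN_inv_e hd, hinv, rho_mul]
  congr 1
  have hp' : polar Q (Φ.e (i + 1)) (r + c • Φ.e i) = 0 := by
    rw [polar_add_right, r3, polar_smul_right', polar_comm Q (Φ.e (i + 1)), hd.ee', mul_zero,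
      add_zero]
  rw [show -Φ.e (i + 1) = (-1 : F) • Φ.e (i + 1) by module, sg_smul_left h'.qe hp', smul_add,
    sg_add h'.qe (by rw [polar_smul_right', r3, mul_zero])
      (by rw [smul_smul, polar_smul_right', polar_comm Q (Φ.e (i + 1)), hd.ee', mul_zero]),
    rho_mul]
  have h2 : sg Q (Φ.e (i + 1)) ((-1 : F) • c • Φ.e i) = sg Q (Φ.e i) (c • Φ.e (i + 1)) := by
    rw [← sg_smul_left (x := Φ.e (i + 1)) hd.h.qe hd.ee' c,
      sg_swap h'.qe (by rw [map_smul', map_smul', hd.h.qe, mul_zero, mul_zero])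
        (by rw [polar_smul_right', polar_smul_right', polar_comm Q (Φ.e (i + 1)), hd.ee', mul_zero,
          mul_zero]),
      smul_smul, sg_smul_left hd.h.qe (by rw [polar_neg_right, hd.ee', neg_zero]),
      sg_smul_left hd.h.qe hd.ee' c]
    congr 1
    module
  rw [h2, hM.fix_e hx (by omega) ((Φ.lev i).smul_mem _
      (Φ.pair_mem_lev (k := i) (Nat.le_succ i) hi).1) (by rw [polar_smul_right', hd.ee', mul_zero]),
    hM.fix_e hx hi ((Φ.lev (i + 1)).smul_mem _ (Φ.lev_mono (Nat.le_succ _) hzd))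
      (by rw [polar_smul_right', r3, mul_zero])]

/-- The Hecke operators preserve the last fixed space. -/
theorem Top_mem {x : V} (hx : x ∈ Cs ρ Φ X) {i : ℕ} (hi : i + 1 < Φ.m) :
    Top ρ (Φ.e i) (Φ.f i) (Φ.e (i + 1)) (Φ.f (i + 1)) x ∈ Cs ρ Φ X := by
  set n := rN Q (Φ.e i) (Φ.f i) (Φ.e (i + 1)) (Φ.f (i + 1)) with hn
  have hd := Φ.orth i (by omega) (i + 1) hi (by omega)
  have hei := Φ.mem i (by omega)
  have hei' := Φ.mem (i + 1) hi
  have hxX : x ∈ X := ((mem_Xk ρ Φ X _).mp hx).1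
  have hA : ∀ s, rA Q (Φ.e i) (Φ.f (i + 1)) s ∈ SH Q Φ.H := fun s => rA_mem hei.1 hei'.2 s
  have hnX : ρ n x ∈ X := hM.good.stb n (rN_mem hei.1 hei.2 hei'.1 hei'.2) x hxX
  refine (mem_Xk ρ Φ X _).mpr ⟨?_, fun k hk y hy => ?_⟩
  · rw [Top, LinearMap.comp_apply, avA, proj_one_apply]
    exact X.smul_mem _ (X.sum_mem fun s _ => hM.good.stb _ (hA s) _ hnX)
  show ρ (sg Q (Φ.e k) y) (avA ρ (Φ.e i) (Φ.f (i + 1)) (ρ n x)) = avA ρ (Φ.e i) (Φ.f (i + 1)) (ρ n x)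
  rw [avA, proj_one_apply, map_smul, map_sum]
  congr 1
  by_cases hki : k = i
  · subst hki
    set c := polar Q y (Φ.e (k + 1)) with hc
    have hzl : y - c • Φ.f (k + 1) ∈ Φ.lev (k + 1) :=
      sub_mem hy (Submodule.smul_mem _ _ (Φ.pair_mem_lev le_rfl hi).2)
    have hzz : polar Q (Φ.e (k + 1)) (y - c • Φ.f (k + 1)) = 0 := by
      rw [polar_sub_right, polar_smul_right', hd.h'.pol, hc, polar_comm Q y]; ring
    refine Fintype.sum_equiv (Equiv.addLeft c) _ _ fun s => ?_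
    rw [Equiv.coe_addLeft, ← rho_mul, rA, rA, add_smul,
      ← sg_add hd.h.qe (mem_perp2.mp hy).2.1 (by rw [polar_smul_right', hd.ef', mul_zero]),
      show y + s • Φ.f (k + 1) = (c • Φ.f (k + 1) + s • Φ.f (k + 1)) + (y - c • Φ.f (k + 1)) by module,
      sg_add hd.h.qe (by rw [polar_add_right, polar_smul_right', polar_smul_right', hd.ef', mul_zero,
        mul_zero, add_zero]) (mem_perp2.mp hzl).2.1, rho_mul, hM.fix_low hx hi hzl hzz]
  refine Finset.sum_congr rfl fun s _ => ?_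
  rw [← rho_mul]
  by_cases hk1 : k = i + 1
  · subst hk1
    obtain ⟨y1, y2, y3, y4⟩ := lev_fix_other hi hy (by omega)
    have e1 : ((rA Q (Φ.e i) (Φ.f (i + 1)) s)⁻¹).1 (Φ.e (i + 1)) = Φ.e (i + 1) + s • Φ.e i :=
      inv_apply_eq (by
        rw [map_add, map_smul, rA_e' hd, rA_fix hd s hd.h.ee hd.ef']; module)
    have e2 : ((rA Q (Φ.e i) (Φ.f (i + 1)) s)⁻¹).1 y = y :=
      inv_apply_eq (rA_fix hd s (by rw [polar_comm]; exact y1) (by rw [polar_comm]; exact y4))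
    have hz1 : s • y - (s * Q y) • Φ.e (i + 1) ∈ Φ.lev (i + 1) :=
      sub_mem (Submodule.smul_mem _ _ (Φ.lev_mono (Nat.le_succ _) hy))
        (Submodule.smul_mem _ _ (Φ.pair_mem_lev le_rfl hi).1)
    rw [mul_sg, e1, e2, rho_mul, sg_add_left hd.h.qe hd.h'.qe hd.ee' y1 y3, rho_mul]
    congr 1
    have hny : (n⁻¹).1 y = y := rN_inv_perp hd y1 y2 y3 y4
    have h1 : ρ (sg Q (Φ.e (i + 1)) y) (ρ n x) = ρ n x := by
      rw [← rho_mul, mul_sg, hn, rN_inv_e' hd, ← hn, hny, rho_mul,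
        hM.fix_e hx (by omega) (Φ.lev_mono (show i ≤ i + 1 + 1 by omega) hy) y1]
    rw [h1, hn, hM.fix_low hx hi hz1 (by
      rw [polar_sub_right, polar_smul_right', polar_smul_right', y3, hd.h'.ee, mul_zero, mul_zero,
        sub_zero])]
  · obtain ⟨⟨p1, p2, p3, p4⟩, q1, q2, q3, q4⟩ := root_perp (Φ := Φ) hi hk hki hk1
    have e1 : ((rA Q (Φ.e i) (Φ.f (i + 1)) s)⁻¹).1 (Φ.e k) = Φ.e k :=
      inv_apply_eq (rA_fix hd s (by rw [polar_comm]; exact p1) (by rw [polar_comm]; exact p4))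
    have e3 : (n⁻¹).1 (Φ.e k) = Φ.e k := rN_inv_perp hd p1 p2 p3 p4
    have hmem : ∀ g : siegelGroup Q, g ∈ SH Q Φ.H → g.1 (Φ.e k) = Φ.e k → g.1 (Φ.f k) = Φ.f k →
        (∀ j, j < k → i + 1 < j ∨ k < i) →
        (∀ j, j < k → i + 1 ≠ j → i ≠ j → g.1 (Φ.e j) = Φ.e j ∧ g.1 (Φ.f j) = Φ.f j) →
        ∀ z ∈ Φ.lev (k + 1), (g⁻¹).1 z ∈ Φ.lev (k + 1) := by
      intro g hg he hf hcase hj z hz
      rw [Φ.mem_lev] at hz ⊢
      refine ⟨(SH_props hg).2.1 z hz.1, fun j hjk => ?_⟩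
      rw [← polar' g (Φ.e j), ← polar' g (Φ.f j), apply_inv_self]
      rcases Nat.lt_succ_iff_lt_or_eq.mp hjk with hjk | rfl
      · have hne : i + 1 ≠ j ∧ i ≠ j := by rcases hcase j hjk with h | h <;> omega
        rw [(hj j hjk hne.1 hne.2).1, (hj j hjk hne.1 hne.2).2]
        exact hz.2 j (by omega)
      · rw [he, hf]; exact hz.2 j (by omega)
    by_cases hlt : k < i
    · have hfixA : ∀ j, j < k → (rA Q (Φ.e i) (Φ.f (i + 1)) s).1 (Φ.e j) = Φ.e j ∧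
          (rA Q (Φ.e i) (Φ.f (i + 1)) s).1 (Φ.f j) = Φ.f j := fun j hj => by
        obtain ⟨⟨a1, a2, a3, a4⟩, b1, b2, b3, b4⟩ :=
          root_perp (Φ := Φ) (k := j) hi (by omega) (by omega) (by omega)
        exact ⟨rA_fix hd s (by rw [polar_comm]; exact a1) (by rw [polar_comm]; exact a4),
          rA_fix hd s (by rw [polar_comm]; exact b1) (by rw [polar_comm]; exact b4)⟩
      have hfixn : ∀ j, j < k → n.1 (Φ.e j) = Φ.e j ∧ n.1 (Φ.f j) = Φ.f j := fun j hj => by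
        obtain ⟨⟨a1, a2, a3, a4⟩, b1, b2, b3, b4⟩ :=
          root_perp (Φ := Φ) (k := j) hi (by omega) (by omega) (by omega)
        exact ⟨rN_perp hd a1 a2 a3 a4, rN_perp hd b1 b2 b3 b4⟩
      have hy' := hmem _ (hA s) (rA_fix hd s (by rw [polar_comm]; exact p1) (by rw [polar_comm]; exact p4))
        (rA_fix hd s (by rw [polar_comm]; exact q1) (by rw [polar_comm]; exact q4))
        (fun j hj => Or.inr hlt) (fun j hj _ _ => hfixA j hj) y hy
      have hy'' := hmem n (rN_mem hei.1 hei.2 hei'.1 hei'.2) (rN_perp hd p1 p2 p3 p4)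
        (rN_perp hd q1 q2 q3 q4) (fun j hj => Or.inr hlt) (fun j hj _ _ => hfixn j hj) _ hy'
      rw [mul_sg, e1, rho_mul]
      congr 1
      rw [← rho_mul, mul_sg, e3, rho_mul]
      congr 1
      exact ((mem_Xk ρ Φ X _).mp hx).2 k hk _ hy''
    · obtain ⟨y1, y2, y3, y4⟩ := lev_fix_other hi hy (by omega)
      rw [mul_sg, e1, inv_apply_eq (rA_fix hd s (by rw [polar_comm]; exact y1)
        (by rw [polar_comm]; exact y4)), rho_mul]
      congr 1
      rw [← rho_mul, mul_sg, e3, rN_inv_perp hd y1 y2 y3 y4, rho_mul]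
      congr 1
      exact ((mem_Xk ρ Φ X _).mp hx).2 k hk _ hy

theorem flip : Mod ρ Φ.flip X := by
  refine ⟨?_, hM.good, hM.full⟩
  rcases hM.cond with h | h
  · exact Or.inl h
  · exact Or.inr (by rw [show Φ.flip.m = Φ.m from rfl, Φ.flip_lev]; exact h)

theorem Cs_flip : Cs ρ Φ.flip X = Cs ρ Φ X := by
  have hle : ∀ {Ψ Ψ' : Frame Q}, Mod ρ Ψ X → Ψ'.m = Ψ.m → (∀ k, Ψ'.lev k = Ψ.lev k) →
      (∀ k, k + 1 ≠ Ψ.m → Ψ'.e k = Ψ.e k) → (∀ k, k + 1 = Ψ.m → Ψ'.e k = Ψ.f k) →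
      Cs ρ Ψ X ≤ Cs ρ Ψ' X := by
    intro Ψ Ψ' hΨ hm hlev he he' x hx
    refine (mem_Xk ρ Ψ' X _).mpr ⟨((mem_Xk ρ Ψ X _).mp hx).1, fun i hi y hy => ?_⟩
    rw [hlev] at hy
    by_cases h : i + 1 = Ψ.m
    · rw [he' i h]; exact hΨ.fix_bottom hx h hy
    · rw [he i h]; exact ((mem_Xk ρ Ψ X _).mp hx).2 i (hm ▸ hi) y hy
  refine le_antisymm ?_ (hle hM rfl Φ.flip_lev (fun k h => if_neg h) fun k h => if_pos h)
  refine hle hM.flip rfl (fun k => (Φ.flip_lev k).symm) (fun k h => ?_) fun k h => ?_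
  · exact (if_neg (c := k + 1 = Φ.m) h).symm
  · exact (if_pos (c := k + 1 = Φ.m) h).symm

end Mod

end CfsgLib.KnownA.OrthMinDeg
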