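import Cfsg.Agent.Lib.KnownA.OrthMinDeg.Good
import Cfsg.Agent.Lib.KnownA.OrthMinDeg.Frame

/-!
# Triviality of the scalars on a weight line and inheritance of the weight structure
-/

set_option autoImplicit false

namespace CfsgLib.KnownA.OrthMinDeg

open QuadraticMap CfsgLib.Geometry CfsgLib.KnownA.CentralChar

section Mem

variable {F M : Type*} [Field F] [AddCommGroup M] [Module F M] {Q : QuadraticForm F M}
  {H : Submodule F M}

theorem wN_mem {e f x : M} (he : e ∈ H) (hf : f ∈ H) (hx : x ∈ H) : wN Q e f x ∈ SH Q H :=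
  mul_mem (mul_mem (sg_mem_SH he hx) (sg_mem_SH hf (H.smul_mem _ hx))) (sg_mem_SH he hx)

theorem sc_mem {e f x : M} (he : e ∈ H) (hf : f ∈ H) (hx : x ∈ H) (c : F) :
    sc Q e f x c ∈ SH Q H :=
  mul_mem (wN_mem he hf (H.smul_mem _ hx)) (wN_mem he hf hx)

theorem rA_mem {e f' : M} (he : e ∈ H) (hf : f' ∈ H) (s : F) : rA Q e f' s ∈ SH Q H :=
  sg_mem_SH he (H.smul_mem _ hf)

theorem rN_mem {e f e' f' : M} (he : e ∈ H) (hf : f ∈ H) (he' : e' ∈ H) (hf' : f' ∈ H) :
    rN Q e f e' f' ∈ SH Q H :=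
  mul_mem (mul_mem (rA_mem he hf' 1) (rA_mem hf he' 1)) (rA_mem he hf' 1)

theorem rH_mem {e f e' f' : M} (he : e ∈ H) (hf : f ∈ H) (he' : e' ∈ H) (hf' : f' ∈ H) (a : F) :
    rH Q e f e' f' a ∈ SH Q H :=
  mul_mem (mul_mem (mul_mem (rA_mem he hf' a) (rA_mem hf he' _)) (rA_mem he hf' a))
    (inv_mem (rN_mem he hf he' hf'))

theorem exists_sq_ne_one [Fintype F] (h : 3 < Fintype.card F) : ∃ a : F, a ≠ 0 ∧ a * a ≠ 1 := by
  classical
  by_contra hc
  push Not at hc
  have hsub : (Finset.univ : Finset F) ⊆ {0, 1, -1} := fun a _ => by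
    simp only [Finset.mem_insert, Finset.mem_singleton]
    rcases eq_or_ne a 0 with h0 | h0
    · exact Or.inl h0
    · exact Or.inr (mul_self_eq_one_iff.mp (hc a h0))
  have := (Finset.card_le_card hsub).trans (Finset.card_le_three)
  rw [Finset.card_univ] at this
  omega

end Mem

namespace Frame

variable {F M : Type*} [Field F] [AddCommGroup M] [Module F M] [FiniteDimensional F M]
  {Q : QuadraticForm F M}

/-- No totally singular subspace is larger than the number of pairs. -/
theorem index_le (Φ : Frame Q) {r k : ℕ} (hkr : k + r = Φ.m) (U : Submodule F M) (hU : U ≤ Φ.lev k)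
    (h0 : ∀ x ∈ U, Q x = 0) : Module.finrank F U ≤ r := by
  induction r generalizing k U with
  | zero =>
    subst hkr
    have : U = ⊥ := (Submodule.eq_bot_iff _).mpr fun x hx => Φ.aniso_last (hU hx) (h0 x hx)
    rw [this, finrank_bot]
  | succ r ih =>
    have hk : k < Φ.m := by omega
    have h := Φ.hyp k hk
    obtain ⟨he, hf⟩ := Φ.pair_mem_lev le_rfl hk
    let W := U ⊓ LinearMap.ker (polarBilin Q (Φ.e k))
    let T : M →ₗ[F] M := LinearMap.id - (polarLeft Q (Φ.f k)).smulRight (Φ.e k)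
    have hT : ∀ x, T x = x - polar Q x (Φ.f k) • Φ.e k := fun x => by simp [T]
    have hWe : ∀ x ∈ W, polar Q (Φ.e k) x = 0 := fun x hx => hx.2
    have hmap : ∀ x ∈ W, T x ∈ Φ.lev (k + 1) ∧ Q (T x) = 0 := fun x hx => by
      rw [hT]
      refine ⟨mem_perp2.mpr ⟨sub_mem (hU hx.1) ((Φ.lev k).smul_mem _ he), ?_, ?_⟩, ?_⟩
      · rw [polar_sub_right, polar_smul_right', h.ee, hWe x hx]; ring
      · rw [polar_sub_right, polar_smul_right', h.pol', polar_comm Q (Φ.f k) x]; ring
      · rw [CfsgLib.Geometry.map_sub', map_smul', h.qe, h0 x hx.1, polar_smul_right',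
          polar_comm Q x (Φ.e k), hWe x hx]; ring
    have hi := ih (k := k + 1) (by omega) (Submodule.map T W)
      (Submodule.map_le_iff_le_comap.mpr fun x hx => (hmap x hx).1)
      (by rintro _ ⟨x, hx, rfl⟩; exact (hmap x hx).2)
    have hker : LinearMap.ker (T.domRestrict W) ≤ (Submodule.span F {Φ.e k}).comap W.subtype :=
      fun x hx => by
      have hx' : T x = 0 := hx
      rw [hT, sub_eq_zero] at hx'
      show (x : M) ∈ Submodule.span F {Φ.e k}
      rw [hx']
      exact Submodule.smul_mem _ _ (Submodule.mem_span_singleton_self _)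
    have hrn := LinearMap.finrank_range_add_finrank_ker (T.domRestrict W)
    rw [show LinearMap.range (T.domRestrict W) = Submodule.map T W by
      ext; simp [Submodule.mem_map]] at hrn
    have hcodim : Module.finrank F U ≤ Module.finrank F W + 1 := by
      have h1 := LinearMap.finrank_range_add_finrank_ker ((polarBilin Q (Φ.e k)).domRestrict U)
      have h2 : Module.finrank F (LinearMap.range ((polarBilin Q (Φ.e k)).domRestrict U)) ≤ 1 :=
        le_trans (Submodule.finrank_le _) (by simp)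
      have h3 : Module.finrank F (LinearMap.ker ((polarBilin Q (Φ.e k)).domRestrict U)) ≤
          Module.finrank F W := by
        refine LinearMap.finrank_le_finrank_of_injective (f := (U.subtype.comp
          (LinearMap.ker ((polarBilin Q (Φ.e k)).domRestrict U)).subtype).codRestrict W
          fun x => ⟨x.1.2, x.2⟩) fun a b hab => ?_
        have h4 := congrArg (fun t : W => (t : M)) hab
        exact Subtype.ext (Subtype.ext h4)
      omega
    by_cases heU : Φ.e k ∈ U
    · have hUW : U ≤ W := fun x hx => ⟨hx, by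
        show polar Q (Φ.e k) x = 0
        have h5 := h0 _ (add_mem heU hx)
        rwa [map_add', h.qe, h0 x hx, zero_add, zero_add] at h5⟩
      have h6 := Submodule.finrank_mono hUW
      have h7 : Module.finrank F (LinearMap.ker (T.domRestrict W)) ≤ 1 := by
        refine le_trans ?_ (finrank_span_singleton (K := F) h.ne).le
        refine le_trans (Submodule.finrank_mono hker) ?_
        exact LinearMap.finrank_le_finrank_of_injective
          (f := (W.subtype.comp ((Submodule.span F {Φ.e k}).comap W.subtype).subtype).codRestrict _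
            fun x => x.2) fun a b hab => Subtype.ext (Subtype.ext
              (congrArg (fun t : Submodule.span F {Φ.e k} => (t : M)) hab))
      omega
    · have h7 : LinearMap.ker (T.domRestrict W) = ⊥ := (Submodule.eq_bot_iff _).mpr fun x hx => by
        obtain ⟨c, hc⟩ := Submodule.mem_span_singleton.mp (hker hx)
        refine Subtype.ext ?_
        show (x : M) = 0
        by_contra hne
        have hc' : c • Φ.e k = (x : M) := hc
        refine heU ?_
        have hc0 : c ≠ 0 := fun h0 => hne (by rw [← hc', h0, zero_smul])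
        rw [← inv_smul_smul₀ hc0 (Φ.e k), hc']
        exact U.smul_mem _ x.2.1
      rw [h7, finrank_bot] at hrn
      omega

end Frame

variable {F M : Type*} [Field F] [Finite F] [AddCommGroup M] [Module F M] [Finite M]
  [FiniteDimensional F M]
  {Q : QuadraticForm F M} {V : Type*} [AddCommGroup V] [Module ℂ V] [FiniteDimensional ℂ V]
  {ρ : Representation ℂ (siegelGroup Q) V}

namespace Cfg

variable {H : Submodule F M} {e f e' f' d : M}

omit [FiniteDimensional F M] in
/-- An element fixing the configuration gives translations fixing the weight line. -/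
theorem fixed_diff {X : Submodule ℂ V} (C : Cfg Q H e f e' f') (hG : Good ρ X H)
    (hd : d ∈ perp2 Q (perp2 Q H e f) e' f') (hd0 : d ≠ 0) (hQd : Q d = 0) {y : V}
    (hy : y ∈ wsp ρ X H e' f' d) {g : siegelGroup Q} (hg : g ∈ SH Q H) {x u : M} {c : F}
    (hge : g.1 e = c • e) (hge' : g.1 e' = e') (hgf' : g.1 f' = f') (hgd : g.1 d = d)
    (hx : x ∈ perp2 Q (perp2 Q H e f) e' f') (hxd : polar Q d x = 0)
    (hu : u ∈ perp2 Q (perp2 Q H e f) e' f') (hud : polar Q d u = 0)
    (hgx : c • g.1 x = x + u) : ρ (sg Q e u) y = y := by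
  have hL := hG.le_one _ _ _ C.hp' (perp2_le C.he') (perp2_le C.hf') (C.mem00' hd) hd0 hQd
  have hstab : ∀ {h : siegelGroup Q}, h ∈ SH Q H → h.1 e' = e' → h.1 f' = f' → h.1 d = d →
      Stable ρ (wsp ρ X H e' f' d) h := fun hh a b c v hv => by
    have := wsp_move_one hG.stb hh C.hp'.qe a b hv
    rwa [c] at this
  have hs : ∀ {z : M}, z ∈ perp2 Q (perp2 Q H e f) e' f' → polar Q d z = 0 →
      Stable ρ (wsp ρ X H e' f' d) (sg Q e z) := fun hz hzd => by
    obtain ⟨g1, g2, g3⟩ := C.sg_e_props hz (C.mem00 hd).2.1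
    exact hstab (C.sg_e_mem (C.mem00 hz).1) g1 g2 (by rw [g3, hzd, zero_smul, sub_zero])
  have hxu : x + u ∈ perp2 Q (perp2 Q H e f) e' f' := add_mem hx hu
  have hconj : g * sg Q e x = sg Q e (x + u) * g := by
    have hc : c ≠ 0 := fun hc => C.hp.ne (g.1.injective (by rw [hge, hc, zero_smul, map_zero]))
    have h1 : polar Q e (c • g.1 x) = 0 := by rw [hgx]; exact (C.mem00 hxu).2.1
    rw [polar_smul_right'] at h1
    rw [sg_mul_comm, hge, sg_smul_left C.hp.qe ((mul_eq_zero.mp h1).resolve_left hc), hgx]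
  have h1 := eq_on_line hL hy (hstab hg hge' hgf' hgd) (hs hx hxd)
    (hs hxu (by rw [polar_add_right, hxd, hud, add_zero])) hconj
  rw [sg_add C.hp.qe (C.mem00 hx).2.1 (C.mem00 hu).2.1, rho_mul] at h1
  exact rho_injective ρ _ h1

omit [FiniteDimensional F M] in
theorem sg_fix_config (C : Cfg Q H e f e' f') {a b : M} (ha : a ∈ perp2 Q (perp2 Q H e f) e' f')
    (hb : b ∈ perp2 Q (perp2 Q H e f) e' f') (hab : Q a = 0 ∧ polar Q a b = 0) :
    (sg Q a b).1 e = e ∧ (sg Q a b).1 f = f ∧ (sg Q a b).1 e' = e' ∧ (sg Q a b).1 f' = f' := by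
  obtain ⟨-, a1, a2, a3, a4⟩ := C.mem00 ha
  obtain ⟨-, b1, b2, b3, b4⟩ := C.mem00 hb
  exact ⟨sg_fix_pair hab.1 hab.2 a1 b1, sg_fix_pair hab.1 hab.2 a2 b2, sg_fix_pair hab.1 hab.2 a3 b3,
    sg_fix_pair hab.1 hab.2 a4 b4⟩

/-- For more than three elements the scalars are trivial by scaling the first pair. -/
theorem full_of_big [Fintype F] {X : Submodule ℂ V} (C : Cfg Q H e f e' f') (hG : Good ρ X H)
    (hq : 3 < Fintype.card F)
    (hd : d ∈ perp2 Q (perp2 Q H e f) e' f') (hd0 : d ≠ 0) (hQd : Q d = 0)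
    (hne : wsp ρ X H e' f' d ≠ ⊥) :
    wsp ρ (wsp ρ X H e f 0) (perp2 Q H e f) e' f' d ≠ ⊥ := by
  obtain ⟨a, ha0, ha⟩ := exists_sq_ne_one hq
  obtain ⟨y, hy, hy0⟩ := Submodule.exists_mem_ne_zero_of_ne_bot hne
  obtain ⟨hdH, d1, d2, d3, d4⟩ := C.mem00 hd
  have haux : Q (e' + f') ≠ 0 := by rw [map_add', C.hp'.qe, C.hp'.qf, C.hp'.pol]; simp
  have hxe : polar Q e (e' + f') = 0 := by rw [polar_add_right, C.ee', C.ef', add_zero]
  have hxf : polar Q f (e' + f') = 0 := by rw [polar_add_right, C.fe', C.ff', add_zero]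
  have hH' : e' + f' ∈ H := add_mem (perp2_le C.he') (perp2_le C.hf')
  obtain ⟨ds, hds, hdp, -⟩ := exists_partner_in C.nd00 ⊥ bot_le hd (by simpa using hd0) hQd (by simp)
  obtain ⟨hsH, s1, s2, s3, s4⟩ := C.mem00 hds
  have hxe2 : polar Q d (e + f) = 0 := by rw [polar_add_right, polar_comm, d1, polar_comm, d2, add_zero]
  have hxf2 : polar Q ds (e + f) = 0 := by rw [polar_add_right, polar_comm, s1, polar_comm, s2, add_zero]
  have haux2 : Q (e + f) ≠ 0 := by rw [map_add', C.hp.qe, C.hp.qf, C.hp.pol]; simp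
  refine C.exists_fixed_weight hG hd hd0 hy hy0 (fun x hx hxd => ?_)
    (sc_mem hdH hsH (add_mem C.he C.hf) a) ?_ ?_ ?_ ?_ ?_
  · obtain ⟨hxH, x1, x2, x3, x4⟩ := C.mem00 hx
    have hk : a * a - 1 ≠ 0 := sub_ne_zero.mpr ha
    have hu : (a * a - 1)⁻¹ • x ∈ perp2 Q (perp2 Q H e f) e' f' := Submodule.smul_mem _ _ hx
    refine C.fixed_diff hG hd hd0 hQd hy (sc_mem C.he C.hf hH' a)
      (sc_e C.hp hxe hxf haux ha0) (sc_perp C.hp hxe hxf haux ha0 C.ee' C.fe')
      (sc_perp C.hp hxe hxf haux ha0 C.ef' C.ff') (sc_perp C.hp hxe hxf haux ha0 d1 d2) hu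
      (by rw [polar_smul_right', hxd, mul_zero]) hx hxd ?_
    rw [map_smul, sc_perp C.hp hxe hxf haux ha0 x1 x2, smul_smul]
    rw [show (a * a - 1)⁻¹ • x + x = ((a * a - 1)⁻¹ + 1) • x by module]
    congr 1
    generalize hk' : a * a - 1 = k at hk ⊢
    field_simp
    linear_combination hk'
  · exact sc_perp hdp hxe2 hxf2 haux2 ha0 (by rw [polar_comm]; exact d1) (by rw [polar_comm]; exact s1)
  · exact sc_perp hdp hxe2 hxf2 haux2 ha0 (by rw [polar_comm]; exact d2) (by rw [polar_comm]; exact s2)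
  · exact sc_perp hdp hxe2 hxf2 haux2 ha0 (by rw [polar_comm]; exact d3) (by rw [polar_comm]; exact s3)
  · exact sc_perp hdp hxe2 hxf2 haux2 ha0 (by rw [polar_comm]; exact d4) (by rw [polar_comm]; exact s4)
  · rw [sc_e hdp hxe2 hxf2 haux2 ha0]
    intro h
    refine ha (smul_left_injective F hd0 ?_)
    show (a * a) • d = (1 : F) • d
    rw [h, one_smul]

/-- The scalars are trivial when enough room is left beside the weight. -/
theorem full_of_room {X : Submodule ℂ V} (C : Cfg Q H e f e' f') (hG : Good ρ X H)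
    (hd : d ∈ perp2 Q (perp2 Q H e f) e' f') (hd0 : d ≠ 0) (hQd : Q d = 0)
    (hne : wsp ρ X H e' f' d ≠ ⊥) {ds : M} (hds : ds ∈ perp2 Q (perp2 Q H e f) e' f')
    (hdp : Hyp Q d ds) (hR : 2 ≤ Module.finrank F (perp2 Q (perp2 Q (perp2 Q H e f) e' f') d ds))
    (hR' : ∀ u ∈ perp2 Q (perp2 Q (perp2 Q H e f) e' f') d ds, u ≠ 0 → Q u = 0 →
      3 ≤ Module.finrank F (perp2 Q (perp2 Q (perp2 Q H e f) e' f') d ds)) :
    wsp ρ (wsp ρ X H e f 0) (perp2 Q H e f) e' f' d ≠ ⊥ := by
  classical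
  set S := perp2 Q (perp2 Q H e f) e' f' with hSdef
  set R := perp2 Q S d ds with hRdef
  have hRnd : NDs Q R := C.nd00.perp2 hdp hd hds
  obtain ⟨hdH, d1, d2, d3, d4⟩ := C.mem00 hd
  obtain ⟨y, hy, hy0⟩ := Submodule.exists_mem_ne_zero_of_ne_bot hne
  -- vectors of `R` with prescribed product
  have hpair : ∀ w ∈ R, w ≠ 0 → ∀ c : F, ∃ x ∈ R, polar Q x w = c := by
    intro w hw hw0 c
    obtain ⟨z, hz, hzw⟩ : ∃ z ∈ R, polar Q w z ≠ 0 := by
      by_contra hc
      push Not at hc
      exact hw0 (hRnd w hw hc)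
    exact ⟨(c / polar Q w z) • z, R.smul_mem _ hz, by
      rw [polar_smul_left', polar_comm Q z w, div_mul_cancel₀ _ hzw]⟩
  have hRne : ∃ w ∈ R, w ≠ 0 := by
    by_contra hc
    push Not at hc
    rw [(Submodule.eq_bot_iff R).mpr hc, finrank_bot] at hR
    omega
  let P : Set M := {x | x ∈ S ∧ polar Q d x = 0 ∧ ρ (sg Q e x) y = y}
  have hadd : ∀ {a b : M}, a ∈ P → b ∈ P → a + b ∈ P := fun ⟨a0, a1, a2⟩ ⟨b0, b1, b2⟩ =>
    ⟨add_mem a0 b0, by rw [polar_add_right, a1, b1, add_zero], by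
      rw [sg_add C.hp.qe (C.mem00 a0).2.1 (C.mem00 b0).2.1, rho_mul, b2, a2]⟩
  have hone : ∀ {x u : M} {g : siegelGroup Q}, g ∈ SH Q S → g.1 d = d → x ∈ S → polar Q d x = 0 →
      u ∈ S → polar Q d u = 0 → g.1 x = x + u → u ∈ P := by
    intro x u g hg hgd hx hxd hu hud hgx
    have hfix : ∀ v, (∀ z ∈ S, polar Q z v = 0) → g.1 v = v := fun v hv => SH_fix hg hv
    refine ⟨hu, hud, C.fixed_diff hG hd hd0 hQd hy (SH_mono (perp2_le.trans perp2_le) hg) (c := 1)
      (by rw [one_smul]; exact hfix e fun z hz => by rw [polar_comm]; exact (C.mem00 hz).2.1)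
      (hfix e' fun z hz => by rw [polar_comm]; exact (C.mem00 hz).2.2.2.1)
      (hfix f' fun z hz => by rw [polar_comm]; exact (C.mem00 hz).2.2.2.2) hgd hx hxd hu hud
      (by rw [one_smul]; exact hgx)⟩
  obtain ⟨w0, hw0, hw0ne⟩ := hRne
  -- multiples of `d`
  have hPd : ∀ c : F, c • d ∈ P := fun c => by
    obtain ⟨x, hx, hxw⟩ := hpair w0 hw0 hw0ne (-c)
    obtain ⟨hxS, hxd, -⟩ := mem_perp2.mp hx
    obtain ⟨hwS, hwd, -⟩ := mem_perp2.mp hw0
    refine hone (sg_mem_SH hd hwS) (sg_fix_pair hQd hwd (by rw [polar_self', hQd, mul_zero]) hwd)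
      hxS hxd (S.smul_mem _ hd) (by rw [polar_smul_right', polar_self', hQd, mul_zero, mul_zero]) ?_
    rw [sg_apply hQd hwd, polar_comm Q x d, hxd, hxw]
    module
  -- singular vectors of `R`
  have hPs : ∀ u ∈ R, Q u = 0 → u ∈ P := by
    intro u hu hQu
    rcases eq_or_ne u 0 with rfl | hu0
    · simpa using hPd 0
    obtain ⟨us, hus, hup, -⟩ := exists_partner_in hRnd ⊥ bot_le hu (by simpa using hu0) hQu (by simp)
    have hdim := finrank_perp2_add (Q := Q) hup hu hus
    have h3 := hR' u hu hu0 hQu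
    have hnd' := hRnd.perp2 hup hu hus
    obtain ⟨w, hw, hw'⟩ : ∃ w ∈ perp2 Q R u us, w ≠ 0 := by
      by_contra hc
      push Not at hc
      rw [(Submodule.eq_bot_iff _).mpr hc, finrank_bot] at hdim
      omega
    obtain ⟨z, hz, hzw⟩ : ∃ z ∈ perp2 Q R u us, polar Q w z ≠ 0 := by
      by_contra hc
      push Not at hc
      exact hw' (hnd' w hw hc)
    obtain ⟨hwR, hwu, -⟩ := mem_perp2.mp hw
    obtain ⟨hzR, hzu, -⟩ := mem_perp2.mp hz
    obtain ⟨huS, hud, -⟩ := mem_perp2.mp hu
    obtain ⟨hwS, hwd, -⟩ := mem_perp2.mp hwR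
    obtain ⟨hzS, hzd, -⟩ := mem_perp2.mp hzR
    refine hone (sg_mem_SH huS hwS) (sg_fix_pair hQu hwu hud hwd)
      (S.smul_mem (-(polar Q w z)⁻¹) hzS) (by rw [polar_smul_right', hzd, mul_zero]) huS hud ?_
    rw [sg_apply hQu hwu, polar_smul_left', polar_smul_left', polar_comm Q z u, hzu,
      polar_comm Q z w, show -(polar Q w z)⁻¹ * polar Q w z = -1 by
        rw [neg_mul, inv_mul_cancel₀ hzw]]
    module
  have hPR : ∀ r ∈ R, r ∈ P := by
    intro r hr
    by_cases hiso : ∃ u ∈ R, u ≠ 0 ∧ Q u = 0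
    · obtain ⟨u, hu, hu0, hQu⟩ := hiso
      obtain ⟨us, hus, hup, -⟩ := exists_partner_in hRnd ⊥ bot_le hu (by simpa using hu0) hQu
        (by simp)
      have hr' := decomp_mem hup hu hus hr
      obtain ⟨hr'R, h1, h2⟩ := mem_perp2.mp hr'
      generalize hrr : r - polar Q r us • u - polar Q r u • us = r' at hr' hr'R h1 h2
      have hs : ∀ c : F, c • u ∈ P ∧ c • us ∈ P := fun c =>
        ⟨hPs _ (R.smul_mem _ hu) (by rw [map_smul', hQu, mul_zero]),
          hPs _ (R.smul_mem _ hus) (by rw [map_smul', hup.qf, mul_zero])⟩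
      have hmix : r' + u + (-Q r') • us ∈ P := by
        refine hPs _ (add_mem (add_mem hr'R hu) (R.smul_mem _ hus)) ?_
        rw [map_add', map_add', map_smul', hQu, hup.qf, polar_add_left, polar_smul_right',
          polar_smul_right', hup.pol, polar_comm Q r' u, h1, polar_comm Q r' us, h2]
        ring
      have hrP := hadd (hadd hmix (hadd (hs (polar Q r us - 1)).1 (hs (Q r')).2)) (hs (polar Q r u)).2
      rwa [show r' + u + (-Q r') • us + ((polar Q r us - 1) • u + Q r' • us) + polar Q r u • us = r by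
        rw [← hrr]; module] at hrP
    push Not at hiso
    rcases eq_or_ne r 0 with rfl | hr0
    · simpa using hPd 0
    have hQr : Q r ≠ 0 := hiso r hr hr0
    obtain ⟨z, hz, hzr⟩ : ∃ z ∈ R, z ∉ Submodule.span F {r} := by
      by_contra hc
      push Not at hc
      have := Submodule.finrank_mono (show R ≤ Submodule.span F {r} from hc)
      rw [finrank_span_singleton hr0] at this
      omega
    -- a vector of the same norm, not proportional
    obtain ⟨a, ha, hap, har⟩ : ∃ a ∈ R, polar Q r a ≠ 0 ∧ a ∉ Submodule.span F {r} := by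
      by_cases h : polar Q r z = 0
      · by_cases h2 : polar Q r r = 0
        · obtain ⟨w, hw, hwr⟩ := hpair r hr hr0 1
          rw [polar_comm] at hwr
          refine ⟨w, hw, by rw [hwr]; exact one_ne_zero, fun hwsp => ?_⟩
          obtain ⟨c, rfl⟩ := Submodule.mem_span_singleton.mp hwsp
          rw [polar_smul_right', h2, mul_zero] at hwr
          exact zero_ne_one hwr
        · exact ⟨r + z, add_mem hr hz, by rw [polar_add_right, h, add_zero]; exact h2,
            fun hm => hzr ((Submodule.add_mem_iff_right _ (Submodule.mem_span_singleton_self r)).mp hm)⟩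
      · exact ⟨z, hz, h, hzr⟩
    have hQa : Q a ≠ 0 := hiso a ha fun h0 => har (h0 ▸ Submodule.zero_mem _)
    set x := r - ((Q a)⁻¹ * polar Q r a) • a with hx
    have hxR : x ∈ R := sub_mem hr (R.smul_mem _ ha)
    have hQx : Q x = Q r := by
      rw [hx, CfsgLib.Geometry.map_sub', map_smul', polar_smul_right']; field_simp; ring
    have hxsp : x ∉ Submodule.span F {r} := fun hm => har (by
      have h1 := sub_mem (Submodule.mem_span_singleton_self r) hm
      rw [hx, sub_sub_cancel] at h1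
      exact (Submodule.smul_mem_iff _ (mul_ne_zero (inv_ne_zero hQa) hap)).mp h1)
    set r' := r - ((Q x)⁻¹ * polar Q r x) • x with hr'
    have hr'R : r' ∈ R := sub_mem hr (R.smul_mem _ hxR)
    have hx0 : Q x ≠ 0 := hQx ▸ hQr
    have hQr' : Q r' = Q r := by
      rw [hr', CfsgLib.Geometry.map_sub', map_smul', polar_smul_right']; field_simp; ring
    have hr'x : r' ∉ Submodule.span F {x} := fun hm => by
      have h1 := add_mem hm (Submodule.smul_mem _ ((Q x)⁻¹ * polar Q r x)
        (Submodule.mem_span_singleton_self x))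
      rw [hr', sub_add_cancel] at h1
      obtain ⟨c, hc⟩ := Submodule.mem_span_singleton.mp h1
      have hc0 : c ≠ 0 := fun h0 => hr0 (by rw [← hc, h0, zero_smul])
      exact hxsp (Submodule.mem_span_singleton.mpr ⟨c⁻¹, by rw [← hc, inv_smul_smul₀ hc0]⟩)
    obtain ⟨v, hv1, hv2⟩ := exists_polar (Q := Q.comp R.subtype) (nondeg_restrict hRnd)
      ((Submodule.span F {x}).comap R.subtype) (x := ⟨r', hr'R⟩) hr'x (-Q r)
    have hvx : polar Q (v : M) x = 0 := hv1 ⟨x, hxR⟩ (Submodule.mem_span_singleton_self x)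
    have hvr : polar Q (v : M) r' = -Q r := hv2
    obtain ⟨hxS, hxd, hxds⟩ := mem_perp2.mp hxR
    obtain ⟨hr'S, hr'd, hr'ds⟩ := mem_perp2.mp hr'R
    obtain ⟨hvS, hvd, hvds⟩ := mem_perp2.mp v.2
    obtain ⟨hrS, hrd, -⟩ := mem_perp2.mp hr
    have hr'0 : Q r' ≠ 0 := hQr' ▸ hQr
    refine hone (g := wN Q d ds x * wN Q d ds r') (mul_mem (wN_mem hd hds hxS) (wN_mem hd hds hr'S))
      ?_ hvS hvd hrS hrd ?_
    · simp only [mul_apply', wN_apply hdp hr'd hr'ds hr'0, wN_apply hdp hxd hxds hx0, hdp.ee, hdp.ff,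
        hdp.pol, hdp.pol', polar_sub_left, polar_add_left, polar_smul_left', hr'd, hxd,
        polar_comm Q r' d, polar_comm Q r' ds, hr'ds, hxds, hQr', hQx]
      match_scalars <;> field_simp <;> ring
    · have hrx' : r' - ((Q x)⁻¹ * polar Q r' x) • x = r := by
        rw [hr', polar_sub_left, polar_smul_left', polar_self']
        match_scalars <;> field_simp <;> ring
      simp only [mul_apply', wN_apply hdp hr'd hr'ds hr'0, polar_comm Q (v : M) d, hvd,
        polar_comm Q (v : M) ds, hvds, hvr, zero_smul, sub_zero, wN_apply hdp hxd hxds hx0,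
        polar_sub_left, polar_smul_left', hvx, polar_comm Q r' d, hr'd, polar_comm Q r' ds, hr'ds,
        mul_zero]
      conv_rhs => rw [← hrx']
      rw [hQr']
      match_scalars <;> field_simp <;> ring
  have hSall : ∀ x ∈ S, polar Q d x = 0 → ρ (sg Q e x) y = y := by
    intro x hx hxd
    have h1 := decomp_mem hdp hd hds hx
    rw [polar_comm Q x d, hxd, zero_smul, sub_zero] at h1
    have h2 := (hadd (hPR _ h1) (hPd (polar Q x ds))).2.2
    rwa [sub_add_cancel] at h2
  obtain ⟨hwS, hwd, hwds⟩ := mem_perp2.mp hw0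
  obtain ⟨g1, g2, g3, g4⟩ := C.sg_fix_config hds hwS ⟨hdp.qf, hwds⟩
  refine C.exists_fixed_weight hG hd hd0 hy hy0 hSall
    (SH_mono (perp2_le.trans perp2_le) (sg_mem_SH hds hwS)) g1 g2 g3 g4 fun hgd => hw0ne ?_
  rw [sg_apply hdp.qf hwds, hdp.pol] at hgd
  have h1 : w0 = Q w0 • ds := by
    rw [hwd] at hgd
    linear_combination (norm := module) hgd
  have h2 : Q w0 = 0 := by
    have h3 := congrArg (fun t => polar Q d t) h1
    simpa [polar_smul_right', hdp.pol, hwd] using h3.symm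
  rw [h1, h2, zero_smul]

end Cfg

end CfsgLib.KnownA.OrthMinDeg
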