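import Cfsg.Agent.Lib.KnownA.OrthMinDeg.CaseB

/-!
# The last fixed space when a line is left over
-/

set_option autoImplicit false

namespace CfsgLib.KnownA.OrthMinDeg

open QuadraticMap CfsgLib.Geometry CfsgLib.KnownA.CentralChar

section Elements

variable {F M : Type*} [Field F] [AddCommGroup M] [Module F M] {Q : QuadraticForm F M}
  {e f e' f' : M}

theorem Two.map (g : siegelGroup Q) (hd : Two Q e f e' f') :
    Two Q (g.1 e) (g.1 f) (g.1 e') (g.1 f') :=
  ⟨hd.h.map g, hd.h'.map g, by rw [polar', hd.ee'], by rw [polar', hd.ef'], by rw [polar', hd.fe'],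
    by rw [polar', hd.ff']⟩

/-- The Weyl element of the forked root is unchanged by the Weyl element of the root. -/
theorem rN_fork (hd : Two Q e f e' f') {c : F} (hc : c ≠ 0)
    (hd' : Two Q (c • f') (c⁻¹ • e') (-(c • f)) (-(c⁻¹ • e))) :
    rN Q (c • f') (c⁻¹ • e') (-(c • f)) (-(c⁻¹ • e)) = rN Q e f e' f' := by
  refine ext' fun v => ?_
  rw [rN_apply hd', rN_apply hd]
  simp only [polar_smul_right', polar_neg_right]
  match_scalars <;> field_simp <;> ring

end Elements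

variable {F M : Type*} [Field F] [Fintype F] [AddCommGroup M] [Module F M] [Finite M]
  [FiniteDimensional F M]
  {Q : QuadraticForm F M} {V : Type*} [AddCommGroup V] [Module ℂ V] [FiniteDimensional ℂ V]
  {ρ : Representation ℂ (siegelGroup Q) V}

namespace Mod

variable {Φ : Frame Q} {X : Submodule ℂ V} (hM : Mod ρ Φ X)
include hM

theorem fix_wN {x : V} (hx : x ∈ Cs ρ Φ X) {p : ℕ} (hp : p + 1 = Φ.m) {z : M}
    (hz : z ∈ Φ.lev Φ.m) : ρ (wN Q (Φ.e p) (Φ.f p) z) x = x := by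
  have hpm : p < Φ.m := by omega
  obtain ⟨-, hzp⟩ := (Φ.mem_lev _).mp hz
  rw [wN, rho_mul, rho_mul, hM.fix_e hx hpm (Φ.lev_mono (by omega) hz) (hzp p hpm).1,
    hM.fix_bottom hx hp (by rw [hp]; exact Submodule.smul_mem _ _ hz),
    hM.fix_e hx hpm (Φ.lev_mono (by omega) hz) (hzp p hpm).1]

/-- The middle character has order two. -/
theorem eig_quad {χ : ℕ → F → ℂ} {x : V} (hm : Φ.m = 3) (h : Eig ρ Φ X χ x) {z : M}
    (hz : z ∈ Φ.lev Φ.m) (hz0 : Q z ≠ 0) (hne : ∃ a : F, a ≠ 0 ∧ χ 1 a ≠ 1) {a : F} (ha : a ≠ 0) :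
    χ 1 (a * a) = 1 := by
  have hd := Φ.two (show 1 + 1 < Φ.m by omega)
  set e1 := Φ.e 1
  set f1 := Φ.f 1
  set e2 := Φ.e (1 + 1)
  set f2 := Φ.f (1 + 1)
  obtain ⟨hzH, hzp⟩ := (Φ.mem_lev _).mp hz
  obtain ⟨z1, z1'⟩ := hzp 1 (by omega)
  obtain ⟨z2, z2'⟩ := hzp (1 + 1) (by omega)
  set σ := sc Q e2 f2 z a with hσ
  set σ' := sc Q e1 f1 z a with hσ'
  have hm1 := Φ.mem 1 (show 1 < Φ.m by omega)
  have hm2 := Φ.mem (1 + 1) (show 1 + 1 < Φ.m by omega)
  have hσfix : ∀ y ∈ Cs ρ Φ X, ρ σ y = y := fun y hy => by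
    rw [hσ, sc, rho_mul, hM.fix_wN hy (by omega) hz,
      hM.fix_wN hy (by omega) (Submodule.smul_mem _ a hz)]
  have hn : σ * rN Q e1 f1 e2 f2 = rN Q e1 f1 e2 f2 * σ' := by
    refine ext' fun v => ?_
    simp only [mul_apply', hσ, hσ', rN_apply hd, sc_apply hd.h' z2 z2' hz0 ha,
      sc_apply hd.h z1 z1' hz0 ha, polar_add_left, polar_sub_left, polar_neg_left, polar_smul_left',
      hd.h.ee, hd.h.ff, hd.h'.ee, hd.h'.ff, hd.h.pol, hd.h.pol', hd.h'.pol, hd.h'.pol', hd.ee',
      hd.ef', hd.fe', hd.ff', polar_comm Q e2 e1, polar_comm Q e2 f1, polar_comm Q f2 e1,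
      polar_comm Q f2 f1]
    match_scalars <;> field_simp <;> ring
  have hA : ∀ s, σ * rA Q e1 f2 s = rA Q e1 f2 ((a * a)⁻¹ * s) * σ := fun s => by
    rw [rA, sg_mul_comm, hσ, sc_perp hd.h' z2 z2' hz0 ha hd.comm.ee' hd.comm.fe', map_smul,
      sc_f hd.h' z2 z2' hz0 ha, smul_smul, mul_comm s, rA]
  have hDiag : Diag Φ σ' := by
    refine ⟨sc_mem hm1.1 hm1.2 hzH a, fun k hk => ?_⟩
    by_cases h1 : k = 1
    · subst h1
      exact ⟨a * a, mul_ne_zero ha ha, sc_e hd.h z1 z1' hz0 ha, sc_f hd.h z1 z1' hz0 ha⟩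
    · have o := Φ.orth 1 (by omega) k hk (Ne.symm h1)
      exact ⟨1, one_ne_zero, by rw [one_smul]; exact sc_perp hd.h z1 z1' hz0 ha o.ee' o.fe',
        by rw [inv_one, one_smul]; exact sc_perp hd.h z1 z1' hz0 ha o.ef' o.ff'⟩
  have hy : ρ σ' x - x ∈ Cs ρ Φ X := sub_mem (diag_mem hM hDiag h.mem) h.mem
  have h1 : 1 + 1 < Φ.m := by omega
  have hT : Φ.T ρ 1 (ρ σ' x - x) = 0 := by
    rw [map_sub, sub_eq_zero]
    refine (Top_conj hd (inv_ne_zero (mul_ne_zero ha ha)) hn hA x).symm.trans ?_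
    exact hσfix _ (hM.Top_mem h.mem h1)
  have hfix : ρ σ' x = x := by
    by_contra hne'
    have hE : Eig ρ Φ X χ (ρ σ' x - x) := ⟨hy, sub_ne_zero.mpr hne', fun k hk b hb => by
      rw [map_sub, ← rho_mul, ← (Φ.diag_h_comm hDiag hk hb).eq, rho_mul, h.eig k hk b hb,
        LinearMap.map_smul, smul_sub]⟩
    exact hE.Top_ne hM h1 hne hT
  have he : Φ.h 1 (a * a) * σ = σ' := by
    rw [show Φ.h 1 (a * a) = rH Q e1 f1 e2 f2 (a * a) from rfl]
    refine ext' fun v => ?_
    simp only [mul_apply', hσ, hσ', sc_apply hd.h' z2 z2' hz0 ha,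
      sc_apply hd.h z1 z1' hz0 ha, rH_apply hd (mul_ne_zero ha ha), polar_add_left, polar_smul_left',
      hd.h.ee, hd.h.ff, hd.h'.ee, hd.h'.ff, hd.h.pol, hd.h.pol', hd.h'.pol, hd.h'.pol', hd.ee',
      hd.ef', hd.fe', hd.ff', polar_comm Q e2 e1, polar_comm Q e2 f1, polar_comm Q f2 e1,
      polar_comm Q f2 f1]
    match_scalars <;> field_simp <;> ring
  have h2 : ρ (Φ.h 1 (a * a)) x = x := by
    conv_rhs => rw [← hfix, ← he, rho_mul, hσfix x h.mem]
  rw [h.eig 1 h1 _ (mul_ne_zero ha ha)] at h2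
  refine smul_left_injective ℂ h.ne ?_
  show χ 1 (a * a) • x = (1 : ℂ) • x
  rw [h2, one_smul]

omit hM in
theorem wproj_fixed {H : Submodule F M} {e f : M} {v : V} (hH : Hyp Q e f)
    (h : ∀ y ∈ perp2 Q H e f, ρ (sg Q e y) v = v) :
    wproj ρ H e f 0 v = v ∧ ∀ D, D ∈ perp2 Q H e f → D ≠ 0 → NDs Q (perp2 Q H e f) →
      wproj ρ H e f D v = 0 := by
  have hmem : v ∈ space ρ (zf Q (perp2 Q H e f) e) (wch Q _ 0) := fun y => by
    rw [wch_zero, AddChar.one_apply, one_smul]; exact h y y.2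
  refine ⟨proj_of_mem ρ hmem, fun D hD hD0 hnd => proj_of_mem_ne ρ (zf_add hH.qe) (fun hc => ?_) hmem⟩
  exact hD0 (wch_injective hnd hD (Submodule.zero_mem _) hc)

omit hM in
theorem wproj_absorb {H : Submodule F M} {e f : M} (hH : Hyp Q e f) {u : M}
    (hu : u ∈ perp2 Q H e f) {D : M} (hDu : polar Q D u = 0) (v : V) :
    wproj ρ H e f D (avA ρ e u v) = wproj ρ H e f D v := by
  rw [avA, proj_one_apply, map_smul, map_sum, Finset.sum_congr rfl fun s _ =>
    (show wproj ρ H e f D (ρ (rA Q e u s) v) = wproj ρ H e f D v by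
      refine (proj_comm_self ρ (zf_add hH.qe) _ ⟨s • u, Submodule.smul_mem _ s hu⟩ v).trans ?_
      refine (proj_mem ρ (zf_add hH.qe) _ v ⟨s • u, Submodule.smul_mem _ s hu⟩).trans ?_
      rw [wch_apply, polar_smul_right', hDu, mul_zero, AddChar.map_zero_eq_one, one_smul]
      rfl),
    Finset.sum_const, Finset.card_univ, ← Nat.cast_smul_eq_nsmul ℂ, smul_smul,
    inv_mul_cancel₀ (Nat.cast_ne_zero.mpr Fintype.card_ne_zero), one_smul]

/-- No vector has the eigenvalue `-1/q` for the last root. -/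
theorem last_zero (hK : Module.finrank F (Φ.lev Φ.m) = 1) (h2 : (2 : F) ≠ 0) (ht : Triv ρ Φ X)
    {p : ℕ} (hp : p + 2 = Φ.m) {a : V} (ha : a ∈ Cs ρ Φ X)
    (hTa : (Fintype.card F : ℂ) • Φ.T ρ p a = -a) : a = 0 := by
  classical
  have hp1 : p + 1 < Φ.m := by omega
  have hd := Φ.two hp1
  obtain ⟨hep, hfp⟩ := Φ.pair_mem_lev (k := p) le_rfl (show p < Φ.m by omega)
  obtain ⟨he', hf'⟩ := Φ.pair_mem_lev (k := p + 1) le_rfl hp1
  obtain ⟨hep', hfp'⟩ := Φ.pair_mem_lev (k := p) (show p ≤ p + 1 by omega) hp1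
  obtain ⟨z, hz, hν⟩ := Φ.exists_rest (by omega)
  obtain ⟨-, hzp⟩ := (Φ.mem_lev _).mp hz
  obtain ⟨ze, zf⟩ := hzp p (by omega)
  obtain ⟨ze', zf'⟩ := hzp (p + 1) hp1
  have hzl : z ∈ Φ.lev (p + 1) := Φ.lev_mono (by omega) hz
  have hzl0 : z ∈ Φ.lev p := Φ.lev_mono (by omega) hz
  set e := Φ.e p
  set f := Φ.f p
  set e' := Φ.e (p + 1)
  set f' := Φ.f (p + 1)
  set ν := Q z with hνdef
  set q : ℂ := (Fintype.card F : ℂ) with hq
  have hq0 : q ≠ 0 := Nat.cast_ne_zero.mpr Fintype.card_ne_zero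
  set n := rN Q e f e' f' with hn
  set w := wN Q e' f' z with hw
  have hwv := fun v => wN_apply hd.h' ze' zf' hν v
  have hwe : w.1 e = e := by
    rw [hw, hwv, hd.ee', hd.ef', ze]; module
  have hwf : w.1 f = f := by
    rw [hw, hwv, hd.fe', hd.ff', zf]; module
  set c : F := -ν⁻¹ with hcdef
  have hc : c ≠ 0 := neg_ne_zero.mpr (inv_ne_zero hν)
  have hwe' : w.1 e' = c • f' := by
    rw [hw, hwv, hd.h'.pol, hd.h'.ee, ze', hcdef]; module
  have hwf' : w.1 f' = c⁻¹ • e' := by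
    rw [hw, hwv, hd.h'.pol', hd.h'.ff, zf', hcdef, inv_neg, inv_inv]; module
  have hwfix : ρ w a = a := hM.fix_wN ha (by omega) hz
  set n' := rN Q e f (c • f') (c⁻¹ • e') with hn'
  have hd' : Two Q e f (c • f') (c⁻¹ • e') := by
    rw [← hwe', ← hwf']
    have := hd.map w
    rwa [hwe, hwf] at this
  have hwn : w * n * w⁻¹ = n' := by rw [hn, rN_conj, hwe, hwf, hwe', hwf']
  have hwfix' : ρ w⁻¹ a = a := by conv_lhs => rw [← hwfix]; rw [rho_inv_self]
  have hn'a : ρ n' a = ρ w (ρ n a) := by rw [← hwn, rho_mul, rho_mul, hwfix']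
  have nn : ρ n (ρ n a) = a := hM.n_n ht ha hp1
  have nn' : ρ n' (ρ n' a) = a := by
    rw [← hwn, ← rho_mul, show w * n * w⁻¹ * (w * n * w⁻¹) = w * (n * n) * w⁻¹ by group, rho_mul,
      hwfix', rho_mul, rho_mul, nn, hwfix]
  -- the two roots commute
  have n'e' : n'.1 e' = -(c • f) := by
    have h1 : n'.1 e' = c • n'.1 (c⁻¹ • e') := by rw [← map_smul, smul_inv_smul₀ hc]
    rw [h1, hn', rN_f' hd', smul_neg]
  have n'f' : n'.1 f' = -(c⁻¹ • e) := by
    have h1 : n'.1 f' = c⁻¹ • n'.1 (c • f') := by rw [← map_smul, inv_smul_smul₀ hc]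
    rw [h1, hn', rN_e' hd', smul_neg]
  have n'e : n'.1 e = c • f' := rN_e hd'
  have n'f : n'.1 f = c⁻¹ • e' := rN_f hd'
  have hcomm : Commute n' n := by
    show n' * n = n * n'
    rw [← mul_inv_eq_iff_eq_mul, hn, rN_conj, n'e, n'f, n'e', n'f']
    refine rN_fork hd hc ?_
    have := hd.map n'
    rwa [n'e, n'f, n'e', n'f'] at this
  have hcnn : ∀ v, ρ n' (ρ n v) = ρ n (ρ n' v) := fun v => by
    rw [← rho_mul, hcomm.eq, rho_mul]
  set N := n * n' with hN
  have hNN : ρ N (ρ N a) = a := by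
    have h1 : N * N = n * n * (n' * n') := by
      calc N * N = n * (n' * n) * n' := by rw [hN]; group
        _ = n * (n * n') * n' := by rw [hcomm.eq]
        _ = _ := by group
    rw [← rho_mul, h1, rho_mul, rho_mul ρ n' n', nn', rho_mul, nn]
  -- the averages
  have hT1 : avA ρ e f' (ρ n a) = (-q⁻¹) • a := by
    have h' : q • avA ρ e f' (ρ n a) = -a := hTa
    rw [neg_smul, ← smul_neg, ← h', inv_smul_smul₀ hq0]
  have hT2 : avA ρ e (c⁻¹ • e') (ρ n' a) = (-q⁻¹) • a := by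
    rw [hn'a, ← avA_move (g := w) (u := e) (x := f') (c := 1) one_ne_zero (fun s => by
      rw [one_mul, ← mul_inv_eq_iff_eq_mul, rA_conj, hwe, hwf']), hT1, LinearMap.map_smul, hwfix]
  set b := ρ N a with hb
  have hTb : avA ρ e (c⁻¹ • e') b = (-q⁻¹) • ρ n a := by
    rw [hb, hN, rho_mul, ← avA_comm (g := n) (fun s => ?_), hT2, LinearMap.map_smul]
    show n * rA Q e (c⁻¹ • e') s = rA Q e (c⁻¹ • e') s * n
    rw [← mul_inv_eq_iff_eq_mul, rA_conj, hn, rN_e hd, map_smul, rN_e' hd,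
      show c⁻¹ • -e = -(c⁻¹ • e) from smul_neg _ _, rA, rA, smul_neg,
      sg_swap hd.h'.qe (by rw [QuadraticMap.map_neg, map_smul', map_smul', hd.h.qe, mul_zero, mul_zero]) (by
        rw [polar_neg_right, polar_smul_right', polar_smul_right', hd.comm.ee', mul_zero, mul_zero,
          neg_zero]),
      smul_smul, ← neg_smul, sg_smul_left hd.h.qe (by rw [polar_neg_right, hd.ee', neg_zero]),
      smul_smul]
    congr 1
    module
  -- the weights at the level `p`
  have hG := hM.goodk (k := p) (by omega)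
  have hyp := Φ.hyp p (by omega)
  have hnd : NDs Q (Φ.lev (p + 1)) := Φ.lev_nd (by omega)
  have hafix : ∀ y ∈ perp2 Q (Φ.lev p) e f, ρ (sg Q e y) a = a := fun y hy =>
    hM.fix_e ha (by omega) (perp2_le hy) (mem_perp2.mp hy).2.1
  obtain ⟨hPa0, hPaD⟩ := wproj_fixed hyp hafix
  let P : M → V →ₗ[ℂ] V := fun D => wproj ρ (Φ.lev p) e f D
  have hPn : ∀ D ∈ Φ.lev (p + 1), (¬∃ t : F, D = t • e') → P D (ρ n a) = 0 := by
    intro D hD hne
    by_contra h0
    refine hne ⟨polar Q D f', sub_eq_zero.mp (hnd _ (sub_mem hD (Submodule.smul_mem _ _ he'))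
      fun y hy => eq_zero_of_psi fun t => ?_)⟩
    set y' := t • (y - polar Q y e' • f') with hy'
    have hym : y' ∈ Φ.lev (p + 1) := Submodule.smul_mem _ _ (sub_mem hy (Submodule.smul_mem _ _ hf'))
    have hy1 : polar Q e' y' = 0 := by
      rw [hy', polar_smul_right', polar_sub_right, polar_smul_right', hd.h'.pol, polar_comm Q y]; ring
    have h1 := eq_of_proj ρ (zf_add hyp.qe) (a := ⟨y', hym⟩) h0
      (show ρ (sg Q e y') (ρ n a) = (1 : ℂ) • ρ n a by rw [hn, hM.fix_low ha hp1 hym hy1, one_smul])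
    rw [wch_apply] at h1
    convert h1 using 2
    simp only [hy', polar_smul_right', polar_sub_right, polar_sub_left, polar_smul_left',
      polar_comm Q y e']
    ring
  have hPn0 : P 0 (ρ n a) = (-q⁻¹) • a := by
    show wproj ρ (Φ.lev p) e f 0 (ρ n a) = _
    rw [← wproj_absorb hyp (show f' ∈ perp2 Q (Φ.lev p) e f from hf') (polar_zero_left (Q := Q) f'),
      hT1, LinearMap.map_smul, hPa0]
  have hPb : ∀ t : F, P (t • e') b = (-q⁻¹) • P (t • e') (ρ n a) := fun t => by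
    show wproj ρ (Φ.lev p) e f _ b = _
    rw [← wproj_absorb hyp (show c⁻¹ • e' ∈ perp2 Q (Φ.lev p) e f from Submodule.smul_mem _ _ he')
      (show polar Q (t • e') (c⁻¹ • e') = 0 by
        rw [polar_smul_left', polar_smul_right', hd.h'.ee, mul_zero, mul_zero]),
      hTb, LinearMap.map_smul]
  have hPb0 : P 0 b = (q⁻¹ * q⁻¹) • a := by
    rw [show (0 : M) = (0 : F) • e' from (zero_smul _ _).symm, hPb, zero_smul, hPn0, smul_smul,
      neg_mul_neg]
  -- the elements moving the weights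
  let g : Option F → siegelGroup Q := fun o => o.elim w fun s => sg Q f' (s • z)
  have hzs : ∀ s : F, polar Q f' (s • z) = 0 := fun s => by rw [polar_smul_right', zf', mul_zero]
  have hg_mem : ∀ o, g o ∈ SH Q (Φ.lev (p + 1)) := by
    rintro (_ | s)
    · exact wN_mem he' hf' hzl
    · exact sg_mem_SH hf' (Submodule.smul_mem _ _ hzl)
  have hg_memp : ∀ o, g o ∈ SH Q (Φ.lev p) := fun o =>
    SH_mono (Φ.lev_mono (Nat.le_succ p)) (hg_mem o)
  have hge : ∀ o, (g o).1 e = e := fun o =>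
    SH_fix (hg_mem o) fun y hy => by rw [polar_comm]; exact (mem_perp2.mp hy).2.1
  have hgf : ∀ o, (g o).1 f = f := fun o =>
    SH_fix (hg_mem o) fun y hy => by rw [polar_comm]; exact (mem_perp2.mp hy).2.2
  have hga : ∀ o, ρ (g o) a = a := by
    rintro (_ | s)
    · exact hwfix
    · exact hM.fix_bottom ha (show p + 1 + 1 = Φ.m by omega)
        (Submodule.smul_mem _ _ (Φ.lev_mono (by omega) hz))
  let g' : Option F → siegelGroup Q := fun o => o.elim w fun s => sg Q (N.1 f') (s • z)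
  have hNz : N.1 z = z := by
    rw [hN, mul_apply', hn', rN_perp hd' ze zf (by rw [polar_smul_left', zf', mul_zero])
      (by rw [polar_smul_left', ze', mul_zero]), hn, rN_perp hd ze zf ze' zf']
  have hNg : ∀ o, N * g o = g' o * N := by
    rintro (_ | s)
    · show N * w = w * N
      have h1 : w * n' * w⁻¹ = n := by
        rw [hn', rN_conj, hwe, hwf, map_smul, map_smul, hwe', hwf', smul_inv_smul₀ hc,
          inv_smul_smul₀ hc]
      have h2 : w * N * w⁻¹ = N := by
        calc w * N * w⁻¹ = (w * n * w⁻¹) * (w * n' * w⁻¹) := by rw [hN]; group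
          _ = n' * n := by rw [hwn, h1]
          _ = N := by rw [hcomm.eq, hN]
      exact (mul_inv_eq_iff_eq_mul.mp h2).symm
    · show N * sg Q f' (s • z) = _
      rw [sg_mul_comm, map_smul, hNz]
      rfl
  have hNf' : N.1 f' = -(c⁻¹ • e') := by
    rw [hN, mul_apply', n'f', map_neg, map_smul, hn, rN_e hd]
  have hg'_mem : ∀ o, g' o ∈ SH Q (Φ.lev (p + 1)) := by
    rintro (_ | s)
    · exact hg_mem none
    · show sg Q (N.1 f') (s • z) ∈ _
      rw [hNf']
      exact sg_mem_SH (neg_mem (Submodule.smul_mem _ _ he')) (Submodule.smul_mem _ _ hzl)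
  have hg'a : ∀ o, ρ (g' o) a = a := by
    rintro (_ | s)
    · exact hwfix
    · show ρ (sg Q (N.1 f') (s • z)) a = a
      rw [hNf', ← neg_smul, sg_smul_left hd.h'.qe (by rw [polar_smul_right', ze', mul_zero])]
      exact hM.fix_e ha hp1 (Submodule.smul_mem _ _ (Submodule.smul_mem _ _ hzl))
        (by rw [polar_smul_right', polar_smul_right', ze', mul_zero, mul_zero])
  have hgb : ∀ o, ρ (g o) b = b := fun o => by
    have h1 : N * g o = g' o * N := hNg o
    refine rho_injective ρ N ?_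
    rw [← rho_mul, h1, rho_mul, hb, hNN, hg'a]
  set y0 := (-q⁻¹) • ρ n a - (q⁻¹ * q⁻¹) • a with hy0
  have hy00 : P 0 y0 = 0 := by
    rw [hy0, map_sub, LinearMap.map_smul, LinearMap.map_smul, hPn0, hPa0, smul_smul, neg_mul_neg,
      sub_self]
  have hmove : ∀ o, ∀ D v, ρ (g o) (P D v) = P ((g o).1 D) (ρ (g o) v) := fun o D v =>
    wproj_conj (hg_memp o) (hge o) (hgf o) D v
  have hpre : ∀ o D, P D (ρ (g o) y0) = ρ (g o) (P (((g o)⁻¹).1 D) y0) := fun o D => by
    rw [hmove, apply_inv_self]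
  -- the lines of the singular points
  have hgline : ∀ (o : Option F) (t : F), (g o).1 (t • e') =
      o.elim ((t * c) • f') fun s => t • e' + (t * s) • z - (t * (s * s * ν)) • f' := by
    rintro (_ | s) t
    · show w.1 (t • e') = _
      rw [map_smul, hwe', smul_smul]; rfl
    · show (sg Q f' (s • z)).1 (t • e') = _
      rw [map_smul, sg_apply hd.h'.qf (hzs s), hd.h'.pol, polar_smul_right', ze', map_smul', ← hνdef]
      simp only [Option.elim]
      module
  have hcover : ∀ D ∈ Φ.lev (p + 1), Q D = 0 → ∃ (o : Option F) (t : F), D = (g o).1 (t • e') := by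
    intro D hD hQD
    set r := D - polar Q D f' • e' - polar Q D e' • f' with hr
    have hrm : r ∈ Φ.lev Φ.m := by
      have := decomp_mem hd.h' he' hf' hD
      rwa [← Φ.lev_succ, show p + 1 + 1 = Φ.m by omega] at this
    obtain ⟨γ, hγ⟩ : ∃ γ : F, γ • z = r := by
      obtain ⟨γ, hγ⟩ := (finrank_eq_one_iff_of_nonzero' (⟨z, hz⟩ : Φ.lev Φ.m) (fun h => hν (by
        have hz00 : z = 0 := congrArg Subtype.val h
        simp [hνdef, hz00]))).mp hK ⟨r, hrm⟩
      exact ⟨γ, congrArg Subtype.val hγ⟩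
    have hDeq : D = polar Q D f' • e' + polar Q D e' • f' + γ • z := by rw [hγ, hr]; module
    have hQ' : polar Q D f' * polar Q D e' + γ * γ * ν = 0 := by
      have h0 : Q (polar Q D f' • e' + polar Q D e' • f' + γ • z) = 0 := by rw [← hDeq]; exact hQD
      simpa [map_add', map_smul', hd.h'.qe, hd.h'.qf, polar_add_left, polar_smul_left',
        polar_smul_right', hd.h'.pol, ze', zf', ← hνdef, mul_comm, mul_left_comm] using h0
    by_cases hα : polar Q D f' = 0
    · rw [hα, zero_mul, zero_add] at hQ'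
      have hγ0 : γ = 0 := mul_self_eq_zero.mp ((mul_eq_zero.mp hQ').resolve_right hν)
      refine ⟨none, c⁻¹ * polar Q D e', ?_⟩
      rw [hgline]
      conv_lhs => rw [hDeq]
      rw [hα, hγ0]
      simp only [Option.elim]
      match_scalars <;> field_simp <;> ring
    · refine ⟨some (γ / polar Q D f'), polar Q D f', ?_⟩
      rw [hgline]
      conv_lhs => rw [hDeq]
      simp only [Option.elim]
      match_scalars <;> field_simp
      linear_combination hQ'
  have hdisj : ∀ (o o' : Option F) (t t' : F), t ≠ 0 → (g o).1 (t • e') = (g o').1 (t' • e') → o = o' := by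
    intro o o' t t' ht0 h
    rw [hgline, hgline] at h
    have h3 := congrArg (fun v => polar Q v f') h
    have h4 := congrArg (fun v => polar Q v z) h
    rcases o with _ | s <;> rcases o' with _ | s' <;>
      simp only [Option.elim, polar_add_left, polar_sub_left, polar_smul_left', hd.h'.pol,
        hd.h'.ff, polar_comm Q z f', zf', ze', polar_self', ← hνdef, mul_zero, add_zero, sub_zero,
        zero_add, mul_one] at h3 h4
    · rfl
    · subst h3
      have h5 := congrArg (fun v => polar Q v e') h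
      simp only [Option.elim, polar_add_left, polar_sub_left, polar_smul_left', hd.h'.pol',
        polar_zero_left, zero_smul, zero_mul, add_zero, sub_zero, mul_one] at h5
      exact absurd h5 (mul_ne_zero ht0 hc)
    · exact absurd h3 ht0
    · rw [← h3] at h4
      have : t * (2 * ν) * (s - s') = 0 := by linear_combination h4
      rw [mul_eq_zero, mul_eq_zero, mul_eq_zero, sub_eq_zero] at this
      rcases this with (h | h | h) | h
      · exact absurd h ht0
      · exact absurd h h2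
      · exact absurd h hν
      · rw [h]
  have hbX : b ∈ Xk ρ Φ X p := hG.stb _ (mul_mem (rN_mem hep hfp hep' hfp')
    (rN_mem hep hfp (Submodule.smul_mem _ _ hfp') (Submodule.smul_mem _ _ hep'))) _
    (hM.mem_X ha p (by omega))
  have hy0X : y0 ∈ Xk ρ Φ X p := sub_mem
    (Submodule.smul_mem _ _ (hG.stb _ (rN_mem hep hfp hep' hfp') _ (hM.mem_X ha p (by omega))))
    (Submodule.smul_mem _ _ (hM.mem_X ha p (by omega)))
  have hbeq : b = (q⁻¹ * q⁻¹) • a + ∑ o, ρ (g o) y0 := by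
    rw [← sub_eq_zero]
    refine eq_zero_of_wproj (Φ.lev_nd (show p ≤ Φ.m by omega)) hyp hep hfp (ρ := ρ) fun D hD => ?_
    by_cases hQD : Q D = 0
    swap
    · have hXm : b - ((q⁻¹ * q⁻¹) • a + ∑ o, ρ (g o) y0) ∈ Xk ρ Φ X p :=
        sub_mem hbX (add_mem (Submodule.smul_mem _ _ (hM.mem_X ha p (by omega)))
          (Submodule.sum_mem _ fun o _ => hG.stb _ (hg_memp o) _ hy0X))
      have h1 := wproj_mem hG.stb hep hyp.qe D (f := f) hXm
      rwa [hG.nonsing _ _ D hyp hep hfp hD hQD, Submodule.mem_bot] at h1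
    show P D _ = 0
    rw [map_sub, map_add, LinearMap.map_smul, map_sum]
    rcases eq_or_ne D 0 with rfl | hD0
    · rw [show P 0 a = a from hPa0, hPb0, Finset.sum_eq_zero (fun o _ => ?_), add_zero, sub_self]
      rw [hpre, map_zero, hy00, map_zero]
    · rw [show P D a = 0 from hPaD D hD hD0 hnd, smul_zero, zero_add]
      obtain ⟨o, t, hot⟩ := hcover D hD hQD
      subst hot
      have ht0 : t ≠ 0 := fun h => hD0 (by rw [h, zero_smul, map_zero])
      rw [Finset.sum_eq_single o]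
      · have hP : ∀ v, ρ (g o) (P (t • e') v) = P ((g o).1 (t • e')) (ρ (g o) v) := hmove o _
        rw [← hgb o, ← hP, hPb, ← hP, hy0, map_sub (P _), LinearMap.map_smul, LinearMap.map_smul,
          LinearMap.map_smul,
          show P (t • e') a = 0 from hPaD _ (Submodule.smul_mem _ _ he')
            (smul_ne_zero ht0 hd.h'.ne) hnd, smul_zero, sub_zero, LinearMap.map_smul, sub_self]
      · intro o' _ ho'
        rw [hpre, hy0, map_sub (P _), LinearMap.map_smul, LinearMap.map_smul]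
        have hDm : ((g o')⁻¹).1 ((g o).1 (t • e')) ∈ Φ.lev (p + 1) :=
          (SH_props (hg_mem o')).2.1 _ hD
        rw [hPn _ hDm (fun ⟨t', ht'⟩ => ho' (hdisj o o' t t' ht0
            (by rw [← ht', apply_inv_self])).symm),
          show P _ a = 0 from hPaD _ hDm (fun h0 => smul_ne_zero ht0 hd.h'.ne
            (by simpa using congrArg (fun v => (g o').1 v) h0)) hnd,
          smul_zero, smul_zero, sub_zero, map_zero]
      · simp
  -- apply `N` and average
  have hfin := congrArg (fun v => P 0 (ρ N v)) hbeq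
  have hPN : ∀ o, P 0 (ρ N (ρ (g o) y0)) = ((q⁻¹ * q⁻¹) - (q⁻¹ * q⁻¹) * (q⁻¹ * q⁻¹)) • a := by
    intro o
    have hg'e : (g' o).1 e = e :=
      SH_fix (hg'_mem o) fun y hy => by rw [polar_comm]; exact (mem_perp2.mp hy).2.1
    have hg'f : (g' o).1 f = f :=
      SH_fix (hg'_mem o) fun y hy => by rw [polar_comm]; exact (mem_perp2.mp hy).2.2
    have hNy : P 0 (ρ N y0) = ((q⁻¹ * q⁻¹) - (q⁻¹ * q⁻¹) * (q⁻¹ * q⁻¹)) • a := by
      have h1 : ρ N (ρ n a) = ρ n' a := by rw [hN, ← hcomm.eq, rho_mul, nn]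
      have h3 : P 0 (ρ n' a) = (-q⁻¹) • a := by
        have := hmove none 0 (ρ n a)
        rw [map_zero] at this
        rw [hn'a, ← show g none = w from rfl, ← this, hPn0, LinearMap.map_smul, hga]
      rw [hy0, map_sub, LinearMap.map_smul, LinearMap.map_smul, h1, ← hb, map_sub, LinearMap.map_smul,
        LinearMap.map_smul, h3, hPb0, smul_smul, smul_smul, neg_mul_neg, ← sub_smul]
    have h5 := wproj_conj (ρ := ρ) (SH_mono (Φ.lev_mono (Nat.le_succ p)) (hg'_mem o)) hg'e hg'f 0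
      (ρ N y0)
    rw [map_zero] at h5
    rw [← rho_mul, hNg, rho_mul]
    show wproj ρ (Φ.lev p) e f 0 _ = _
    rw [← h5, show wproj ρ (Φ.lev p) e f 0 (ρ N y0) = _ from hNy, LinearMap.map_smul, hg'a]
  simp only [map_add, LinearMap.map_smul, map_sum, hPN, ← hb] at hfin
  rw [hb, hNN, ← hb, hPb0, show P 0 a = a from hPa0, Finset.sum_const, Finset.card_univ,
    Fintype.card_option, ← Nat.cast_smul_eq_nsmul ℂ, Nat.cast_add, Nat.cast_one, ← hq] at hfin
  have hcoef : q * q * (q * q) - 1 - (q + 1) * (q * q - 1) ≠ 0 := by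
    have h2' : 2 ≤ Fintype.card F := Fintype.one_lt_card
    rw [sub_ne_zero, sub_eq_add_neg, hq]
    intro h
    have h' : ((Fintype.card F : ℤ) * Fintype.card F * (Fintype.card F * Fintype.card F) + -1) =
        (Fintype.card F + 1) * (Fintype.card F * Fintype.card F - 1) := by exact_mod_cast h
    have : (2 : ℤ) ≤ Fintype.card F := by exact_mod_cast h2'
    nlinarith
  have h9 : (q * q * (q * q) - 1 - (q + 1) * (q * q - 1)) • a = 0 := by
    have h5 := congrArg (fun v => (q * q * (q * q)) • v) (sub_eq_zero.mpr hfin)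
    simp only [smul_zero] at h5
    rw [← h5]
    match_scalars <;> field_simp <;> ring
  exact (smul_eq_zero.mp h9).resolve_left hcoef

/-- The bound when a line is left over. -/
theorem Cs_bound_odd (hm : 3 ≤ Φ.m) (hK : Module.finrank F (Φ.lev Φ.m) = 1) (h2 : (2 : F) ≠ 0)
    (hno : ∀ x ∈ X, (∀ g ∈ SH Q Φ.H, ρ g x = x) → x = 0) :
    Φ.m ≤ Module.finrank ℂ (Cs ρ Φ X) := by
  obtain ⟨z, hz, hz0⟩ := Φ.exists_rest (by omega)
  by_cases ht : Triv ρ Φ X
  swap
  · simp only [Triv, not_forall] at ht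
    obtain ⟨y, hy, k, hk, c, hc, hne⟩ := ht
    obtain ⟨χ, x, hx, hn⟩ := exists_eig hM hk hc hy hne
    exact caseA hM hm (fun h3 χ' x' hx' hn' a ha => hM.eig_quad h3 hx' hz hz0 hn' ha) hx ⟨k, hk, hn⟩
  exfalso
  obtain ⟨p, hp⟩ : ∃ p, p + 2 = Φ.m := ⟨Φ.m - 2, by omega⟩
  obtain ⟨i, hi, hne⟩ := hM.exists_Uop_ne_zero hm hno ht hz hz0
  refine (hM.chainOps ht).all_ne (show i < Φ.m - 1 by omega) hne p (by omega)
    (LinearMap.ext fun x => Subtype.ext ?_)
  rw [hM.Uop_coe (by omega), LinearMap.zero_apply, Submodule.coe_zero]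
  refine hM.last_zero hK h2 ht hp (hM.U_mem x.2 (by omega)) ?_
  have h := congrArg (fun t => (Fintype.card F : ℂ) • t) (hM.U_sq ht x.2 (show p + 1 < Φ.m by omega))
  have hq0 : (Fintype.card F : ℂ) ≠ 0 := Nat.cast_ne_zero.mpr Fintype.card_ne_zero
  simp only [Frame.U_apply (x := Φ.U ρ p (x : V)), smul_sub, smul_smul] at h
  rw [mul_add, mul_one, mul_inv_cancel₀ hq0, add_smul, one_smul, sub_eq_iff_eq_add] at h
  linear_combination (norm := module) -h

end Mod

end CfsgLib.KnownA.OrthMinDeg
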