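import Cfsg.Agent.Lib.KnownA.CentralChar

/-!
# Projections onto the characters of an abelian family of operators
-/

set_option autoImplicit false

namespace CfsgLib.KnownA.OrthMinDeg

open CfsgLib.KnownA.CentralChar

variable {G : Type*} [Group G] {V : Type*} [AddCommGroup V] [Module ℂ V]
  (ρ : Representation ℂ G V) {A : Type*} [AddCommGroup A] [Fintype A]

theorem rho_mul (g h : G) (v : V) : ρ (g * h) v = ρ g (ρ h v) := by rw [map_mul]; rfl

theorem rho_one (v : V) : ρ 1 v = v := by rw [map_one]; rfl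

theorem rho_inv_self (g : G) (v : V) : ρ g⁻¹ (ρ g v) = v := by
  rw [← rho_mul, inv_mul_cancel, rho_one]

/-- The stabiliser of a subspace. -/
def stab [FiniteDimensional ℂ V] (X : Submodule ℂ V) : Subgroup G where
  carrier := {g | Stable ρ X g}
  one_mem' v hv := by rwa [rho_one]
  mul_mem' {g h} hg hh v hv := by rw [rho_mul]; exact hg _ (hh v hv)
  inv_mem' {g} hg v hv := by
    have hinj : Function.Injective ((ρ g).restrict hg) := fun a b h =>
      Subtype.ext (rho_injective ρ g (congrArg Subtype.val h))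
    obtain ⟨w, hw⟩ := LinearMap.injective_iff_surjective.mp hinj ⟨v, hv⟩
    have hw' : ρ g w = v := congrArg Subtype.val hw
    rw [← hw', rho_inv_self]
    exact w.2

theorem mem_stab [FiniteDimensional ℂ V] {X : Submodule ℂ V} {g : G} :
    g ∈ stab ρ X ↔ Stable ρ X g := Iff.rfl

/-- The elements fixing a vector. -/
def fixer (v : V) : Subgroup G where
  carrier := {g | ρ g v = v}
  one_mem' := rho_one ρ v
  mul_mem' {g h} hg hh := by
    show ρ (g * h) v = v
    rw [rho_mul, show ρ h v = v from hh]; exact hg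
  inv_mem' {g} hg := by
    show ρ g⁻¹ v = v
    conv_lhs => rw [← show ρ g v = v from hg]
    exact rho_inv_self ρ g v

theorem mem_fixer {v : V} {g : G} : g ∈ fixer ρ v ↔ ρ g v = v := Iff.rfl

/-- The projection onto the subspace where `z` acts through `ψ`. -/
noncomputable def proj (z : A → G) (ψ : AddChar A ℂ) : V →ₗ[ℂ] V :=
  (Fintype.card A : ℂ)⁻¹ • ∑ a, ψ (-a) • ρ (z a)

theorem proj_apply (z : A → G) (ψ : AddChar A ℂ) (v : V) :
    proj ρ z ψ v = (Fintype.card A : ℂ)⁻¹ • ∑ a, ψ (-a) • ρ (z a) v := by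
  simp [proj, LinearMap.sum_apply]

theorem proj_one_apply (z : A → G) (v : V) :
    proj ρ z 1 v = (Fintype.card A : ℂ)⁻¹ • ∑ a, ρ (z a) v := by
  simp [proj_apply]

variable {z : A → G} (hz : ∀ a b, z (a + b) = z a * z b)
include hz

theorem family_zero : z 0 = 1 := by
  have h := hz 0 0
  rw [add_zero] at h
  exact left_eq_mul.mp h

theorem proj_comm_self (ψ : AddChar A ℂ) (b : A) (v : V) :
    proj ρ z ψ (ρ (z b) v) = ρ (z b) (proj ρ z ψ v) := by
  simp only [proj_apply, map_smul, map_sum, ← rho_mul, ← hz, add_comm b]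

theorem proj_mem (ψ : AddChar A ℂ) (v : V) : proj ρ z ψ v ∈ space ρ z ψ := by
  intro b
  simp only [proj_apply, map_smul, map_sum, ← rho_mul, ← hz, Finset.smul_sum, smul_smul]
  refine Fintype.sum_equiv (Equiv.addLeft b) _ _ fun a => ?_
  rw [Equiv.coe_addLeft]
  congr 1
  have h : ψ (-a) = ψ b * ψ (-(b + a)) := by
    rw [← AddChar.map_add_eq_mul]; congr 1; abel
  rw [h]
  ring

theorem proj_mem_inf {W : Submodule ℂ V} (hW : ∀ a, Stable ρ W (z a)) (ψ : AddChar A ℂ) {v : V}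
    (hv : v ∈ W) : proj ρ z ψ v ∈ W ⊓ space ρ z ψ := by
  refine ⟨?_, proj_mem ρ hz ψ v⟩
  rw [proj_apply]
  exact W.smul_mem _ (W.sum_mem fun a _ => W.smul_mem _ (hW a v hv))

theorem sum_proj (v : V) : ∑ ψ : AddChar A ℂ, proj ρ z ψ v = v := by
  classical
  simp only [proj_apply, ← Finset.smul_sum]
  rw [Finset.sum_comm]
  simp only [← Finset.sum_smul]
  rw [Finset.sum_eq_single (0 : A)]
  · rw [family_zero hz, rho_one, AddChar.sum_apply_eq_ite, if_pos neg_zero, smul_smul,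
      inv_mul_cancel₀ (Nat.cast_ne_zero.mpr Fintype.card_ne_zero), one_smul]
  · intro a _ ha
    rw [addChar_sum_eq_zero (neg_ne_zero.mpr ha), zero_smul]
  · simp

theorem eq_zero_of_proj {v : V} (h : ∀ ψ : AddChar A ℂ, proj ρ z ψ v = 0) : v = 0 := by
  rw [← sum_proj ρ hz v]
  exact Finset.sum_eq_zero fun ψ _ => h ψ

omit hz in
theorem proj_of_mem {ψ : AddChar A ℂ} {v : V} (hv : v ∈ space ρ z ψ) : proj ρ z ψ v = v := by
  simp only [proj_apply, hv _, smul_smul, ← AddChar.map_add_eq_mul, neg_add_cancel,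
    AddChar.map_zero_eq_one, one_smul, Finset.sum_const, Finset.card_univ]
  rw [← Nat.cast_smul_eq_nsmul ℂ, smul_smul, inv_mul_cancel₀ (Nat.cast_ne_zero.mpr Fintype.card_ne_zero),
    one_smul]

theorem proj_of_mem_ne {ψ φ : AddChar A ℂ} (hne : φ ≠ ψ) {v : V} (hv : v ∈ space ρ z ψ) :
    proj ρ z φ v = 0 := by
  obtain ⟨a, ha⟩ := DFunLike.ne_iff.mp hne
  have h1 := proj_mem ρ hz φ v a
  rw [← proj_comm_self ρ hz, hv a, map_smul, eq_comm, ← sub_eq_zero, ← sub_smul, smul_eq_zero] at h1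
  exact h1.resolve_left (sub_ne_zero.mpr ha)

theorem eq_of_proj {ψ : AddChar A ℂ} {a : A} {c : ℂ} {v : V} (h0 : proj ρ z ψ v ≠ 0)
    (hv : ρ (z a) v = c • v) : ψ a = c := by
  have h1 := proj_mem ρ hz ψ v a
  rw [← proj_comm_self ρ hz, hv, map_smul, eq_comm, ← sub_eq_zero, ← sub_smul, smul_eq_zero] at h1
  exact sub_eq_zero.mp (h1.resolve_right h0)

omit hz in
theorem proj_conj (g : G) (φ : A ≃+ A) (hg : ∀ a, g * z a = z (φ a) * g) (ψ : AddChar A ℂ) (v : V) :
    ρ g (proj ρ z ψ v) = proj ρ z (ψ.compAddMonoidHom φ.symm.toAddMonoidHom) (ρ g v) := by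
  simp only [proj_apply, map_smul, map_sum, ← rho_mul, hg, AddChar.compAddMonoidHom_apply]
  congr 1
  refine Fintype.sum_equiv φ.toEquiv _ _ fun a => ?_
  simp

omit hz in
theorem proj_comm (g : G) (hg : ∀ a, g * z a = z a * g) (ψ : AddChar A ℂ) (v : V) :
    ρ g (proj ρ z ψ v) = proj ρ z ψ (ρ g v) := by
  simp only [proj_apply, map_smul, map_sum, ← rho_mul, hg]

theorem proj_one_absorb (b : A) (v : V) : proj ρ z 1 (ρ (z b) v) = proj ρ z 1 v := by
  rw [proj_comm_self ρ hz]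
  exact (proj_mem ρ hz 1 v b).trans (by rw [AddChar.one_apply, one_smul])

theorem finrank_le_sum [FiniteDimensional ℂ V] (W : Submodule ℂ V) (hW : ∀ a, Stable ρ W (z a))
    (S : Finset (AddChar A ℂ)) (hS : ∀ ψ ∉ S, W ⊓ space ρ z ψ = ⊥) :
    Module.finrank ℂ W ≤ ∑ ψ ∈ S, Module.finrank ℂ ↥(W ⊓ space ρ z ψ) := by
  classical
  let T : W →ₗ[ℂ] ((ψ : S) → ↥(W ⊓ space ρ z (ψ : AddChar A ℂ))) :=
    LinearMap.pi fun ψ => ((proj ρ z (ψ : AddChar A ℂ)).comp W.subtype).codRestrict _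
      fun v => proj_mem_inf ρ hz hW _ v.2
  have hT : Function.Injective T := by
    rw [← LinearMap.ker_eq_bot, LinearMap.ker_eq_bot']
    intro v hv
    refine Subtype.ext (eq_zero_of_proj ρ hz fun ψ => ?_)
    by_cases hψ : ψ ∈ S
    · exact congrArg Subtype.val (congrFun hv ⟨ψ, hψ⟩)
    · have h1 := proj_mem_inf ρ hz hW ψ v.2
      rwa [hS ψ hψ, Submodule.mem_bot] at h1
  refine (LinearMap.finrank_le_finrank_of_injective hT).trans (le_of_eq ?_)
  rw [Module.finrank_pi_fintype, Finset.sum_coe_sort S fun ψ => Module.finrank ℂ ↥(W ⊓ space ρ z ψ)]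

end CfsgLib.KnownA.OrthMinDeg
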