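import Cfsg.Agent.Lib.KnownA.OrthMinDeg.Hecke

/-!
# Orthogonal roots
-/

set_option autoImplicit false

namespace CfsgLib.KnownA.OrthMinDeg

open QuadraticMap CfsgLib.Geometry CfsgLib.KnownA.CentralChar

variable {F M : Type*} [Field F] [Fintype F] [AddCommGroup M] [Module F M] [Finite M]
  [FiniteDimensional F M]
  {Q : QuadraticForm F M} {V : Type*} [AddCommGroup V] [Module ℂ V] [FiniteDimensional ℂ V]
  {ρ : Representation ℂ (siegelGroup Q) V}

/-- The root elements of two roots commute. -/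
structure Indep (Q : QuadraticForm F M) (e f e' f' u v u' v' : M) : Prop where
  nn : Commute (rN Q e f e' f') (rN Q u v u' v')
  nA : ∀ t, Commute (rN Q e f e' f') (rA Q u v' t)
  An : ∀ s, Commute (rA Q e f' s) (rN Q u v u' v')
  AA : ∀ s t, Commute (rA Q e f' s) (rA Q u v' t)

section Indep

variable {e f e' f' u v u' v' : M} (h : Indep Q e f e' f' u v u' v')
include h

theorem Indep.symm : Indep Q u v u' v' e f e' f' :=
  ⟨h.nn.symm, fun t => (h.An t).symm, fun s => (h.nA s).symm, fun s t => (h.AA t s).symm⟩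

theorem Indep.rho_Dop {g : siegelGroup Q} (hn : Commute g (rN Q u v u' v'))
    (hA : ∀ t, Commute g (rA Q u v' t)) (x : V) :
    ρ g (Dop ρ u v u' v' x) = Dop ρ u v u' v' (ρ g x) := by
  simp only [Dop, LinearMap.sub_apply, map_sub, Top, LinearMap.comp_apply, avA_comm hA, ← rho_mul,
    hn.eq]

theorem Indep.A_Dop (s : F) (x : V) :
    ρ (rA Q e f' s) (Dop ρ u v u' v' x) = Dop ρ u v u' v' (ρ (rA Q e f' s) x) :=
  h.rho_Dop (h.An s) (h.AA s) x

theorem Indep.avA_Dop_comm (x : V) :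
    avA ρ e f' (Dop ρ u v u' v' x) = Dop ρ u v u' v' (avA ρ e f' x) := by
  simp only [avA, proj_one_apply, h.A_Dop, map_smul, map_sum]

theorem Indep.Top_Dop (x : V) :
    Top ρ e f e' f' (Dop ρ u v u' v' x) = Dop ρ u v u' v' (Top ρ e f e' f' x) := by
  rw [Top, LinearMap.comp_apply, LinearMap.comp_apply, h.rho_Dop h.nn h.nA, h.avA_Dop_comm]

theorem Indep.Dop_Dop (x : V) :
    Dop ρ e f e' f' (Dop ρ u v u' v' x) = Dop ρ u v u' v' (Dop ρ e f e' f' x) := by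
  conv_lhs => rw [Dop, LinearMap.sub_apply, h.Top_Dop, h.rho_Dop h.nn h.nA]
  rw [← map_sub]
  rfl

/-- If the product of the operators kills `x`, then `D' x` is fixed by the first rank one group. -/
theorem Indep.cons (hd : Two Q e f e' f') {x : V}
    (hzero : Dop ρ e f e' f' (Dop ρ u v u' v' x) = 0) (hx : ∀ s, ρ (rA Q e f' s) x = x) :
    ρ (rN Q e f e' f') (Dop ρ u v u' v' x) = Dop ρ u v u' v' x ∧
      Top ρ e f e' f' (Dop ρ u v u' v' x) = Dop ρ u v u' v' x ∧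
      ∀ a : F, a ≠ 0 → ρ (rH Q e f e' f' a) (Dop ρ u v u' v' x) = Dop ρ u v u' v' x := by
  refine sl2_fixed hd (fun s => by rw [h.A_Dop, hx]) ?_
  exact sub_eq_zero.mp hzero

end Indep

namespace Mod

variable {Φ : Frame Q} {X : Submodule ℂ V} (hM : Mod ρ Φ X)
include hM

/-- A later root group acts trivially on the weight lines of an earlier radical. -/
theorem triv_line {i j : ℕ} (hij : i < j) (hj : j + 1 < Φ.m) {lam : F} (hlam : lam ≠ 0) {y : V}
    (hy : y ∈ wsp ρ (Xk ρ Φ X i) (Φ.lev i) (Φ.e i) (Φ.f i) (lam • Φ.e (i + 1))) (s : F) :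
    ρ (rA Q (Φ.e j) (Φ.f (j + 1)) s) y = y := by
  have hG := hM.goodk (k := i) (by omega)
  have hyp := Φ.hyp i (by omega)
  obtain ⟨hei, hfi⟩ := Φ.pair_mem_lev (k := i) le_rfl (show i < Φ.m by omega)
  set d := lam • Φ.e (i + 1) with hdd
  have hd0 : d ≠ 0 := smul_ne_zero hlam (Φ.hyp (i + 1) (by omega)).ne
  have hQd : Q d = 0 := by rw [hdd, map_smul', (Φ.hyp (i + 1) (by omega)).qe, mul_zero]
  have hdmem : d ∈ perp2 Q (Φ.lev i) (Φ.e i) (Φ.f i) :=
    (Φ.lev (i + 1)).smul_mem _ (Φ.pair_mem_lev le_rfl (by omega)).1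
  have hL := hG.le_one _ _ _ hyp hei hfi hdmem hd0 hQd
  set L := wsp ρ (Xk ρ Φ X i) (Φ.lev i) (Φ.e i) (Φ.f i) d
  have hstab : ∀ g, g ∈ SH Q (Φ.lev (i + 1)) → g.1 (Φ.e (i + 1)) = Φ.e (i + 1) → Stable ρ L g := by
    intro g hg hgd v hv
    have h1 := wsp_move_one hG.stb (SH_mono (Φ.lev_mono (Nat.le_succ i)) hg) hyp.qe
      (SH_fix hg fun z hz => by rw [polar_comm]; exact (mem_perp2.mp hz).2.1)
      (SH_fix hg fun z hz => by rw [polar_comm]; exact (mem_perp2.mp hz).2.2) hv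
    rwa [hdd, map_smul, hgd] at h1
  obtain ⟨hej, hfj⟩ := Φ.pair_mem_lev (k := i + 1) (show i + 1 ≤ j by omega) (by omega)
  obtain ⟨hej', hfj'⟩ := Φ.pair_mem_lev (k := i + 1) (show i + 1 ≤ j + 1 by omega) hj
  have hd := Φ.orth j (by omega) (j + 1) hj (by omega)
  have b1 : polar Q (Φ.e (i + 1)) (Φ.e j) = 0 := by
    rcases eq_or_ne (i + 1) j with h | h
    · rw [← h]; exact (Φ.hyp (i + 1) (by omega)).ee
    · exact (Φ.orth (i + 1) (by omega) j (by omega) h).ee'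
  have b2 := (Φ.orth (i + 1) (by omega) (j + 1) hj (by omega)).ef'
  have hsA : ∀ s, Stable ρ L (rA Q (Φ.e j) (Φ.f (j + 1)) s) := fun s =>
    hstab _ (rA_mem hej hfj' s) (rA_fix hd s b1 b2)
  by_cases hq : 3 < Nat.card F
  · obtain ⟨a, ha0, ha⟩ := exists_sq_ne_one (F := F) (by rwa [← Nat.card_eq_fintype_card])
    have haux : Q (Φ.e j + Φ.f j) ≠ 0 := by
      rw [map_add', hd.h.qe, hd.h.qf, hd.h.pol]; simp
    have hxe : polar Q (Φ.e (j + 1)) (Φ.e j + Φ.f j) = 0 := by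
      rw [polar_add_right, hd.comm.ee', hd.comm.ef', add_zero]
    have hxf : polar Q (Φ.f (j + 1)) (Φ.e j + Φ.f j) = 0 := by
      rw [polar_add_right, hd.comm.fe', hd.comm.ff', add_zero]
    set g := sc Q (Φ.e (j + 1)) (Φ.f (j + 1)) (Φ.e j + Φ.f j) a
    have hgm : g ∈ SH Q (Φ.lev (i + 1)) := sc_mem hej' hfj' (add_mem hej hfj) a
    have hgd : g.1 (Φ.e (i + 1)) = Φ.e (i + 1) := sc_perp hd.h' hxe hxf haux ha0
      (Φ.orth (j + 1) hj (i + 1) (by omega) (by omega)).ee'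
      (Φ.orth (j + 1) hj (i + 1) (by omega) (by omega)).fe'
    have hconj : ∀ t, g * rA Q (Φ.e j) (Φ.f (j + 1)) t =
        rA Q (Φ.e j) (Φ.f (j + 1)) ((a * a)⁻¹ * t) * g := fun t => by
      rw [rA, sg_mul_comm, sc_perp hd.h' hxe hxf haux ha0 hd.comm.ee' hd.comm.fe', map_smul,
        sc_f hd.h' hxe hxf haux ha0, smul_smul, mul_comm t, rA]
    have hk : (a * a)⁻¹ - 1 ≠ 0 := sub_ne_zero.mpr fun h => ha (inv_eq_one.mp h)
    set t := ((a * a)⁻¹ - 1)⁻¹ * s with ht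
    have h1 := eq_on_line hL hy (hstab g hgm hgd) (hsA t) (hsA _) (hconj t)
    have e : (a * a)⁻¹ * t = t + s := by
      rw [ht]
      generalize hu : (a * a)⁻¹ = u at hk ⊢
      field_simp
      ring
    rw [e, rA_add hd, rho_mul] at h1
    exact rho_injective ρ _ h1
  · have h2 := hM.cond.resolve_left hq
    have hnd := Φ.lev_nd le_rfl
    obtain ⟨z, hz, hz0⟩ : ∃ z ∈ Φ.lev Φ.m, z ≠ 0 := by
      by_contra hc
      push Not at hc
      rw [(Submodule.eq_bot_iff _).mpr hc, finrank_bot] at h2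
      omega
    obtain ⟨w1, hw1, hzw⟩ : ∃ w ∈ Φ.lev Φ.m, polar Q z w ≠ 0 := by
      by_contra hc
      push Not at hc
      exact hz0 (hnd z hz hc)
    set w := (s / polar Q z w1) • w1 with hw
    have hwm : w ∈ Φ.lev Φ.m := Submodule.smul_mem _ _ hw1
    have hzws : polar Q z w = s := by rw [hw, polar_smul_right', div_mul_cancel₀ _ hzw]
    obtain ⟨-, hzp⟩ := (Φ.mem_lev _).mp hz
    obtain ⟨-, hwp⟩ := (Φ.mem_lev _).mp hwm
    have hzl := Φ.lev_mono (show i + 1 ≤ Φ.m by omega) hz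
    have hwl := Φ.lev_mono (show i + 1 ≤ Φ.m by omega) hwm
    set g1 := sg Q (Φ.e j) z
    have hz1 : polar Q (Φ.e j) z = 0 := (hzp j (by omega)).1
    have hw2 : polar Q (Φ.f (j + 1)) w = 0 := (hwp (j + 1) hj).2
    have hg1f : g1.1 (Φ.f (j + 1)) = Φ.f (j + 1) :=
      sg_fix_pair hd.h.qe hz1 (by rw [polar_comm]; exact hd.ef') (hzp (j + 1) hj).2
    have hg1w : g1.1 w = w + (-s) • Φ.e j := by
      rw [sg_apply hd.h.qe hz1, polar_comm Q w (Φ.e j), (hwp j (by omega)).1, polar_comm Q w z, hzws]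
      module
    have hgd1 : g1.1 (Φ.e (i + 1)) = Φ.e (i + 1) :=
      sg_fix_pair hd.h.qe hz1 b1 (hzp (i + 1) (by omega)).1
    have hgd2 : (sg Q (Φ.f (j + 1)) w).1 (Φ.e (i + 1)) = Φ.e (i + 1) :=
      sg_fix_pair hd.h'.qf hw2 b2 (hwp (i + 1) (by omega)).1
    have hconj : g1 * sg Q (Φ.f (j + 1)) w =
        sg Q (Φ.f (j + 1)) w * rA Q (Φ.e j) (Φ.f (j + 1)) s * g1 := by
      rw [sg_mul_comm, hg1f, hg1w,
        sg_add hd.h'.qf hw2 (by rw [polar_smul_right', polar_comm, hd.ef', mul_zero]),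
        ← sg_smul_left (x := Φ.e j) hd.h'.qf (by rw [polar_comm]; exact hd.ef') (-s),
        sg_swap (by rw [map_smul', hd.h'.qf, mul_zero]) hd.h.qe
          (by rw [polar_smul_left', polar_comm, hd.ef', mul_zero]), rA]
      congr 3
      module
    have h1 := eq_on_line hL hy (hstab g1 (sg_mem_SH hej hzl) hgd1)
      (hstab _ (sg_mem_SH hfj' hwl) hgd2)
      (fun v hv => by rw [rho_mul]; exact hstab _ (sg_mem_SH hfj' hwl) hgd2 _ (hsA s v hv)) hconj
    rw [rho_mul] at h1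
    exact rho_injective ρ _ h1

/-- The translations of the radical of `e i` orthogonal to `e (i+1)` fix `y`. -/
def LowFix (_hM : Mod ρ Φ X) (i : ℕ) (y : V) : Prop :=
  ∀ z ∈ Φ.lev (i + 1), polar Q (Φ.e (i + 1)) z = 0 → ρ (sg Q (Φ.e i) z) y = y

/-- A vector with only weights along `e (i+1)` is killed by two averages. -/
theorem vanish {i j : ℕ} (hij : i < j) (hj : j + 1 < Φ.m) {y : V} (hyX : y ∈ Xk ρ Φ X i)
    (hlow : hM.LowFix i y) (hi0 : avA ρ (Φ.e i) (Φ.f (i + 1)) y = 0)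
    (hj0 : avA ρ (Φ.e j) (Φ.f (j + 1)) y = 0) : y = 0 := by
  have hG := hM.goodk (k := i) (by omega)
  have hyp := Φ.hyp i (by omega)
  have hyp' := Φ.hyp (i + 1) (by omega)
  obtain ⟨hei, hfi⟩ := Φ.pair_mem_lev (k := i) le_rfl (show i < Φ.m by omega)
  obtain ⟨he', hf'⟩ := Φ.pair_mem_lev (k := i + 1) le_rfl (show i + 1 < Φ.m by omega)
  refine eq_zero_of_wproj (Φ.lev_nd (by omega)) hyp hei hfi (ρ := ρ) fun D hD => ?_
  by_contra h0
  have hnd := Φ.lev_nd (show i + 1 ≤ Φ.m by omega)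
  have hline : D - polar Q D (Φ.f (i + 1)) • Φ.e (i + 1) = 0 := by
    refine hnd _ (sub_mem hD (Submodule.smul_mem _ _ he')) fun x hx => eq_zero_of_psi fun t => ?_
    set z := t • (x - polar Q x (Φ.e (i + 1)) • Φ.f (i + 1)) with hz
    have hzm : z ∈ Φ.lev (i + 1) := Submodule.smul_mem _ _ (sub_mem hx (Submodule.smul_mem _ _ hf'))
    have hz1 : polar Q (Φ.e (i + 1)) z = 0 := by
      rw [hz, polar_smul_right', polar_sub_right, polar_smul_right', hyp'.pol, polar_comm Q x]; ring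
    have h1 := eq_of_proj ρ (zf_add hyp.qe) (a := ⟨z, hzm⟩) h0
      (show ρ (sg Q (Φ.e i) z) y = (1 : ℂ) • y by rw [hlow z hzm hz1, one_smul])
    rw [wch_apply] at h1
    convert h1 using 2
    simp only [hz, polar_smul_right', polar_sub_right, polar_sub_left, polar_smul_left',
      polar_comm Q x (Φ.e (i + 1))]
    ring
  rw [sub_eq_zero] at hline
  refine h0 ?_
  by_cases hl : polar Q D (Φ.f (i + 1)) = 0
  · rw [hline, hl, zero_smul, wproj, wch_zero]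
    have h2 := congrArg (proj ρ (zf Q (perp2 Q (Φ.lev i) (Φ.e i) (Φ.f i)) (Φ.e i)) 1) hi0
    rwa [map_zero, avA, proj_one_apply ρ (rA Q (Φ.e i) (Φ.f (i + 1))), map_smul, map_sum,
      Finset.sum_congr rfl fun s _ => (show proj ρ (zf Q (perp2 Q (Φ.lev i) (Φ.e i) (Φ.f i)) (Φ.e i)) 1
        (ρ (rA Q (Φ.e i) (Φ.f (i + 1)) s) y) = proj ρ (zf Q (perp2 Q (Φ.lev i) (Φ.e i) (Φ.f i)) (Φ.e i)) 1 y
          from proj_one_absorb ρ (zf_add hyp.qe) ⟨_, Submodule.smul_mem (Φ.lev (i + 1)) s hf'⟩ y),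
      Finset.sum_const, Finset.card_univ, ← Nat.cast_smul_eq_nsmul ℂ, smul_smul,
      inv_mul_cancel₀ (Nat.cast_ne_zero.mpr Fintype.card_ne_zero), one_smul] at h2
  · have hmem := wproj_mem hG.stb hei hyp.qe D (f := Φ.f i) hyX
    rw [hline] at hmem
    have hfix := hM.triv_line hij hj hl hmem
    obtain ⟨hej, -⟩ := Φ.pair_mem_lev (k := i + 1) (show i + 1 ≤ j by omega) (show j < Φ.m by omega)
    obtain ⟨-, hfj'⟩ := Φ.pair_mem_lev (k := i + 1) (show i + 1 ≤ j + 1 by omega) hj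
    have hd := Φ.orth j (by omega) (j + 1) hj (by omega)
    have hcomm : ∀ s, ρ (rA Q (Φ.e j) (Φ.f (j + 1)) s) (wproj ρ (Φ.lev i) (Φ.e i) (Φ.f i) D y) =
        wproj ρ (Φ.lev i) (Φ.e i) (Φ.f i) D (ρ (rA Q (Φ.e j) (Φ.f (j + 1)) s) y) := by
      intro s
      have hg : rA Q (Φ.e j) (Φ.f (j + 1)) s ∈ SH Q (Φ.lev (i + 1)) := rA_mem hej hfj' s
      have hDfix : (rA Q (Φ.e j) (Φ.f (j + 1)) s).1 D = D := by
        have h1 : polar Q (Φ.e (i + 1)) (Φ.e j) = 0 := by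
          rcases eq_or_ne (i + 1) j with h | h
          · rw [← h]; exact hyp'.ee
          · exact (Φ.orth (i + 1) (by omega) j (by omega) h).ee'
        rw [hline, map_smul, rA_fix hd s h1 (Φ.orth (i + 1) (by omega) (j + 1) hj (by omega)).ef']
      rw [wproj_conj (SH_mono (Φ.lev_mono (Nat.le_succ i)) hg)
        (SH_fix hg fun z hz => by rw [polar_comm]; exact (mem_perp2.mp hz).2.1)
        (SH_fix hg fun z hz => by rw [polar_comm]; exact (mem_perp2.mp hz).2.2) D y, hDfix]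
    have h2 := congrArg (wproj ρ (Φ.lev i) (Φ.e i) (Φ.f i) D) hj0
    rw [map_zero, avA, proj_one_apply, map_smul, map_sum, Finset.sum_congr rfl fun s _ =>
      (show wproj ρ (Φ.lev i) (Φ.e i) (Φ.f i) D (ρ (rA Q (Φ.e j) (Φ.f (j + 1)) s) y) =
          wproj ρ (Φ.lev i) (Φ.e i) (Φ.f i) D y by rw [← hcomm s, hline]; exact hfix s),
      Finset.sum_const, Finset.card_univ,
      ← Nat.cast_smul_eq_nsmul ℂ, smul_smul,
      inv_mul_cancel₀ (Nat.cast_ne_zero.mpr Fintype.card_ne_zero), one_smul] at h2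
    exact h2

omit hM in
theorem indep_far {i j : ℕ} (hi : i + 1 < Φ.m) (hj : j + 1 < Φ.m) (hij : i + 2 ≤ j ∨ j + 2 ≤ i) :
    Indep Q (Φ.e i) (Φ.f i) (Φ.e (i + 1)) (Φ.f (i + 1)) (Φ.e j) (Φ.f j) (Φ.e (j + 1)) (Φ.f (j + 1)) := by
  have hd := Φ.orth i (by omega) (i + 1) hi (by omega)
  obtain ⟨⟨a1, a2, a3, a4⟩, b1, b2, b3, b4⟩ := root_perp (Φ := Φ) (k := j) hi (by omega) (by omega) (by omega)
  obtain ⟨⟨c1, c2, c3, c4⟩, d1, d2, d3, d4⟩ := root_perp (Φ := Φ) (k := j + 1) hi hj (by omega) (by omega)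
  have hn1 := rN_perp hd a1 a2 a3 a4
  have hn2 := rN_perp hd b1 b2 b3 b4
  have hn3 := rN_perp hd c1 c2 c3 c4
  have hn4 := rN_perp hd d1 d2 d3 d4
  have hA : ∀ s, (rA Q (Φ.e i) (Φ.f (i + 1)) s).1 (Φ.e j) = Φ.e j ∧
      (rA Q (Φ.e i) (Φ.f (i + 1)) s).1 (Φ.f j) = Φ.f j ∧
      (rA Q (Φ.e i) (Φ.f (i + 1)) s).1 (Φ.e (j + 1)) = Φ.e (j + 1) ∧
      (rA Q (Φ.e i) (Φ.f (i + 1)) s).1 (Φ.f (j + 1)) = Φ.f (j + 1) := fun s =>
    ⟨rA_fix hd s (by rw [polar_comm]; exact a1) (by rw [polar_comm]; exact a4),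
      rA_fix hd s (by rw [polar_comm]; exact b1) (by rw [polar_comm]; exact b4),
      rA_fix hd s (by rw [polar_comm]; exact c1) (by rw [polar_comm]; exact c4),
      rA_fix hd s (by rw [polar_comm]; exact d1) (by rw [polar_comm]; exact d4)⟩
  exact ⟨commute_rN hn1 hn2 hn3 hn4, fun t => commute_rA hn1 hn4 t,
    fun s => commute_rN (hA s).1 (hA s).2.1 (hA s).2.2.1 (hA s).2.2.2,
    fun s t => commute_rA (hA s).1 (hA s).2.2.2 t⟩

theorem Dop_mem {x : V} {i k : ℕ} (hk : k ≤ Φ.m) (hik : k ≤ i) (hi : i + 1 < Φ.m)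
    (hx : x ∈ Xk ρ Φ X k) :
    Dop ρ (Φ.e i) (Φ.f i) (Φ.e (i + 1)) (Φ.f (i + 1)) x ∈ Xk ρ Φ X k := by
  have hG := hM.goodk hk
  obtain ⟨he, hf⟩ := Φ.pair_mem_lev (k := k) hik (show i < Φ.m by omega)
  obtain ⟨he', hf'⟩ := Φ.pair_mem_lev (k := k) (show k ≤ i + 1 by omega) hi
  have hn : ρ (rN Q (Φ.e i) (Φ.f i) (Φ.e (i + 1)) (Φ.f (i + 1))) x ∈ Xk ρ Φ X k :=
    hG.stb _ (rN_mem he hf he' hf') x hx
  rw [Dop, LinearMap.sub_apply, Top, LinearMap.comp_apply, avA, proj_one_apply]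
  exact sub_mem hn (Submodule.smul_mem _ _ (Submodule.sum_mem _ fun s _ =>
    hG.stb _ (rA_mem he hf' s) _ hn))

theorem Dop_low {x : V} (hx : x ∈ Cs ρ Φ X) {i : ℕ} (hi : i + 1 < Φ.m) :
    hM.LowFix i (Dop ρ (Φ.e i) (Φ.f i) (Φ.e (i + 1)) (Φ.f (i + 1)) x) := by
  intro z hz hz'
  have hd := Φ.orth i (by omega) (i + 1) hi (by omega)
  have hc : ∀ s, Commute (sg Q (Φ.e i) z) (rA Q (Φ.e i) (Φ.f (i + 1)) s) := fun s => by
    show _ = _
    rw [rA, ← sg_add hd.h.qe (mem_perp2.mp hz).2.1 (by rw [polar_smul_right', hd.ef', mul_zero]),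
      ← sg_add hd.h.qe (by rw [polar_smul_right', hd.ef', mul_zero]) (mem_perp2.mp hz).2.1, add_comm]
  rw [Dop, LinearMap.sub_apply, map_sub, hM.fix_low hx hi hz hz', Top, LinearMap.comp_apply,
    avA_comm hc, hM.fix_low hx hi hz hz']

/-- Far roots: the product of the operators vanishes. -/
theorem far_zero {x : V} (hx : x ∈ Cs ρ Φ X) {i j : ℕ} (hij : i + 2 ≤ j) (hj : j + 1 < Φ.m) :
    Dop ρ (Φ.e j) (Φ.f j) (Φ.e (j + 1)) (Φ.f (j + 1))
      (Dop ρ (Φ.e i) (Φ.f i) (Φ.e (i + 1)) (Φ.f (i + 1)) x) = 0 := by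
  have hi : i + 1 < Φ.m := by omega
  have hI : Indep Q (Φ.e i) (Φ.f i) (Φ.e (i + 1)) (Φ.f (i + 1))
      (Φ.e j) (Φ.f j) (Φ.e (j + 1)) (Φ.f (j + 1)) := indep_far hi hj (Or.inl hij)
  have hdi := Φ.orth i (by omega) (i + 1) hi (by omega)
  have hdj := Φ.orth j (by omega) (j + 1) hj (by omega)
  refine hM.vanish (i := i) (j := j) (by omega) hj
    (hM.Dop_mem (by omega) (by omega) hj (hM.Dop_mem (by omega) le_rfl hi (hM.mem_X hx i (by omega))))
    ?_ ?_ (avA_Dop hdj _)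
  · intro z hz hz'
    obtain ⟨⟨a1, a2, a3, a4⟩, -⟩ := root_perp (Φ := Φ) (k := i) hj (by omega) (by omega) (by omega)
    obtain ⟨⟨c1, c2, c3, c4⟩, -⟩ := root_perp (Φ := Φ) (k := i + 1) hj hi (by omega) (by omega)
    obtain ⟨hej, hfj⟩ := Φ.pair_mem_lev (k := i + 1) (show i + 1 ≤ j by omega) (show j < Φ.m by omega)
    obtain ⟨hej', hfj'⟩ := Φ.pair_mem_lev (k := i + 1) (show i + 1 ≤ j + 1 by omega) hj
    have hlow := hM.Dop_low hx hi
    have key : ∀ g, g ∈ SH Q (Φ.lev (i + 1)) → g.1 (Φ.e (i + 1)) = Φ.e (i + 1) →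
        ∀ w, (∀ z ∈ Φ.lev (i + 1), polar Q (Φ.e (i + 1)) z = 0 → ρ (sg Q (Φ.e i) z) w = w) →
        ∀ z ∈ Φ.lev (i + 1), polar Q (Φ.e (i + 1)) z = 0 → ρ (sg Q (Φ.e i) z) (ρ g w) = ρ g w := by
      intro g hg hg' w hw z hz hz'
      have hge : g.1 (Φ.e i) = Φ.e i :=
        SH_fix hg fun y hy => by rw [polar_comm]; exact (mem_perp2.mp hy).2.1
      rw [← rho_mul, mul_sg, inv_apply_eq hge, rho_mul, hw _ ((SH_props hg).2.1 z hz)
        (by rw [← polar' g, hg', apply_inv_self]; exact hz')]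
    have hn := key _ (rN_mem hej hfj hej' hfj') (rN_perp hdj c1 c2 c3 c4) _ hlow
    have hAn := fun s => key _ (rA_mem hej hfj' s)
      (rA_fix hdj s (by rw [polar_comm]; exact c1) (by rw [polar_comm]; exact c4)) _ hn
    generalize hw : Dop ρ (Φ.e i) (Φ.f i) (Φ.e (i + 1)) (Φ.f (i + 1)) x = w at hn hAn ⊢
    rw [Dop, LinearMap.sub_apply, map_sub, hn z hz hz', Top, LinearMap.comp_apply, avA, proj_one_apply,
      map_smul, map_sum, Finset.sum_congr rfl fun s _ => hAn s z hz hz']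
  · rw [hI.avA_Dop_comm, avA_Dop hdi, map_zero]

/-- The two roots at the fork, when nothing is left over. -/
theorem fork_zero (hK : Module.finrank F (Φ.lev Φ.m) = 0) {p : ℕ} (hp : p + 2 = Φ.m) {x : V}
    (hx : x ∈ Cs ρ Φ X) :
    Indep Q (Φ.e p) (Φ.f p) (Φ.e (p + 1)) (Φ.f (p + 1)) (Φ.e p) (Φ.f p) (Φ.f (p + 1)) (Φ.e (p + 1)) ∧
    Dop ρ (Φ.e p) (Φ.f p) (Φ.e (p + 1)) (Φ.f (p + 1))
      (Dop ρ (Φ.e p) (Φ.f p) (Φ.f (p + 1)) (Φ.e (p + 1)) x) = 0 := by
  have hd := Φ.orth p (by omega) (p + 1) (by omega) (by omega)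
  have hs := hd.swapR
  obtain ⟨hep, hfp⟩ := Φ.pair_mem_lev (k := p) le_rfl (show p < Φ.m by omega)
  obtain ⟨he', hf'⟩ := Φ.pair_mem_lev (k := p + 1) le_rfl (show p + 1 < Φ.m by omega)
  set e := Φ.e p
  set f := Φ.f p
  set e' := Φ.e (p + 1)
  set f' := Φ.f (p + 1)
  have hsame : ∀ s t, Commute (rA Q e f' s) (rA Q e e' t) := fun s t => by
    have h1 : polar Q e (s • f') = 0 := by rw [polar_smul_right', hd.ef', mul_zero]
    have h2 : polar Q e (t • e') = 0 := by rw [polar_smul_right', hd.ee', mul_zero]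
    show rA Q e f' s * rA Q e e' t = rA Q e e' t * rA Q e f' s
    rw [rA, rA, ← sg_add hd.h.qe h1 h2, ← sg_add hd.h.qe h2 h1, add_comm]
  have hfix : ∀ {u x' : M} (t : F), Q u = 0 → Q x' = 0 → polar Q u x' = 0 →
      rA Q u x' t = sg Q x' (-(t • u)) := fun {u x'} t hu hx' h => by
    rw [rA, ← sg_smul_left hu h t, sg_swap (by rw [map_smul', hu, mul_zero]) hx'
      (by rw [polar_smul_left', h, mul_zero])]
  have c1 : ∀ t, Commute (rN Q e f e' f') (rA Q e e' t) := fun t => by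
    show rN Q e f e' f' * rA Q e e' t = rA Q e e' t * rN Q e f e' f'
    rw [rA, sg_mul_comm, map_smul, rN_e hd, rN_e' hd,
      show sg Q e' (t • -e) = sg Q e (t • e') by
        rw [smul_neg]; exact (hfix t hd.h.qe hd.h'.qe hd.ee').symm]
  have c2 : ∀ t, Commute (rN Q e f f' e') (rA Q e f' t) := fun t => by
    show rN Q e f f' e' * rA Q e f' t = rA Q e f' t * rN Q e f f' e'
    rw [rA, sg_mul_comm, map_smul, rN_e hs, rN_e' hs,
      show sg Q f' (t • -e) = sg Q e (t • f') by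
        rw [smul_neg]; exact (hfix t hd.h.qe hd.h'.qf hd.ef').symm]
  have c3 : ∀ t, Commute (rN Q e f e' f') (rA Q f f' t) := fun t => by
    show rN Q e f e' f' * rA Q f f' t = rA Q f f' t * rN Q e f e' f'
    rw [rA, sg_mul_comm, map_smul, rN_f hd, rN_f' hd,
      show sg Q f' (t • -f) = sg Q f (t • f') by
        rw [smul_neg]; exact (hfix t hd.h.qf hd.h'.qf hd.ff').symm]
  have hI : Indep Q e f e' f' e f f' e' :=
    ⟨(c1 1).mul_right (c3 1) |>.mul_right (c1 1), c1, fun s => (c2 s).symm, hsame⟩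
  refine ⟨hI, ?_⟩
  set y := Dop ρ e f e' f' (Dop ρ e f f' e' x) with hy
  have hG := hM.goodk (k := p) (by omega)
  have hyp := Φ.hyp p (by omega)
  have hyX : y ∈ Xk ρ Φ X p := by
    refine hM.Dop_mem (by omega) le_rfl (show p + 1 < Φ.m by omega) ?_
    have hn : ρ (rN Q e f f' e') x ∈ Xk ρ Φ X p :=
      hG.stb _ (rN_mem hep hfp ((Φ.lev_mono (Nat.le_succ p)) hf') ((Φ.lev_mono (Nat.le_succ p)) he'))
        x (hM.mem_X hx p (by omega))
    rw [Dop, LinearMap.sub_apply, Top, LinearMap.comp_apply, avA, proj_one_apply]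
    exact sub_mem hn (Submodule.smul_mem _ _ (Submodule.sum_mem _ fun s _ =>
      hG.stb _ (rA_mem hep ((Φ.lev_mono (Nat.le_succ p)) he') s) _ hn))
  have ha : avA ρ e f' y = 0 := avA_Dop hd _
  have hb : avA ρ e e' y = 0 := by rw [hy, hI.Dop_Dop]; exact avA_Dop hs _
  refine eq_zero_of_wproj (Φ.lev_nd (by omega)) hyp hep hfp (ρ := ρ) fun D hD => ?_
  by_cases hQD : Q D ≠ 0
  · have := wproj_mem hG.stb hep hyp.qe D (f := f) hyX
    rwa [hG.nonsing _ _ D hyp hep hfp hD hQD, Submodule.mem_bot] at this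
  push Not at hQD
  have kill : ∀ u, u ∈ Φ.lev (p + 1) → polar Q D u = 0 → avA ρ e u y = 0 →
      wproj ρ (Φ.lev p) e f D y = 0 := by
    intro u hu hDu h0
    have h2 := congrArg (wproj ρ (Φ.lev p) e f D) h0
    rwa [map_zero, avA, proj_one_apply, map_smul, map_sum, Finset.sum_congr rfl fun s _ =>
      (show wproj ρ (Φ.lev p) e f D (ρ (rA Q e u s) y) = wproj ρ (Φ.lev p) e f D y by
        have hsu : s • u ∈ perp2 Q (Φ.lev p) e f := Submodule.smul_mem _ s hu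
        refine (proj_comm_self ρ (zf_add hyp.qe) _ ⟨s • u, hsu⟩ y).trans ?_
        refine (proj_mem ρ (zf_add hyp.qe) _ y ⟨s • u, hsu⟩).trans ?_
        rw [wch_apply, polar_smul_right', hDu, mul_zero, AddChar.map_zero_eq_one, one_smul]
        rfl),
      Finset.sum_const, Finset.card_univ, ← Nat.cast_smul_eq_nsmul ℂ, smul_smul,
      inv_mul_cancel₀ (Nat.cast_ne_zero.mpr Fintype.card_ne_zero), one_smul] at h2
  have hDrest : D - polar Q D f' • e' - polar Q D e' • f' = 0 := by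
    have h1 := decomp_mem (Φ.hyp (p + 1) (by omega)) he' hf' hD
    have h2 : Φ.lev Φ.m = ⊥ := Submodule.finrank_eq_zero.mp hK
    rw [← Φ.lev_succ, show p + 1 + 1 = Φ.m by omega, h2, Submodule.mem_bot] at h1
    exact h1
  have hDeq : D = polar Q D f' • e' + polar Q D e' • f' := by
    linear_combination (norm := module) hDrest
  have hprod : polar Q D f' * polar Q D e' = 0 := by
    have : Q (polar Q D f' • e' + polar Q D e' • f') = 0 := by rw [← hDeq]; exact hQD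
    rwa [map_add', map_smul', map_smul', hd.h'.qe, hd.h'.qf, polar_smul_left', polar_smul_right',
      hd.h'.pol, mul_zero, mul_zero, zero_add, zero_add, mul_one] at this
  rcases mul_eq_zero.mp hprod with h | h
  · exact kill f' hf' h ha
  · exact kill e' he' h hb

end Mod

end CfsgLib.KnownA.OrthMinDeg
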