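import Cfsg.Agent.Lib.KnownA.OrthMinDeg.Chain

/-!
# Elements of a root
-/

set_option autoImplicit false

namespace CfsgLib.KnownA.OrthMinDeg

open QuadraticMap CfsgLib.Geometry

variable {F M : Type*} [Field F] [AddCommGroup M] [Module F M] {Q : QuadraticForm F M}
  {e f e' f' : M}

theorem commute_sg {g : siegelGroup Q} {u x : M} (hu : g.1 u = u) (hx : g.1 x = x) :
    Commute g (sg Q u x) := by
  show g * sg Q u x = sg Q u x * g
  rw [sg_mul_comm, hu, hx]

theorem commute_rA {g : siegelGroup Q} {u x : M} (hu : g.1 u = u) (hx : g.1 x = x) (s : F) :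
    Commute g (rA Q u x s) :=
  commute_sg hu (by rw [map_smul, hx])

theorem commute_rN {g : siegelGroup Q} (he : g.1 e = e) (hf : g.1 f = f) (he' : g.1 e' = e')
    (hf' : g.1 f' = f') : Commute g (rN Q e f e' f') :=
  ((commute_rA he hf' 1).mul_right (commute_rA hf he' 1)).mul_right (commute_rA he hf' 1)

theorem rA_fix (hd : Two Q e f e' f') (s : F) {v : M} (h1 : polar Q v e = 0)
    (h2 : polar Q v f' = 0) : (rA Q e f' s).1 v = v := by
  rw [rA_apply hd, h1, h2]; module

theorem rA_e' (hd : Two Q e f e' f') (s : F) : (rA Q e f' s).1 e' = e' - s • e := by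
  rw [rA_apply hd, polar_comm Q e' e, hd.ee', hd.h'.pol]; module

theorem rH_e (hd : Two Q e f e' f') {a : F} (ha : a ≠ 0) : (rH Q e f e' f' a).1 e = a • e := by
  rw [rH_apply hd ha, hd.h.pol, hd.h.ee, hd.ef', hd.ee']; module

theorem rH_f (hd : Two Q e f e' f') {a : F} (ha : a ≠ 0) : (rH Q e f e' f' a).1 f = a⁻¹ • f := by
  rw [rH_apply hd ha, hd.h.pol', hd.h.ff, hd.ff', hd.fe']; module

theorem rH_e' (hd : Two Q e f e' f') {a : F} (ha : a ≠ 0) : (rH Q e f e' f' a).1 e' = a⁻¹ • e' := by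
  rw [rH_apply hd ha, hd.h'.pol, hd.h'.ee, polar_comm Q e' e, hd.ee', polar_comm Q e' f, hd.fe']
  module

theorem rH_f' (hd : Two Q e f e' f') {a : F} (ha : a ≠ 0) : (rH Q e f e' f' a).1 f' = a • f' := by
  rw [rH_apply hd ha, hd.h'.pol', hd.h'.ff, polar_comm Q f' e, hd.ef', polar_comm Q f' f, hd.ff']
  module

theorem rH_perp (hd : Two Q e f e' f') {a : F} (ha : a ≠ 0) {v : M} (h1 : polar Q e v = 0)
    (h2 : polar Q f v = 0) (h3 : polar Q e' v = 0) (h4 : polar Q f' v = 0) :
    (rH Q e f e' f' a).1 v = v := by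
  rw [rH_apply hd ha, polar_comm Q v f, polar_comm Q v f', polar_comm Q v e, polar_comm Q v e', h1,
    h2, h3, h4]
  module

theorem rH_mul (hd : Two Q e f e' f') {a b : F} (ha : a ≠ 0) (hb : b ≠ 0) :
    rH Q e f e' f' (a * b) = rH Q e f e' f' a * rH Q e f e' f' b := by
  refine ext' fun v => ?_
  rw [mul_apply', rH_apply hd hb, rH_apply hd (mul_ne_zero ha hb)]
  simp only [map_add, map_smul, rH_e hd ha, rH_f hd ha, rH_e' hd ha, rH_f' hd ha, rH_apply hd ha v]
  match_scalars <;> field_simp <;> ring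

theorem rH_one (hd : Two Q e f e' f') : rH Q e f e' f' 1 = 1 := by
  refine ext' fun v => ?_
  rw [rH_apply hd one_ne_zero, one_apply', inv_one]
  module

/-- The coroot normalises the root group. -/
theorem rH_rA (hd : Two Q e f e' f') {a : F} (ha : a ≠ 0) (s : F) :
    rH Q e f e' f' a * rA Q e f' s = rA Q e f' (a * a * s) * rH Q e f e' f' a := by
  rw [rA, sg_mul_comm, map_smul, rH_e hd ha, rH_f' hd ha,
    sg_smul_left hd.h.qe (by rw [polar_smul_right', polar_smul_right', hd.ef', mul_zero, mul_zero]),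
    rA, smul_smul, smul_smul, show a * s * a = a * a * s by ring]

/-- The lower root group through the upper one. -/
theorem rB_eq (hd : Two Q e f e' f') {a : F} (_ha : a ≠ 0) :
    rA Q f e' a⁻¹ = rA Q e f' (-a) * rH Q e f e' f' a * rN Q e f e' f' * rA Q e f' (-a) := by
  have h1 : rA Q e f' (-a) * rA Q e f' a = 1 := by
    rw [← rA_add hd, neg_add_cancel, rA_zero]
  have h2 : rA Q e f' a * rA Q e f' (-a) = 1 := by
    rw [← rA_add hd, add_neg_cancel, rA_zero]
  calc rA Q f e' a⁻¹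
      = (rA Q e f' (-a) * rA Q e f' a) * rA Q f e' a⁻¹ * (rA Q e f' a * rA Q e f' (-a)) := by
        rw [h1, h2, one_mul, mul_one]
    _ = _ := by rw [rH]; group

/-- Conjugating the root group by the inverse Weyl element. -/
theorem rN_inv_rA (hd : Two Q e f e' f') (s : F) :
    rA Q e f' s * rN Q e f e' f' = rN Q e f e' f' * rA Q f e' s := by
  have h1 := rN_rA hd s
  have h2 : rH Q e f e' f' (-1) * rA Q e f' s = rA Q e f' s * rH Q e f e' f' (-1) := by
    rw [rH_rA hd (neg_ne_zero.mpr one_ne_zero), show (-1 : F) * -1 * s = s by ring]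
  rw [← rN_sq hd] at h2
  rw [← h1]
  calc rA Q e f' s * rN Q e f e' f'
      = rA Q e f' s * (rN Q e f e' f' * rN Q e f e' f') * (rN Q e f e' f')⁻¹ := by group
    _ = rN Q e f e' f' * rN Q e f e' f' * rA Q e f' s * (rN Q e f e' f')⁻¹ := by rw [← h2]
    _ = _ := by group

end CfsgLib.KnownA.OrthMinDeg
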