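import Cfsg.Agent.Lib.Geometry.OmegaGen

/-!
# Elements of the Siegel group

Siegel transformations as group elements, Weyl elements and tori of one and of two hyperbolic pairs.
-/

set_option autoImplicit false

namespace CfsgLib.KnownA.OrthMinDeg

open QuadraticMap CfsgLib.Geometry

variable {F M : Type*} [Field F] [AddCommGroup M] [Module F M] {Q : QuadraticForm F M}

attribute [local instance] _root_.Classical.propDecidable

/-- A Siegel transformation as an element of the Siegel group, `1` outside the domain. -/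
noncomputable def sg (Q : QuadraticForm F M) (e x : M) : siegelGroup Q :=
  if h : Q e = 0 ∧ polar Q e x = 0 then ⟨siegel Q e x h.1 h.2, siegel_mem _ _ _ _⟩ else 1

theorem sg_apply {e x : M} (he : Q e = 0) (hx : polar Q e x = 0) (v : M) :
    (sg Q e x).1 v = v + polar Q v e • x - polar Q v x • e - (Q x * polar Q v e) • e := by
  rw [sg, dif_pos ⟨he, hx⟩]; exact siegel_apply Q e x he hx v

theorem mem_orth' (g : siegelGroup Q) (v : M) : Q (g.1 v) = Q v :=
  siegelGroup_le_orth g.2 v

theorem polar' (g : siegelGroup Q) (u v : M) : polar Q (g.1 u) (g.1 v) = polar Q u v :=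
  orth_polar (siegelGroup_le_orth g.2) u v

theorem ext' {g h : siegelGroup Q} (H : ∀ v, g.1 v = h.1 v) : g = h :=
  Subtype.ext (LinearEquiv.ext H)

theorem mul_apply' (g h : siegelGroup Q) (v : M) : (g * h).1 v = g.1 (h.1 v) := rfl

theorem one_apply' (v : M) : (1 : siegelGroup Q).1 v = v := rfl

theorem inv_apply_self (g : siegelGroup Q) (v : M) : (g⁻¹).1 (g.1 v) = v := by
  rw [← mul_apply', inv_mul_cancel]; rfl

theorem apply_inv_self (g : siegelGroup Q) (v : M) : g.1 ((g⁻¹).1 v) = v := by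
  rw [← mul_apply', mul_inv_cancel]; rfl

theorem inv_apply_eq {g : siegelGroup Q} {u v : M} (h : g.1 u = v) : (g⁻¹).1 v = u := by
  rw [← h, inv_apply_self]

theorem sg_conj (g : siegelGroup Q) (e x : M) : g * sg Q e x * g⁻¹ = sg Q (g.1 e) (g.1 x) := by
  have hiff : (Q (g.1 e) = 0 ∧ polar Q (g.1 e) (g.1 x) = 0) ↔ (Q e = 0 ∧ polar Q e x = 0) := by
    rw [mem_orth', polar']
  by_cases h : Q e = 0 ∧ polar Q e x = 0
  · rw [sg, dif_pos h, sg, dif_pos (hiff.mpr h)]
    exact Subtype.ext (siegel_conj (siegelGroup_le_orth g.2) e x h.1 h.2)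
  · rw [sg, dif_neg h, sg, dif_neg (fun h' => h (hiff.mp h')), mul_one, mul_inv_cancel]

theorem sg_mul_comm (g : siegelGroup Q) (e x : M) : g * sg Q e x = sg Q (g.1 e) (g.1 x) * g := by
  rw [← sg_conj, inv_mul_cancel_right]

theorem mul_sg (g : siegelGroup Q) (e x : M) :
    sg Q e x * g = g * sg Q ((g⁻¹).1 e) ((g⁻¹).1 x) := by
  rw [sg_mul_comm, apply_inv_self, apply_inv_self]

theorem sg_zero (e : M) : sg Q e 0 = 1 := by
  by_cases he : Q e = 0
  · exact ext' fun v => by simp [sg_apply he (polar_zero_right (Q := Q) e), one_apply']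
  · rw [sg, dif_neg (fun h => he h.1)]

theorem sg_add {e x y : M} (he : Q e = 0) (hx : polar Q e x = 0) (hy : polar Q e y = 0) :
    sg Q e (x + y) = sg Q e x * sg Q e y := by
  have hxy : polar Q e (x + y) = 0 := by rw [polar_add_right, hx, hy, add_zero]
  rw [sg, dif_pos ⟨he, hxy⟩, sg, dif_pos ⟨he, hx⟩, sg, dif_pos ⟨he, hy⟩]
  exact Subtype.ext (siegel_mul e x y he hx hy).symm

theorem sg_neg {e x : M} (he : Q e = 0) (hx : polar Q e x = 0) : sg Q e (-x) = (sg Q e x)⁻¹ := by
  refine eq_inv_of_mul_eq_one_left ?_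
  rw [← sg_add he (by rw [polar_neg_right, hx, neg_zero]) hx, neg_add_cancel, sg_zero]

theorem sg_smul_self {e : M} (he : Q e = 0) (c : F) : sg Q e (c • e) = 1 := by
  refine ext' fun v => ?_
  rw [sg_apply he (by rw [polar_smul_right', polar_self', he, mul_zero, mul_zero]), one_apply',
    map_smul', he, polar_smul_right']
  module

theorem sg_smul_left {e x : M} (he : Q e = 0) (hx : polar Q e x = 0) (c : F) :
    sg Q (c • e) x = sg Q e (c • x) := by
  refine ext' fun v => ?_
  rw [sg_apply (by rw [map_smul', he, mul_zero]) (by rw [polar_smul_left', hx, mul_zero]),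
    sg_apply he (by rw [polar_smul_right', hx, mul_zero]), polar_smul_right', polar_smul_right',
    map_smul']
  module

theorem sg_swap {u v : M} (hu : Q u = 0) (hv : Q v = 0) (h : polar Q u v = 0) :
    sg Q u v = sg Q v (-u) := by
  refine ext' fun x => ?_
  rw [sg_apply hu h, sg_apply hv (by rw [polar_neg_right, polar_comm, h, neg_zero]), hv,
    QuadraticMap.map_neg, hu, polar_neg_right]
  module

theorem sg_add_left {e e' y : M} (he : Q e = 0) (he' : Q e' = 0) (h : polar Q e e' = 0)
    (hy : polar Q e y = 0) (hy' : polar Q e' y = 0) (s : F) :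
    sg Q (e' + s • e) y = sg Q e (s • y - (s * Q y) • e') * sg Q e' y := by
  have hee : polar Q e e = 0 := by rw [polar_self', he, mul_zero]
  refine ext' fun v => ?_
  rw [mul_apply', sg_apply he' hy', sg_apply he (by
      simp [polar_sub_right, polar_smul_right', hy, h]),
    sg_apply (by simp [map_add', map_smul', he, he', polar_smul_right', polar_comm Q e' e, h])
      (by simp [polar_add_left, polar_smul_left', hy, hy'])]
  simp only [CfsgLib.Geometry.map_sub', map_smul', he', polar_sub_right, polar_smul_right', polar_add_right,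
    polar_add_left, polar_sub_left, polar_smul_left', polar_self', he, hy, hy', h,
    polar_comm Q e' e, polar_comm Q y e, polar_comm Q y e']
  match_scalars <;> ring

/-- A hyperbolic pair. -/
structure Hyp (Q : QuadraticForm F M) (e f : M) : Prop where
  qe : Q e = 0
  qf : Q f = 0
  pol : polar Q e f = 1

theorem Hyp.symm {e f : M} (h : Hyp Q e f) : Hyp Q f e :=
  ⟨h.qf, h.qe, by rw [polar_comm]; exact h.pol⟩

theorem Hyp.pol' {e f : M} (h : Hyp Q e f) : polar Q f e = 1 := h.symm.pol

theorem Hyp.ee {e f : M} (h : Hyp Q e f) : polar Q e e = 0 := by rw [polar_self', h.qe, mul_zero]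

theorem Hyp.ff {e f : M} (h : Hyp Q e f) : polar Q f f = 0 := by rw [polar_self', h.qf, mul_zero]

theorem Hyp.ne {e f : M} (h : Hyp Q e f) : e ≠ 0 := fun h0 => by
  have := h.pol; rw [h0, polar_zero_left] at this; exact zero_ne_one this

theorem Hyp.map (g : siegelGroup Q) {e f : M} (h : Hyp Q e f) : Hyp Q (g.1 e) (g.1 f) :=
  ⟨by rw [mem_orth', h.qe], by rw [mem_orth', h.qf], by rw [polar', h.pol]⟩

/-- The Weyl element of a pair given by a non-singular vector orthogonal to it. -/
noncomputable def wN (Q : QuadraticForm F M) (e f x : M) : siegelGroup Q :=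
  sg Q e x * sg Q f ((Q x)⁻¹ • x) * sg Q e x

theorem wN_apply {e f x : M} (h : Hyp Q e f) (hxe : polar Q e x = 0) (hxf : polar Q f x = 0)
    (hx : Q x ≠ 0) (v : M) : (wN Q e f x).1 v = v - ((Q x)⁻¹ * polar Q v x) • x
      - polar Q v f • (e + (Q x)⁻¹ • f) - polar Q v e • (f + Q x • e) := by
  have hxf' : polar Q f ((Q x)⁻¹ • x) = 0 := by rw [polar_smul_right', hxf, mul_zero]
  simp only [wN, mul_apply', sg_apply h.qe hxe, sg_apply h.qf hxf', polar_add_left, polar_sub_left,
    polar_smul_left', polar_smul_right', map_smul', h.ee, h.ff, h.pol, h.pol', hxe, hxf,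
    polar_comm Q x e, polar_comm Q x f, polar_self']
  match_scalars <;> field_simp <;> ring

/-- The torus element scaling `e` by `c²` and `f` by `c⁻²`. -/
noncomputable def sc (Q : QuadraticForm F M) (e f x : M) (c : F) : siegelGroup Q :=
  wN Q e f (c • x) * wN Q e f x

theorem sc_apply {e f x : M} (h : Hyp Q e f) (hxe : polar Q e x = 0) (hxf : polar Q f x = 0)
    (hx : Q x ≠ 0) {c : F} (hc : c ≠ 0) (v : M) : (sc Q e f x c).1 v =
      v + ((c * c - 1) * polar Q v f) • e + (((c * c)⁻¹ - 1) * polar Q v e) • f := by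
  have hcx : Q (c • x) ≠ 0 := by rw [map_smul']; exact mul_ne_zero (mul_ne_zero hc hc) hx
  rw [sc, mul_apply', wN_apply h (by rw [polar_smul_right', hxe, mul_zero])
    (by rw [polar_smul_right', hxf, mul_zero]) hcx, wN_apply h hxe hxf hx]
  simp only [polar_add_left, polar_sub_left, polar_add_right, polar_smul_left', polar_smul_right', map_smul',
    h.ee, h.ff, h.pol, h.pol', hxe, hxf, polar_comm Q x e, polar_comm Q x f, polar_self']
  match_scalars <;> field_simp <;> ring

theorem sc_e {e f x : M} (h : Hyp Q e f) (hxe : polar Q e x = 0) (hxf : polar Q f x = 0)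
    (hx : Q x ≠ 0) {c : F} (hc : c ≠ 0) : (sc Q e f x c).1 e = (c * c) • e := by
  rw [sc_apply h hxe hxf hx hc, h.pol, h.ee]; module

theorem sc_f {e f x : M} (h : Hyp Q e f) (hxe : polar Q e x = 0) (hxf : polar Q f x = 0)
    (hx : Q x ≠ 0) {c : F} (hc : c ≠ 0) : (sc Q e f x c).1 f = (c * c)⁻¹ • f := by
  rw [sc_apply h hxe hxf hx hc, h.pol', h.ff]; module

theorem sc_perp {e f x : M} (h : Hyp Q e f) (hxe : polar Q e x = 0) (hxf : polar Q f x = 0)
    (hx : Q x ≠ 0) {c : F} (hc : c ≠ 0) {v : M} (hve : polar Q e v = 0) (hvf : polar Q f v = 0) :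
    (sc Q e f x c).1 v = v := by
  rw [sc_apply h hxe hxf hx hc, polar_comm Q v f, hvf, polar_comm Q v e, hve]; module

/-- Two orthogonal hyperbolic pairs. -/
structure Two (Q : QuadraticForm F M) (e f e' f' : M) : Prop where
  h : Hyp Q e f
  h' : Hyp Q e' f'
  ee' : polar Q e e' = 0
  ef' : polar Q e f' = 0
  fe' : polar Q f e' = 0
  ff' : polar Q f f' = 0

theorem Two.swapR {e f e' f' : M} (h : Two Q e f e' f') : Two Q e f f' e' :=
  ⟨h.h, h.h'.symm, h.ef', h.ee', h.ff', h.fe'⟩

theorem Two.comm {e f e' f' : M} (h : Two Q e f e' f') : Two Q e' f' e f :=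
  ⟨h.h', h.h, by rw [polar_comm]; exact h.ee', by rw [polar_comm]; exact h.fe',
    by rw [polar_comm]; exact h.ef', by rw [polar_comm]; exact h.ff'⟩

/-- The root subgroup through `e` and `f'`. -/
noncomputable def rA (Q : QuadraticForm F M) (e f' : M) (s : F) : siegelGroup Q := sg Q e (s • f')

/-- The Weyl element of the root. -/
noncomputable def rN (Q : QuadraticForm F M) (e f e' f' : M) : siegelGroup Q :=
  rA Q e f' 1 * rA Q f e' 1 * rA Q e f' 1

/-- The coroot. -/
noncomputable def rH (Q : QuadraticForm F M) (e f e' f' : M) (a : F) : siegelGroup Q :=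
  rA Q e f' a * rA Q f e' a⁻¹ * rA Q e f' a * (rN Q e f e' f')⁻¹

variable {e f e' f' : M}

theorem rA_apply (hd : Two Q e f e' f') (s : F) (v : M) :
    (rA Q e f' s).1 v = v + (s * polar Q v e) • f' - (s * polar Q v f') • e := by
  rw [rA, sg_apply hd.h.qe (by rw [polar_smul_right', hd.ef', mul_zero]), map_smul', hd.h'.qf,
    polar_smul_right']
  module

theorem rB_apply (hd : Two Q e f e' f') (s : F) (v : M) :
    (rA Q f e' s).1 v = v + (s * polar Q v f) • e' - (s * polar Q v e') • f := by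
  rw [rA, sg_apply hd.h.qf (by rw [polar_smul_right', hd.fe', mul_zero]), map_smul', hd.h'.qe,
    polar_smul_right']
  module

theorem rA_add (hd : Two Q e f e' f') (s t : F) :
    rA Q e f' (s + t) = rA Q e f' s * rA Q e f' t := by
  rw [rA, add_smul, sg_add hd.h.qe] <;>
    first | rfl | rw [polar_smul_right', hd.ef', mul_zero]

theorem rA_zero : rA Q e f' 0 = 1 := by rw [rA, zero_smul, sg_zero]

theorem rW_apply (hd : Two Q e f e' f') {a : F} (ha : a ≠ 0) (v : M) :
    (rA Q e f' a * rA Q f e' a⁻¹ * rA Q e f' a).1 v = v + polar Q v f • (a⁻¹ • e' - e)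
      + polar Q v f' • (-(a • e) - e') + polar Q v e • (a • f' - f)
      + polar Q v e' • (-(a⁻¹ • f) - f') := by
  simp only [mul_apply', rA_apply hd, rB_apply hd, polar_add_left, polar_sub_left, polar_smul_left',
    hd.h.ee, hd.h.ff, hd.h'.ee, hd.h'.ff, hd.h.pol, hd.h.pol', hd.h'.pol, hd.h'.pol', hd.ee', hd.ef',
    hd.fe', hd.ff', polar_comm Q e' e, polar_comm Q e' f, polar_comm Q f' e, polar_comm Q f' f]
  match_scalars <;> field_simp <;> ring

theorem rN_apply (hd : Two Q e f e' f') (v : M) :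
    (rN Q e f e' f').1 v = v + polar Q v f • (e' - e) + polar Q v f' • (-e - e')
      + polar Q v e • (f' - f) + polar Q v e' • (-f - f') := by
  have := rW_apply hd (one_ne_zero (α := F)) v
  rw [inv_one] at this
  rw [rN, this]
  simp only [one_smul]

theorem rN_e (hd : Two Q e f e' f') : (rN Q e f e' f').1 e = e' := by
  rw [rN_apply hd, hd.h.pol, hd.h.ee, hd.ee', hd.ef']; module

theorem rN_f (hd : Two Q e f e' f') : (rN Q e f e' f').1 f = f' := by
  rw [rN_apply hd, hd.h.pol', hd.h.ff, hd.fe', hd.ff']; module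

theorem rN_e' (hd : Two Q e f e' f') : (rN Q e f e' f').1 e' = -e := by
  rw [rN_apply hd, hd.h'.pol, hd.h'.ee, polar_comm Q e' e, hd.ee', polar_comm Q e' f, hd.fe']
  module

theorem rN_f' (hd : Two Q e f e' f') : (rN Q e f e' f').1 f' = -f := by
  rw [rN_apply hd, hd.h'.pol', hd.h'.ff, polar_comm Q f' e, hd.ef', polar_comm Q f' f, hd.ff']
  module

theorem rN_inv_e (hd : Two Q e f e' f') : ((rN Q e f e' f')⁻¹).1 e = -e' :=
  inv_apply_eq (by rw [map_neg, rN_e' hd, neg_neg])

theorem rN_inv_e' (hd : Two Q e f e' f') : ((rN Q e f e' f')⁻¹).1 e' = e :=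
  inv_apply_eq (rN_e hd)

theorem rN_inv_f (hd : Two Q e f e' f') : ((rN Q e f e' f')⁻¹).1 f = -f' :=
  inv_apply_eq (by rw [map_neg, rN_f' hd, neg_neg])

theorem rN_inv_f' (hd : Two Q e f e' f') : ((rN Q e f e' f')⁻¹).1 f' = f :=
  inv_apply_eq (rN_f hd)

theorem rN_perp (hd : Two Q e f e' f') {v : M} (h1 : polar Q e v = 0) (h2 : polar Q f v = 0)
    (h3 : polar Q e' v = 0) (h4 : polar Q f' v = 0) : (rN Q e f e' f').1 v = v := by
  rw [rN_apply hd, polar_comm Q v f, polar_comm Q v f', polar_comm Q v e, polar_comm Q v e', h1, h2,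
    h3, h4]
  module

theorem rN_inv_perp (hd : Two Q e f e' f') {v : M} (h1 : polar Q e v = 0) (h2 : polar Q f v = 0)
    (h3 : polar Q e' v = 0) (h4 : polar Q f' v = 0) : ((rN Q e f e' f')⁻¹).1 v = v := by
  conv_lhs => rw [← rN_perp hd h1 h2 h3 h4]
  rw [inv_apply_self]

theorem rN_inv_apply (hd : Two Q e f e' f') (v : M) :
    ((rN Q e f e' f')⁻¹).1 v = v + polar Q v f • (-e' - e) + polar Q v f' • (e - e')
      + polar Q v e • (-f' - f) + polar Q v e' • (f - f') := by
  conv_lhs => rw [show v = (v - polar Q v f • e - polar Q v e • f - polar Q v f' • e' -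
    polar Q v e' • f') + polar Q v f • e + polar Q v e • f + polar Q v f' • e' +
    polar Q v e' • f' by module]
  simp only [map_add, map_smul, rN_inv_e hd, rN_inv_f hd, rN_inv_e' hd, rN_inv_f' hd]
  rw [rN_inv_perp hd] <;>
    simp only [polar_sub_right, polar_smul_right', hd.h.ee, hd.h.ff, hd.h'.ee, hd.h'.ff, hd.h.pol,
      hd.h.pol', hd.h'.pol, hd.h'.pol', hd.ee', hd.ef', hd.fe', hd.ff', polar_comm Q e' e,
      polar_comm Q e' f, polar_comm Q f' e, polar_comm Q f' f, polar_comm Q v e, polar_comm Q v f,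
      polar_comm Q v e', polar_comm Q v f'] <;>
    first | module | ring

theorem rH_apply (hd : Two Q e f e' f') {a : F} (ha : a ≠ 0) (v : M) :
    (rH Q e f e' f' a).1 v = v + ((a - 1) * polar Q v f) • e + ((a⁻¹ - 1) * polar Q v e) • f
      + ((a⁻¹ - 1) * polar Q v f') • e' + ((a - 1) * polar Q v e') • f' := by
  rw [rH, mul_apply', rW_apply hd ha, rN_inv_apply hd]
  simp only [polar_add_left, polar_sub_left, polar_neg_left, polar_smul_left', hd.h.ee, hd.h.ff,
    hd.h'.ee, hd.h'.ff, hd.h.pol, hd.h.pol', hd.h'.pol, hd.h'.pol', hd.ee', hd.ef', hd.fe', hd.ff',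
    polar_comm Q e' e, polar_comm Q e' f, polar_comm Q f' e, polar_comm Q f' f]
  match_scalars <;> ring

/-- Conjugate of the root group by the Weyl element. -/
theorem rN_rA (hd : Two Q e f e' f') (s : F) :
    rN Q e f e' f' * rA Q e f' s * (rN Q e f e' f')⁻¹ = rA Q f e' s := by
  have hfe : polar Q f e' = 0 := hd.fe'
  rw [rA, sg_conj, map_smul, rN_e hd, rN_f' hd, rA,
    sg_swap hd.h'.qe (by rw [map_smul', QuadraticMap.map_neg, hd.h.qf, mul_zero])
      (by rw [polar_smul_right', polar_neg_right, polar_comm, hfe, neg_zero, mul_zero]),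
    sg_smul_left (by rw [QuadraticMap.map_neg, hd.h.qf])
      (by rw [polar_neg_left, polar_neg_right, hfe, neg_zero, neg_zero]) s,
    show (-f : M) = (-1 : F) • f by module,
    sg_smul_left hd.h.qf (by rw [polar_smul_right', polar_neg_right, hfe, neg_zero, mul_zero]),
    show (-1 : F) • s • -e' = s • e' by module]

theorem rN_sq (hd : Two Q e f e' f') :
    rN Q e f e' f' * rN Q e f e' f' = rH Q e f e' f' (-1) := by
  refine ext' fun v => ?_
  rw [mul_apply', rH_apply hd (neg_ne_zero.mpr one_ne_zero)]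
  simp only [rN_apply hd, polar_add_left, polar_sub_left, polar_neg_left, polar_smul_left', hd.h.ee,
    hd.h.ff, hd.h'.ee, hd.h'.ff, hd.h.pol, hd.h.pol', hd.h'.pol, hd.h'.pol', hd.ee', hd.ef', hd.fe',
    hd.ff', polar_comm Q e' e, polar_comm Q e' f, polar_comm Q f' e, polar_comm Q f' f, inv_neg,
    inv_one]
  match_scalars <;> ring

end CfsgLib.KnownA.OrthMinDeg
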