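import Cfsg.Agent.Lib.KnownA.OrthMinDeg.Torus

/-!
# The states of a non-trivial character of the torus
-/

set_option autoImplicit false

namespace CfsgLib.KnownA.OrthMinDeg

open QuadraticMap CfsgLib.Geometry CfsgLib.KnownA.CentralChar

variable {F M : Type*} [Field F] [Fintype F] [AddCommGroup M] [Module F M] [Finite M]
  [FiniteDimensional F M]
  {Q : QuadraticForm F M} {V : Type*} [AddCommGroup V] [Module ℂ V] [FiniteDimensional ℂ V]
  {ρ : Representation ℂ (siegelGroup Q) V} {Φ : Frame Q} {X : Submodule ℂ V}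

/-- The `j`-th state of the character `c`. -/
noncomputable def state (c : F → ℂ) (j : ℕ) : ℕ → F → ℂ := fun k a =>
  if k = j then c a else if k + 1 = j then c a⁻¹ else 1

theorem Eig.congr {χ χ' : ℕ → F → ℂ} {x : V} (h : Eig ρ Φ X χ x)
    (he : ∀ k, k + 1 < Φ.m → ∀ a : F, a ≠ 0 → χ k a = χ' k a) : Eig ρ Φ X χ' x :=
  ⟨h.mem, h.ne, fun k hk a ha => by rw [← he k hk a ha]; exact h.eig k hk a ha⟩

omit [Fintype F] in
theorem eq_neg_one_of_sq {c : ℂ} (h : c * c = 1) (h1 : c ≠ 1) : c = -1 :=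
  (mul_self_eq_one_iff.mp h).resolve_left h1

/-- Non-trivial characters of order two of a finite field coincide. -/
theorem quad_char_eq {c d : F → ℂ}
    (hc : ∀ a b : F, a ≠ 0 → b ≠ 0 → c (a * b) = c a * c b)
    (hd : ∀ a b : F, a ≠ 0 → b ≠ 0 → d (a * b) = d a * d b)
    (hc1 : c 1 = 1) (hd1 : d 1 = 1)
    (hc2 : ∀ a : F, a ≠ 0 → c (a * a) = 1) (hd2 : ∀ a : F, a ≠ 0 → d (a * a) = 1)
    (hcn : ∃ a : F, a ≠ 0 ∧ c a ≠ 1) (hdn : ∃ a : F, a ≠ 0 ∧ d a ≠ 1) {a : F} (ha : a ≠ 0) :
    c a = d a := by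
  obtain ⟨g, hg⟩ := IsCyclic.exists_monoid_generator (α := Fˣ)
  have hpow : ∀ (e : F → ℂ), e 1 = 1 → (∀ a b : F, a ≠ 0 → b ≠ 0 → e (a * b) = e a * e b) →
      ∀ n : ℕ, e (((g ^ n : Fˣ) : F)) = e (g : F) ^ n := by
    intro e he1 he n
    induction n with
    | zero => simp [he1]
    | succ n ih => rw [pow_succ, Units.val_mul, he _ _ (Units.ne_zero _) g.ne_zero, ih, pow_succ]
  have hval : ∀ (e : F → ℂ), e 1 = 1 → (∀ a b : F, a ≠ 0 → b ≠ 0 → e (a * b) = e a * e b) →
      (∀ a : F, a ≠ 0 → e (a * a) = 1) → (∃ a : F, a ≠ 0 ∧ e a ≠ 1) → e (g : F) = -1 := by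
    intro e he1 he he2 ⟨b, hb, hb1⟩
    refine eq_neg_one_of_sq (by rw [← he _ _ g.ne_zero g.ne_zero]; exact he2 _ g.ne_zero) fun h1 => hb1 ?_
    obtain ⟨n, hn⟩ := Submonoid.mem_powers_iff _ _ |>.mp (hg (Units.mk0 b hb))
    rw [show b = ((g ^ n : Fˣ) : F) by rw [hn]; rfl, hpow e he1 he, h1, one_pow]
  obtain ⟨n, hn⟩ := Submonoid.mem_powers_iff _ _ |>.mp (hg (Units.mk0 a ha))
  rw [show a = ((g ^ n : Fˣ) : F) by rw [hn]; rfl, hpow c hc1 hc, hpow d hd1 hd,
    hval c hc1 hc hc2 hcn, hval d hd1 hd hd2 hdn]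

variable (hM : Mod ρ Φ X)
include hM

/-- A pair with product one moves down to a single. -/
theorem descend : ∀ (k : ℕ) {χ : ℕ → F → ℂ} {x : V}, k + 2 < Φ.m → Eig ρ Φ X χ x →
    (∃ a : F, a ≠ 0 ∧ χ k a ≠ 1) → (∀ a : F, a ≠ 0 → χ k a * χ (k + 1) a = 1) →
    (∀ j, j + 1 < Φ.m → j ≠ k → j ≠ k + 1 → ∀ a : F, a ≠ 0 → χ j a = 1) →
    ∃ c y, Eig ρ Φ X (state c 0) y ∧ ∃ a : F, a ≠ 0 ∧ c a ≠ 1 := by
  intro k
  induction k with
  | zero =>
    intro χ x hk h hn hprod htriv
    obtain ⟨a, ha, hne⟩ := hn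
    refine ⟨fun a => χ 0 a⁻¹, _, (h.Top hM (by omega) ⟨a, ha, hne⟩).congr fun j hj b hb => ?_,
      a⁻¹, inv_ne_zero ha, by show χ 0 a⁻¹⁻¹ ≠ 1; rwa [inv_inv]⟩
    unfold refl' state
    rcases j with - | - | j
    · simp
    · simpa using hprod b hb
    · simpa using htriv (j + 2) hj (by omega) (by omega) b hb
  | succ k ih =>
    intro χ x hk h hn hprod htriv
    obtain ⟨a, ha, hne⟩ := hn
    have h' := h.Top hM (i := k + 1) (by omega) ⟨a, ha, hne⟩
    refine ih (by omega) h' ⟨a, ha, ?_⟩ (fun b hb => ?_) fun j hj h1 h2 b hb => ?_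
    · unfold refl'
      rw [if_neg (by omega), if_pos (Or.inr rfl), htriv k (by omega) (by omega) (by omega) a ha, mul_one]
      exact hne
    · unfold refl'
      rw [if_neg (by omega), if_pos (Or.inr rfl), if_pos rfl,
        htriv k (by omega) (by omega) (by omega) b hb, mul_one, ← h.map_mul (by omega) hb
        (inv_ne_zero hb), mul_inv_cancel₀ hb, h.map_one (by omega)]
    · unfold refl'
      rw [if_neg h2]
      split_ifs with h3
      · obtain rfl : j = k + 1 + 1 := by omega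
        exact hprod b hb
      · exact htriv j hj (by omega) (by omega) b hb

/-- A single gives all the states. -/
theorem ascend {c : F → ℂ} {y : V} (h : Eig ρ Φ X (state c 0) y) (hn : ∃ a : F, a ≠ 0 ∧ c a ≠ 1) :
    ∀ j, j + 1 ≤ Φ.m → 2 ≤ Φ.m → ∃ x, Eig ρ Φ X (state c j) x := by
  intro j
  induction j with
  | zero => exact fun _ _ => ⟨y, h⟩
  | succ j ih =>
    intro hj hm
    obtain ⟨x, hx⟩ := ih (by omega) hm
    obtain ⟨a, ha, hne⟩ := hn
    refine ⟨_, (hx.Top hM (i := j) (by omega) ⟨a, ha, by simp [state, hne]⟩).congr fun k hk b hb => ?_⟩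
    by_cases h1 : k = j
    · subst h1; simp [refl', state]
    by_cases h2 : k = j + 1
    · subst h2; simp [refl', state, show ¬(j + 1 + 1 = j) by omega]
    by_cases h3 : k + 1 = j
    · have hcc : c b * c b⁻¹ = 1 := by
        have h4 := h.map_mul (k := 0) (by omega) hb (inv_ne_zero hb)
        rw [mul_inv_cancel₀ hb, h.map_one (k := 0) (by omega)] at h4
        simpa [state] using h4.symm
      subst h3
      simp [refl', state, show ¬k = k + 1 + 1 by omega, hcc]
    · simp [refl', state, h1, h2, h3]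

/-- A non-trivial character of the torus gives `m` characters. -/
theorem caseA (hm : 3 ≤ Φ.m) (h2 : Φ.m = 3 → ∀ χ x, Eig ρ Φ X χ x → (∃ a : F, a ≠ 0 ∧ χ 1 a ≠ 1) →
      ∀ a : F, a ≠ 0 → χ 1 (a * a) = 1)
    {χ : ℕ → F → ℂ} {x : V} (h : Eig ρ Φ X χ x)
    (hne : ∃ k, k + 1 < Φ.m ∧ ∃ a : F, a ≠ 0 ∧ χ k a ≠ 1) :
    Φ.m ≤ Module.finrank ℂ (Cs ρ Φ X) := by
  classical
  obtain ⟨c, y, hy, hcn⟩ : ∃ c y, Eig ρ Φ X (state c 0) y ∧ ∃ a : F, a ≠ 0 ∧ c a ≠ 1 := by
    set k := Nat.find hne with hkdef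
    obtain ⟨hk, a, ha, hka⟩ : k + 1 < Φ.m ∧ ∃ a : F, a ≠ 0 ∧ χ k a ≠ 1 := Nat.find_spec hne
    have hlow : ∀ j, j < k → ∀ b : F, b ≠ 0 → χ j b = 1 := fun j hj b hb =>
      by_contra fun hc => Nat.find_min hne hj ⟨by omega, b, hb, hc⟩
    have hhigh : ∀ j, j + 1 < Φ.m → k + 2 ≤ j → ∀ b : F, b ≠ 0 → χ j b = 1 := fun j hj hkj =>
      (h.far hM hkj hj).resolve_left fun hc => hka (hc a ha)
    by_cases hsingle : ∀ b : F, b ≠ 0 → k + 2 < Φ.m → χ (k + 1) b = 1
    · have htriv : ∀ j, j + 1 < Φ.m → j ≠ k → ∀ b : F, b ≠ 0 → χ j b = 1 := by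
        intro j hj hjk b hb
        rcases Nat.lt_or_gt_of_ne hjk with hlt | hgt
        · exact hlow j hlt b hb
        · rcases Nat.lt_or_ge j (k + 2) with h' | h'
          · obtain rfl : j = k + 1 := by omega
            exact hsingle b hb (by omega)
          · exact hhigh j hj h' b hb
      rcases Nat.eq_zero_or_pos k with hk0 | hkpos
      · refine ⟨χ 0, x, h.congr fun j hj b hb => ?_, a, ha, by rwa [← hk0]⟩
        rcases j with - | j
        · simp [state]
        · simpa [state] using htriv (j + 1) hj (by omega) b hb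
      obtain ⟨l, hl⟩ : ∃ l, k = l + 1 := ⟨k - 1, by omega⟩
      have h' := h.Top hM hk ⟨a, ha, hka⟩
      by_cases hend : k + 2 < Φ.m
      · exfalso
        rcases h'.far hM (i := l) (j := k + 1) (by omega) hend with hc | hc
        · have h9 := hc a ha
          unfold refl' at h9
          rw [if_neg (by omega), if_pos (Or.inr hl.symm), htriv l (by omega) (by omega) a ha, mul_one] at h9
          exact hka h9
        · have h9 := hc a ha
          unfold refl' at h9
          rw [if_neg (by omega), if_pos (Or.inl rfl), htriv (k + 1) hend (by omega) a ha, mul_one] at h9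
          exact hka h9
      · refine descend hM l (by omega) h' ⟨a, ha, ?_⟩ (fun b hb => ?_) fun j hj h1 h2 b hb => ?_
        · unfold refl'
          rw [if_neg (by omega), if_pos (Or.inr hl.symm), htriv l (by omega) (by omega) a ha, mul_one]
          exact hka
        · unfold refl'
          rw [if_neg (by omega), if_pos (Or.inr hl.symm), htriv l (by omega) (by omega) b hb, mul_one,
            if_pos hl.symm, ← h.map_mul hk hb (inv_ne_zero hb), mul_inv_cancel₀ hb, h.map_one hk]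
        · unfold refl'
          rw [if_neg (by omega), if_neg (by omega)]
          exact htriv j hj (by omega) b hb
    push Not at hsingle
    obtain ⟨b, hb, hk2, hkb⟩ := hsingle
    have htriv : ∀ j, j + 1 < Φ.m → j ≠ k → j ≠ k + 1 → ∀ e : F, e ≠ 0 → χ j e = 1 := by
      intro j hj h1 h3 e he
      rcases Nat.lt_or_gt_of_ne h1 with hlt | hgt
      · exact hlow j hlt e he
      · exact hhigh j hj (by omega) e he
    refine descend hM k hk2 h ⟨a, ha, hka⟩ (fun e he => ?_) fun j hj h1 h3 => htriv j hj h1 h3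
    rcases Nat.eq_zero_or_pos k with hk0 | hkpos
    · by_cases hm3 : Φ.m = 3
      · -- both characters have order two
        rw [hk0] at hka hkb ⊢
        have hn1 : ∃ a : F, a ≠ 0 ∧ χ 1 a ≠ 1 := ⟨b, hb, hkb⟩
        have h1 := h.Top hM (i := 0) (by omega) ⟨a, ha, hka⟩
        by_contra hcd
        have h2' := h2 hm3 _ _ h1 ⟨e, he, by simpa [refl'] using hcd⟩
        have hd2 := h2 hm3 χ x h hn1
        have hc2 : ∀ u : F, u ≠ 0 → χ 0 (u * u) = 1 := fun u hu => by
          have h5 := h2' u hu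
          simp only [refl', Nat.one_ne_zero, if_false, zero_add, true_or, if_true] at h5
          rwa [hd2 u hu, mul_one] at h5
        have heq := quad_char_eq (fun u v hu hv => h.map_mul (k := 0) (by omega) hu hv)
          (fun u v hu hv => h.map_mul (k := 1) (by omega) hu hv) (h.map_one (by omega))
          (h.map_one (by omega)) hc2 hd2 ⟨a, ha, hka⟩ hn1 he
        apply hcd
        rw [show (0 + 1 : ℕ) = 1 from rfl, ← heq, ← h.map_mul (by omega) he he, hc2 e he]
      · have h1 := h.Top hM (i := k + 1) hk2 ⟨b, hb, hkb⟩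
        rcases h1.far hM (i := k) (j := k + 2) le_rfl (by omega) with hc | hc
        · have h9 := hc e he
          unfold refl' at h9
          rw [if_neg (by omega), if_pos (Or.inr rfl), mul_comm] at h9
          exact h9
        · exfalso
          have h9 := hc b hb
          unfold refl' at h9
          rw [if_neg (by omega), if_pos (Or.inl rfl),
            htriv (k + 2) (by omega) (by omega) (by omega) b hb, mul_one] at h9
          exact hkb h9
    · obtain ⟨l, hl⟩ : ∃ l, k = l + 1 := ⟨k - 1, by omega⟩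
      have h1 := h.Top hM (i := k) hk ⟨a, ha, hka⟩
      rcases h1.far hM (i := l) (j := k + 1) (by omega) hk2 with hc | hc
      · exfalso
        have h9 := hc a ha
        unfold refl' at h9
        rw [if_neg (by omega), if_pos (Or.inr hl.symm),
          htriv l (by omega) (by omega) (by omega) a ha, mul_one] at h9
        exact hka h9
      · have h9 := hc e he
        unfold refl' at h9
        rw [if_neg (by omega), if_pos (Or.inl rfl)] at h9
        exact h9
  choose x hx using fun j : Fin Φ.m => ascend hM hy hcn j.1 (by omega) (by omega)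
  refine le_trans (le_of_eq (Fintype.card_fin _).symm) (eig_card_le _ x hx ?_)
  obtain ⟨a, ha, hca⟩ := hcn
  have key : ∀ p q : ℕ, p < q → q < Φ.m →
      ∃ k, k + 1 < Φ.m ∧ ∃ b : F, b ≠ 0 ∧ state c p k b ≠ state c q k b := by
    intro p q hpq hq
    rcases Nat.lt_or_ge (p + 1) q with h1 | h1
    · exact ⟨p, by omega, a, ha, by
        simp [state, show ¬p = q by omega, show ¬p + 1 = q by omega, hca]⟩
    obtain rfl : q = p + 1 := by omega
    rcases Nat.eq_zero_or_pos p with rfl | hp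
    · exact ⟨1, by omega, a, ha, by simp [state, Ne.symm hca]⟩
    · refine ⟨p - 1, by omega, a⁻¹, inv_ne_zero ha, ?_⟩
      simp [state, show ¬p - 1 = p by omega, show p - 1 + 1 = p by omega, show ¬p - 1 = p + 1 by omega, hca]
  intro p q hpq
  rcases Nat.lt_or_gt_of_ne (fun h => hpq (Fin.ext h)) with h1 | h1
  · exact key p q h1 q.2
  · obtain ⟨k, hk, b, hb, hne⟩ := key q p h1 p.2
    exact ⟨k, hk, b, hb, hne.symm⟩

/-- A non-trivial character of the torus gives at least two characters. -/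
theorem caseA_two (hm : 3 ≤ Φ.m) {χ : ℕ → F → ℂ} {x : V} (h : Eig ρ Φ X χ x)
    (hne : ∃ k, k + 1 < Φ.m ∧ ∃ a : F, a ≠ 0 ∧ χ k a ≠ 1) :
    2 ≤ Module.finrank ℂ (Cs ρ Φ X) := by
  obtain ⟨k, hk, a, ha, hka⟩ := hne
  have h' := h.Top hM hk ⟨a, ha, hka⟩
  obtain ⟨j, hj, hjk⟩ : ∃ j, j + 1 < Φ.m ∧ (j = k + 1 ∨ j + 1 = k) := by
    rcases Nat.eq_zero_or_pos k with rfl | hp
    · exact ⟨1, by omega, Or.inl rfl⟩
    · exact ⟨k - 1, by omega, Or.inr (by omega)⟩
  refine le_trans (le_of_eq (Fintype.card_bool).symm)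
    (eig_card_le (fun b => bif b then refl' χ k else χ) (fun b => bif b then Φ.T ρ k x else x)
      (fun b => by cases b <;> assumption) fun p q hpq => ⟨j, hj, a, ha, ?_⟩)
  have hd : refl' χ k j a ≠ χ j a := by
    unfold refl'
    rw [if_neg (by omega), if_pos hjk]
    intro h9
    exact hka (mul_right_cancel₀ (h.ne_zero hj ha) (h9.trans (one_mul _).symm))
  cases p <;> cases q <;> simp_all [Ne.symm hd]

end CfsgLib.KnownA.OrthMinDeg
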