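import Cfsg.Agent.Lib.KnownA.OrthMinDeg.Bound
import Cfsg.Agent.Lib.KnownA.MinDegree.Nontrivial
import Cfsg.Agent.Lib.Geometry.POmegaStd
import Cfsg.Agent.Lib.Geometry.EvenSims

/-!
# The standard orthogonal groups
-/

set_option autoImplicit false

namespace CfsgLib.KnownA.OrthMinDeg

open QuadraticMap CfsgLib.Geometry Matrix

variable {F : Type*} [Field F] [Fintype F] {ι : Type} [Fintype ι] [DecidableEq ι]

/-- A representation of `Ω` as a moved module of the Siegel group. -/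
theorem exists_moved_rep {Q : QuadraticForm F (ι → F)} (hQ : (polarBilin Q).Nondegenerate)
    (hn : 5 ≤ Fintype.card ι) {k : ℕ} (π : Representation ℂ (Cfsg.Omega F ⇑Q) (Fin k → ℂ))
    (hirr : π.IsIrreducible) (hk : 2 ≤ k) :
    ∃ ρ : Representation ℂ (siegelGroup Q) (Fin k → ℂ), Moved ρ ⊤ ⊤ := by
  have hn' : 5 ≤ Module.finrank F (ι → F) := by simpa using hn
  have hn4 : Module.finrank F (ι → F) ≠ 4 ∨ ∃ a : F, a ≠ 0 ∧ a ≠ 1 := Or.inl (by omega)
  have hC := commutator_eq_siegel hQ (by omega) (splitSingular_of hQ hn4) (reflGroup_eq_orth hQ hn4)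
  have hmem : ∀ g : Cfsg.isometryGroup F ⇑Q, g ∈ Cfsg.Omega F ⇑Q ↔
      (isomEquiv Q g : (ι → F) ≃ₗ[F] (ι → F)) ∈ siegelGroup Q := fun g => by
    rw [mem_Omega_iff_commutator, hC, Subgroup.mem_subgroupOf]
  let φ : siegelGroup Q →* Cfsg.Omega F ⇑Q :=
    ((isomEquiv Q).symm.toMonoidHom.comp (Subgroup.inclusion siegelGroup_le_orth)).codRestrict _
      fun s => by
        rw [hmem]
        show ((isomEquiv Q ((isomEquiv Q).symm (Subgroup.inclusion siegelGroup_le_orth s))) :
          (ι → F) ≃ₗ[F] (ι → F)) ∈ _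
        rw [MulEquiv.apply_symm_apply]
        exact s.2
  refine ⟨π.comp φ, ?_⟩
  obtain ⟨g, x, hgx⟩ := CfsgLib.KnownA.MinDegree.exists_moved π hirr hk
  have hφ : φ ⟨_, (hmem g.1).mp g.2⟩ = g := Subtype.ext ((isomEquiv Q).symm_apply_apply g.1)
  refine ⟨⟨_, (hmem g.1).mp g.2⟩, ?_, x, Submodule.mem_top, fun h => hgx ?_⟩
  · generalize (⟨_, (hmem g.1).mp g.2⟩ : siegelGroup Q) = s
    obtain ⟨s, hs⟩ := s
    induction hs using Subgroup.closure_induction with
    | mem s hs =>
      obtain ⟨e, w, he, hw, rfl⟩ := hs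
      have : (⟨siegel Q e w he hw, siegel_mem e w he hw⟩ : siegelGroup Q) = sg Q e w := by
        rw [sg, dif_pos ⟨he, hw⟩]
      rw [this]
      exact sg_mem_SH Submodule.mem_top Submodule.mem_top
    | one => exact one_mem _
    | mul a b ha hb iha ihb => exact mul_mem iha ihb
    | inv a ha iha => exact inv_mem iha
  · have h' : π (φ ⟨_, (hmem g.1).mp g.2⟩) x = x := h
    rwa [hφ] at h'

/-- The whole space as a frame. -/
noncomputable def stdFrame {Q : QuadraticForm F (ι → F)} (hQ : (polarBilin Q).Nondegenerate) (n : ℕ)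
    (ep fp : Fin n → ι → F) (hh : ∀ i, Hyp Q (ep i) (fp i))
    (ho : ∀ i j, i ≠ j → Two Q (ep i) (fp i) (ep j) (fp j))
    (han : ∀ x, (∀ i, polar Q (ep i) x = 0 ∧ polar Q (fp i) x = 0) → Q x = 0 → x = 0) : Frame Q where
  H := ⊤
  m := n
  e i := if h : i < n then ep ⟨i, h⟩ else 0
  f i := if h : i < n then fp ⟨i, h⟩ else 0
  nd x _ hx := hQ.1 x fun y => hx y Submodule.mem_top
  mem _ _ := ⟨Submodule.mem_top, Submodule.mem_top⟩
  hyp i hi := by rw [dif_pos hi, dif_pos hi]; exact hh _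
  orth i hi j hj hij := by
    rw [dif_pos hi, dif_pos hi, dif_pos hj, dif_pos hj]
    exact ho _ _ fun h => hij (congrArg Fin.val h)
  aniso x _ hx hq := han x (fun i => by have := hx i i.2; rwa [dif_pos i.2, dif_pos i.2] at this) hq

theorem polar_single (M : Matrix ι ι F) (p : ι) (x : ι → F) :
    polar (matQuad M) (Pi.single p 1) x = ((M + Mᵀ) *ᵥ x) p := by
  rw [polar_matQuad, single_dotProduct, one_mul]

variable (F) in
/-- The pairs of the standard forms. -/
def pairFn {κ : Type} [DecidableEq κ] {n : ℕ} (inj : Fin n → κ) (i : Fin n) : κ → F :=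
  Pi.single (inj i) 1

theorem plus_apply {n : ℕ} (i : Fin n) (x : Fin n ⊕ Fin n → F) :
    polar (matQuad (plusMat n F)) (pairFn F Sum.inl i) x = x (.inr i) ∧
      polar (matQuad (plusMat n F)) (pairFn F Sum.inr i) x = x (.inl i) := by
  constructor <;> rw [pairFn, polar_single] <;>
    simp [plusMat, fromBlocks_transpose, fromBlocks_add, fromBlocks_mulVec]

theorem odd_apply {n : ℕ} (i : Fin n) (x : Unit ⊕ (Fin n ⊕ Fin n) → F) :
    polar (matQuad (oddMat n F)) (pairFn F (Sum.inr ∘ Sum.inl) i) x = x (.inr (.inr i)) ∧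
      polar (matQuad (oddMat n F)) (pairFn F (Sum.inr ∘ Sum.inr) i) x = x (.inr (.inl i)) := by
  constructor <;> rw [pairFn, polar_single] <;>
    simp [oddMat, plusMat, fromBlocks_transpose, fromBlocks_add, fromBlocks_mulVec]

theorem minus_apply {n : ℕ} (a b : F) (i : Fin n) (x : (Fin n ⊕ Fin n) ⊕ Fin 2 → F) :
    polar (matQuad (minusMat n F a b)) (pairFn F (Sum.inl ∘ Sum.inl) i) x = x (.inl (.inr i)) ∧
      polar (matQuad (minusMat n F a b)) (pairFn F (Sum.inl ∘ Sum.inr) i) x = x (.inl (.inl i)) := by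
  constructor <;> rw [pairFn, polar_single] <;>
    simp [minusMat, plusMat, fromBlocks_transpose, fromBlocks_add, fromBlocks_mulVec]

theorem gram_plus_ne (n : ℕ) : (plusMat n F + (plusMat n F)ᵀ).det ≠ 0 := by
  rw [det_plus_gram]; exact pow_ne_zero _ (neg_ne_zero.mpr one_ne_zero)

/-- A frame from coordinates. -/
theorem exists_frame_of {Q : QuadraticForm F (ι → F)} (hQ : (polarBilin Q).Nondegenerate) {n : ℕ}
    (l r : Fin n → ι) (hl : Function.Injective l) (hr : Function.Injective r) (hlr : ∀ i j, l i ≠ r j)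
    (hQl : ∀ i, Q (pairFn F l i) = 0) (hQr : ∀ i, Q (pairFn F r i) = 0)
    (hp : ∀ i x, polar Q (pairFn F l i) x = x (r i) ∧ polar Q (pairFn F r i) x = x (l i))
    (han : ∀ x : ι → F, (∀ i, x (l i) = 0 ∧ x (r i) = 0) → Q x = 0 → x = 0) :
    ∃ Φ : Frame Q, Φ.H = ⊤ ∧ Φ.m = n ∧
      2 * n + Module.finrank F (Φ.lev Φ.m) = Fintype.card ι ∧
      ∀ x : ι → F, (∀ i, x (l i) = 0 ∧ x (r i) = 0) → x ∈ Φ.lev Φ.m := by
  have hh : ∀ i, Hyp Q (pairFn F l i) (pairFn F r i) := fun i =>
    ⟨hQl i, hQr i, by rw [(hp i _).1]; simp [pairFn]⟩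
  have ho : ∀ i j, i ≠ j → Two Q (pairFn F l i) (pairFn F r i) (pairFn F l j) (pairFn F r j) :=
    fun i j hij => by
      refine ⟨hh i, hh j, ?_, ?_, ?_, ?_⟩
      · rw [(hp i _).1]; exact Pi.single_eq_of_ne (fun h => hlr j i h.symm) 1
      · rw [(hp i _).1]; exact Pi.single_eq_of_ne (fun h => hij (hr h)) 1
      · rw [(hp i _).2]; exact Pi.single_eq_of_ne (fun h => hij (hl h)) 1
      · rw [(hp i _).2]; exact Pi.single_eq_of_ne (hlr i j) 1
  let Φ := stdFrame hQ n (pairFn F l) (pairFn F r) hh ho fun x hx hq =>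
    han x (fun i => ⟨(hp i x).2.symm.trans (hx i).2, (hp i x).1.symm.trans (hx i).1⟩) hq
  refine ⟨Φ, rfl, rfl, ?_, fun x hx => (Φ.mem_lev _).mpr ⟨Submodule.mem_top, fun i hi => ?_⟩⟩
  · have h := Φ.finrank_lev (Nat.zero_le Φ.m)
    rw [Φ.lev_zero, show Φ.H = ⊤ from rfl, finrank_top, Module.finrank_fintype_fun_eq_card,
      Nat.sub_zero] at h
    exact h.symm
  · show polar Q (if h : i < n then _ else _) x = 0 ∧ polar Q (if h : i < n then _ else _) x = 0
    have hi' : i < n := hi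
    rw [dif_pos hi', dif_pos hi', (hp _ x).1, (hp _ x).2]
    exact ⟨(hx _).2, (hx _).1⟩

/-- The frame of the plus type form. -/
theorem exists_frame_plus (n : ℕ) :
    ∃ Φ : Frame (matQuad (plusMat n F)), Φ.H = ⊤ ∧ Φ.m = n ∧
      Module.finrank F (Φ.lev Φ.m) = 0 := by
  obtain ⟨Φ, h1, h2, h3, -⟩ := exists_frame_of (nondegenerate_matQuad (gram_plus_ne (F := F) n))
    Sum.inl Sum.inr Sum.inl_injective Sum.inr_injective (fun _ _ h => Sum.inl_ne_inr h)
    (fun i => by rw [coe_matQuad_plus]; simp [Cfsg.quadFormPlus, pairFn])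
    (fun i => by rw [coe_matQuad_plus]; simp [Cfsg.quadFormPlus, pairFn])
    (fun i x => plus_apply i x) (fun x hx _ => by
      funext z; rcases z with i | i
      · exact (hx i).1
      · exact (hx i).2)
  refine ⟨Φ, h1, h2, ?_⟩
  rw [Fintype.card_sum, Fintype.card_fin] at h3
  omega

/-- The frame of the odd dimensional form. -/
theorem exists_frame_odd (n : ℕ) (h2 : (2 : F) ≠ 0) :
    ∃ Φ : Frame (matQuad (oddMat n F)), Φ.H = ⊤ ∧ Φ.m = n ∧
      Module.finrank F (Φ.lev Φ.m) = 1 := by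
  have hd : (oddMat n F + (oddMat n F)ᵀ).det ≠ 0 := by
    rw [det_odd_gram]; exact mul_ne_zero h2 (pow_ne_zero _ (neg_ne_zero.mpr one_ne_zero))
  obtain ⟨Φ, h1, h2', h3, -⟩ := exists_frame_of (nondegenerate_matQuad hd)
    (Sum.inr ∘ Sum.inl) (Sum.inr ∘ Sum.inr) (Sum.inr_injective.comp Sum.inl_injective)
    (Sum.inr_injective.comp Sum.inr_injective) (fun _ _ h => Sum.inl_ne_inr (Sum.inr_injective h))
    (fun i => by rw [coe_matQuad_odd]; simp [Cfsg.quadFormOdd, pairFn])
    (fun i => by rw [coe_matQuad_odd]; simp [Cfsg.quadFormOdd, pairFn])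
    (fun i x => odd_apply i x) (fun x hx hq => by
      rw [coe_matQuad_odd] at hq
      have hs : ∀ i : Fin n, x (.inr (.inl i)) * x (.inr (.inr i)) = 0 := fun i => by
        rw [show x (.inr (.inl i)) = 0 from (hx i).1, zero_mul]
      simp [Cfsg.quadFormOdd, hs] at hq
      funext z; rcases z with u | i | i
      · exact hq
      · exact (hx i).1
      · exact (hx i).2)
  refine ⟨Φ, h1, h2', ?_⟩
  rw [Fintype.card_sum, Fintype.card_sum, Fintype.card_fin, Fintype.card_unit] at h3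
  omega

/-- Every non-zero norm of the quadratic extension is taken at least `q + 1` times. -/
theorem card_binary_ge {a b : F}
    (hab : ∀ z₁ z₂ : F, z₁ ^ 2 + a * z₁ * z₂ + b * z₂ ^ 2 = 0 → z₁ = 0 ∧ z₂ = 0) {c : F} (hc : c ≠ 0) :
    Fintype.card F + 1 ≤ Nat.card {z : F × F // z.1 ^ 2 + a * z.1 * z.2 + b * z.2 ^ 2 = c} := by
  classical
  let N : F × F → F := fun z => z.1 ^ 2 + a * z.1 * z.2 + b * z.2 ^ 2
  let mul : F × F → F × F → F × F := fun u v =>
    (u.1 * v.1 - b * u.2 * v.2, u.1 * v.2 + u.2 * v.1 + a * u.2 * v.2)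
  have hN : ∀ u v, N (mul u v) = N u * N v := fun u v => by simp only [N, mul]; ring
  have hsurj : ∀ ν : F, ∃ u, N u = ν := fun ν => by
    by_cases h2 : (2 : F) = 0
    · haveI := CharTwo.of_one_ne_zero_of_two_eq_zero (one_ne_zero (α := F)) h2
      obtain ⟨s, hs⟩ := FiniteField.isSquare_of_char_two (ringChar.eq F 2) ν
      exact ⟨(s, 0), by simp only [N]; rw [hs]; ring⟩
    · obtain ⟨x, y, h⟩ := CfsgLib.Geometry.exists_binary_value hab (ν := ν) h2
      exact ⟨(x, y), by simp only [N]; rw [← h]; ring⟩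
  have hinj : ∀ u, N u ≠ 0 → Function.Injective (mul u) := fun u hu v w h => by
    have h0 : N u * N (v.1 - w.1, v.2 - w.2) = 0 := by
      rw [← hN]
      have e1 := congrArg Prod.fst h
      have e2 := congrArg Prod.snd h
      simp only [mul] at e1 e2 ⊢
      simp only [N]
      rw [show u.1 * (v.1 - w.1) - b * u.2 * (v.2 - w.2) = 0 by linear_combination e1,
        show u.1 * (v.2 - w.2) + u.2 * (v.1 - w.1) + a * u.2 * (v.2 - w.2) = 0 by linear_combination e2]
      ring
    obtain ⟨d1, d2⟩ := hab _ _ ((mul_eq_zero.mp h0).resolve_left hu)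
    exact Prod.ext (sub_eq_zero.mp d1) (sub_eq_zero.mp d2)
  let A : F → Finset (F × F) := fun ν => Finset.univ.filter fun z => N z = ν
  have hle : ∀ ν, ν ≠ 0 → (A ν).card ≤ (A c).card := fun ν hν => by
    obtain ⟨u, hu⟩ := hsurj (c / ν)
    refine Finset.card_le_card_of_injOn (mul u) (fun z hz => ?_)
      (hinj u (by rw [hu]; exact div_ne_zero hc hν)).injOn
    simp only [A, Finset.coe_filter, Finset.mem_univ, true_and, Set.mem_setOf_eq] at hz ⊢
    rw [hN, hu, hz, div_mul_cancel₀ _ hν]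
  have hA0 : A 0 = {0} := by
    ext z
    simp only [A, Finset.mem_filter, Finset.mem_univ, true_and, Finset.mem_singleton]
    constructor
    · intro h; obtain ⟨h1, h2⟩ := hab _ _ h; exact Prod.ext h1 h2
    · rintro rfl; simp [N]
  have htot : Fintype.card F * Fintype.card F = ∑ ν : F, (A ν).card := by
    have h := Finset.card_eq_sum_card_fiberwise (f := N) (s := Finset.univ) (t := Finset.univ)
      (fun z _ => Finset.mem_univ _)
    rw [Finset.card_univ, Fintype.card_prod] at h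
    exact h
  rw [← Finset.add_sum_erase _ _ (Finset.mem_univ (0 : F)), hA0, Finset.card_singleton] at htot
  have hsum : ∑ ν ∈ Finset.univ.erase (0 : F), (A ν).card ≤ (Fintype.card F - 1) * (A c).card := by
    have := Finset.sum_le_card_nsmul (Finset.univ.erase (0 : F)) (fun ν => (A ν).card) _
      fun ν hν => hle ν (Finset.ne_of_mem_erase hν)
    rwa [Finset.card_erase_of_mem (Finset.mem_univ _), Finset.card_univ, smul_eq_mul] at this
  have hcard : Nat.card {z : F × F // z.1 ^ 2 + a * z.1 * z.2 + b * z.2 ^ 2 = c} = (A c).card := by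
    rw [Nat.card_eq_fintype_card, Fintype.card_subtype]
  rw [hcard]
  have hq : 2 ≤ Fintype.card F := Fintype.one_lt_card
  by_contra hlt
  push Not at hlt
  have := Nat.mul_le_mul_left (Fintype.card F - 1) (Nat.lt_succ_iff.mp hlt)
  obtain ⟨p, hp⟩ : ∃ p, Fintype.card F = p + 1 := ⟨Fintype.card F - 1, by omega⟩
  rw [hp] at htot hsum this
  simp only [Nat.add_sub_cancel] at htot hsum this
  nlinarith

/-- The frame of the minus type form. -/
theorem exists_frame_minus (n : ℕ) {a b : F}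
    (hab : ∀ z₁ z₂ : F, z₁ ^ 2 + a * z₁ * z₂ + b * z₂ ^ 2 = 0 → z₁ = 0 ∧ z₂ = 0) :
    ∃ Φ : Frame (matQuad (minusMat n F a b)), Φ.H = ⊤ ∧ Φ.m = n ∧
      Module.finrank F (Φ.lev Φ.m) = 2 ∧
      ∀ c : F, c ≠ 0 → Fintype.card F + 1 ≤ Φ.cnt Φ.m c := by
  have hd : (minusMat n F a b + (minusMat n F a b)ᵀ).det ≠ 0 := by
    rw [det_minus_gram]
    exact mul_ne_zero (pow_ne_zero _ (neg_ne_zero.mpr one_ne_zero)) (binAniso_discr hab).1
  obtain ⟨Φ, h1, h2, h3, h4⟩ := exists_frame_of (nondegenerate_matQuad hd)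
    (Sum.inl ∘ Sum.inl) (Sum.inl ∘ Sum.inr) (Sum.inl_injective.comp Sum.inl_injective)
    (Sum.inl_injective.comp Sum.inr_injective) (fun _ _ h => Sum.inl_ne_inr (Sum.inl_injective h))
    (fun i => by rw [coe_matQuad_minus]; simp [Cfsg.quadFormMinus, pairFn])
    (fun i => by rw [coe_matQuad_minus]; simp [Cfsg.quadFormMinus, pairFn])
    (fun i x => minus_apply a b i x) (fun x hx hq => by
      rw [coe_matQuad_minus] at hq
      have hs : ∀ i : Fin n, x (.inl (.inl i)) * x (.inl (.inr i)) = 0 := fun i => by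
        rw [show x (.inl (.inl i)) = 0 from (hx i).1, zero_mul]
      simp only [Cfsg.quadFormMinus, hs, Finset.sum_const_zero, zero_add] at hq
      obtain ⟨e0, e1⟩ := hab _ _ hq
      funext z; rcases z with (i | i) | i
      · exact (hx i).1
      · exact (hx i).2
      · fin_cases i
        · exact e0
        · exact e1)
  refine ⟨Φ, h1, h2, ?_, fun c hc => (card_binary_ge hab hc).trans ?_⟩
  · rw [Fintype.card_sum, Fintype.card_sum, Fintype.card_fin, Fintype.card_fin] at h3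
    omega
  let j : F × F → ((Fin n ⊕ Fin n) ⊕ Fin 2 → F) := fun z => Sum.elim (fun _ => 0) ![z.1, z.2]
  have hj : ∀ z, matQuad (minusMat n F a b) (j z) = z.1 ^ 2 + a * z.1 * z.2 + b * z.2 ^ 2 := fun z => by
    rw [coe_matQuad_minus]; simp [Cfsg.quadFormMinus, j]
  refine Nat.card_le_card_of_injective
    (fun z => ⟨⟨j z.1, h4 _ fun i => ⟨rfl, rfl⟩⟩, (hj z.1).trans z.2⟩) fun u v h => ?_
  have h5 : j u.1 = j v.1 := congrArg Subtype.val (congrArg Subtype.val h)
  exact Subtype.ext (Prod.ext (congrFun h5 (Sum.inr 0)) (congrFun h5 (Sum.inr 1)))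

end CfsgLib.KnownA.OrthMinDeg
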