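import Cfsg.Agent.Lib.KnownA.OrthMinDeg.Rel

/-!
# The torus on the last fixed space: the case of a non-trivial character
-/

set_option autoImplicit false

namespace CfsgLib.KnownA.OrthMinDeg

open QuadraticMap CfsgLib.Geometry CfsgLib.KnownA.CentralChar

section Elements

variable {F M : Type*} [Field F] [AddCommGroup M] [Module F M] {Q : QuadraticForm F M}
  {e f e' f' e'' f'' : M}

theorem rA_conj (g : siegelGroup Q) (u x : M) (s : F) :
    g * rA Q u x s * g⁻¹ = rA Q (g.1 u) (g.1 x) s := by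
  rw [rA, sg_conj, map_smul, rA]

theorem rN_conj (g : siegelGroup Q) (e f e' f' : M) :
    g * rN Q e f e' f' * g⁻¹ = rN Q (g.1 e) (g.1 f) (g.1 e') (g.1 f') := by
  simp only [rN, ← rA_conj]; group

theorem rH_conj (g : siegelGroup Q) (e f e' f' : M) (a : F) :
    g * rH Q e f e' f' a * g⁻¹ = rH Q (g.1 e) (g.1 f) (g.1 e') (g.1 f') a := by
  simp only [rH, ← rN_conj, ← rA_conj]; group

theorem Two.scale (hd : Two Q e f e' f') {c d : F} (hc : c ≠ 0) (hd0 : d ≠ 0) :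
    Two Q (c • e) (c⁻¹ • f) (d • e') (d⁻¹ • f') where
  h := ⟨by rw [map_smul', hd.h.qe, mul_zero], by rw [map_smul', hd.h.qf, mul_zero],
    by rw [polar_smul_left', polar_smul_right', hd.h.pol, mul_one, mul_inv_cancel₀ hc]⟩
  h' := ⟨by rw [map_smul', hd.h'.qe, mul_zero], by rw [map_smul', hd.h'.qf, mul_zero],
    by rw [polar_smul_left', polar_smul_right', hd.h'.pol, mul_one, mul_inv_cancel₀ hd0]⟩
  ee' := by rw [polar_smul_left', polar_smul_right', hd.ee', mul_zero, mul_zero]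
  ef' := by rw [polar_smul_left', polar_smul_right', hd.ef', mul_zero, mul_zero]
  fe' := by rw [polar_smul_left', polar_smul_right', hd.fe', mul_zero, mul_zero]
  ff' := by rw [polar_smul_left', polar_smul_right', hd.ff', mul_zero, mul_zero]

theorem rH_scale (hd : Two Q e f e' f') {c d a : F} (hc : c ≠ 0) (hd0 : d ≠ 0) (ha : a ≠ 0) :
    rH Q (c • e) (c⁻¹ • f) (d • e') (d⁻¹ • f') a = rH Q e f e' f' a := by
  refine ext' fun v => ?_
  rw [rH_apply (hd.scale hc hd0) ha, rH_apply hd ha]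
  simp only [polar_smul_right']
  match_scalars <;> field_simp

theorem rH_reverse (hd : Two Q e f e' f') {a : F} (ha : a ≠ 0) :
    rH Q e' f' e f a = rH Q e f e' f' a⁻¹ := by
  refine ext' fun v => ?_
  rw [rH_apply hd.comm ha, rH_apply hd (inv_ne_zero ha), inv_inv]
  module

theorem rH_compose (hd : Two Q e f e' f') (hd' : Two Q e' f' e'' f'') (hd'' : Two Q e f e'' f'')
    {a : F} (ha : a ≠ 0) :
    rH Q e f e'' f'' a = rH Q e f e' f' a * rH Q e' f' e'' f'' a := by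
  refine ext' fun v => ?_
  rw [mul_apply', rH_apply hd' ha, rH_apply hd'' ha]
  simp only [map_add, map_smul, rH_e' hd ha, rH_f' hd ha, rH_apply hd ha v,
    rH_perp hd ha hd''.ee' hd''.fe' hd'.ee' hd'.fe', rH_perp hd ha hd''.ef' hd''.ff' hd'.ef' hd'.ff']
  match_scalars <;> field_simp <;> ring

end Elements

variable {F M : Type*} [Field F] [Fintype F] [AddCommGroup M] [Module F M] [Finite M]
  [FiniteDimensional F M]
  {Q : QuadraticForm F M} {V : Type*} [AddCommGroup V] [Module ℂ V] [FiniteDimensional ℂ V]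
  {ρ : Representation ℂ (siegelGroup Q) V}

namespace Frame

/-- The coroot of the `i`-th root. -/
noncomputable def h (Φ : Frame Q) (i : ℕ) (a : F) : siegelGroup Q :=
  rH Q (Φ.e i) (Φ.f i) (Φ.e (i + 1)) (Φ.f (i + 1)) a

/-- The Weyl element of the `i`-th root. -/
noncomputable def n (Φ : Frame Q) (i : ℕ) : siegelGroup Q :=
  rN Q (Φ.e i) (Φ.f i) (Φ.e (i + 1)) (Φ.f (i + 1))

/-- The Hecke operator of the `i`-th root. -/
noncomputable def T (Φ : Frame Q) (ρ : Representation ℂ (siegelGroup Q) V) (i : ℕ) : V →ₗ[ℂ] V :=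
  Top ρ (Φ.e i) (Φ.f i) (Φ.e (i + 1)) (Φ.f (i + 1))

variable (Φ : Frame Q)

theorem two {i : ℕ} (hi : i + 1 < Φ.m) : Two Q (Φ.e i) (Φ.f i) (Φ.e (i + 1)) (Φ.f (i + 1)) :=
  Φ.orth i (by omega) (i + 1) hi (by omega)

theorem h_diag {i : ℕ} (hi : i + 1 < Φ.m) {a : F} (ha : a ≠ 0) : Diag Φ (Φ.h i a) := by
  have hd := Φ.two hi
  refine ⟨rH_mem (Φ.mem i (by omega)).1 (Φ.mem i (by omega)).2 (Φ.mem _ hi).1 (Φ.mem _ hi).2 a,
    fun k hk => ?_⟩
  by_cases h1 : k = i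
  · subst h1; exact ⟨a, ha, rH_e hd ha, rH_f hd ha⟩
  by_cases h2 : k = i + 1
  · subst h2; exact ⟨a⁻¹, inv_ne_zero ha, rH_e' hd ha, by rw [inv_inv]; exact rH_f' hd ha⟩
  obtain ⟨⟨p1, p2, p3, p4⟩, q1, q2, q3, q4⟩ := Mod.root_perp (Φ := Φ) hi hk h1 h2
  exact ⟨1, one_ne_zero, by rw [one_smul]; exact rH_perp hd ha p1 p2 p3 p4,
    by rw [inv_one, one_smul]; exact rH_perp hd ha q1 q2 q3 q4⟩

theorem diag_h_comm {g : siegelGroup Q} (hg : Diag Φ g) {i : ℕ} (hi : i + 1 < Φ.m) {a : F}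
    (ha : a ≠ 0) : Commute g (Φ.h i a) := by
  obtain ⟨c, hc, he, hf⟩ := hg.2 i (by omega)
  obtain ⟨d, hd0, he', hf'⟩ := hg.2 (i + 1) hi
  have h1 := rH_conj g (Φ.e i) (Φ.f i) (Φ.e (i + 1)) (Φ.f (i + 1)) a
  rw [he, hf, he', hf', rH_scale (Φ.two hi) hc hd0 ha] at h1
  exact mul_inv_eq_iff_eq_mul.mp h1

/-- Conjugation of the coroots by a Weyl element. -/
theorem n_inv_h {i k : ℕ} (hi : i + 1 < Φ.m) (hk : k + 1 < Φ.m) {a : F} (ha : a ≠ 0) :
    Φ.h k a * Φ.n i = Φ.n i *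
      (if k = i then Φ.h i a⁻¹ else if k = i + 1 then Φ.h i a * Φ.h k a
        else if k + 1 = i then Φ.h k a * Φ.h i a else Φ.h k a) := by
  have hd := Φ.two hi
  have hperp : ∀ j, j < Φ.m → j ≠ i → j ≠ i + 1 →
      ((Φ.n i)⁻¹).1 (Φ.e j) = Φ.e j ∧ ((Φ.n i)⁻¹).1 (Φ.f j) = Φ.f j := fun j hj h1 h2 => by
    obtain ⟨⟨p1, p2, p3, p4⟩, q1, q2, q3, q4⟩ := Mod.root_perp (Φ := Φ) hi hj h1 h2
    exact ⟨rN_inv_perp hd p1 p2 p3 p4, rN_inv_perp hd q1 q2 q3 q4⟩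
  have he := rN_inv_e hd
  have hf := rN_inv_f hd
  have he' := rN_inv_e' hd
  have hf' := rN_inv_f' hd
  have key : ∀ x, (Φ.n i)⁻¹ * Φ.h k a * ((Φ.n i)⁻¹)⁻¹ = x → Φ.h k a * Φ.n i = Φ.n i * x := fun x hx => by
    rw [← hx]; group
  apply key
  rw [Frame.h, rH_conj]
  split_ifs with h1 h2 h3
  · subst h1
    simp only [Frame.n] at *
    rw [he, hf, he', hf', show -Φ.e (k + 1) = (-1 : F) • Φ.e (k + 1) by module,
      show -Φ.f (k + 1) = (-1 : F)⁻¹ • Φ.f (k + 1) by rw [inv_neg, inv_one]; module]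
    have h5 := rH_scale hd.comm (c := -1) (d := 1) (neg_ne_zero.mpr one_ne_zero) one_ne_zero ha
    rw [one_smul, inv_one, one_smul] at h5
    rw [h5, rH_reverse hd ha, Frame.h]
  · subst h2
    obtain ⟨k1, k2⟩ := hperp (i + 1 + 1) hk (by omega) (by omega)
    simp only [Frame.n] at *
    rw [he', hf', k1, k2, Frame.h,
      rH_compose hd (Φ.two hk) (Φ.orth i (by omega) (i + 1 + 1) hk (by omega)) ha]
  · subst h3
    obtain ⟨k1, k2⟩ := hperp k (by omega) (by omega) (by omega)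
    simp only [Frame.n] at *
    have h13 := Φ.orth k (by omega) (k + 1 + 1) hi (by omega)
    rw [k1, k2, he, hf, show -Φ.e (k + 1 + 1) = (-1 : F) • Φ.e (k + 1 + 1) by module,
      show -Φ.f (k + 1 + 1) = (-1 : F)⁻¹ • Φ.f (k + 1 + 1) by rw [inv_neg, inv_one]; module]
    have h5 := rH_scale h13 (c := 1) (d := -1) one_ne_zero (neg_ne_zero.mpr one_ne_zero) ha
    rw [one_smul, inv_one, one_smul] at h5
    rw [h5, rH_compose (Φ.two hk) hd h13 ha, Frame.h]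
  · obtain ⟨k1, k2⟩ := hperp k (by omega) (by omega) (by omega)
    obtain ⟨k3, k4⟩ := hperp (k + 1) hk (by omega) (by omega)
    rw [k1, k2, k3, k4]

/-- The coroots normalise every root group. -/
theorem diag_rA {g : siegelGroup Q} (hg : Diag Φ g) {i : ℕ} (hi : i + 1 < Φ.m) :
    ∃ c : F, c ≠ 0 ∧ ∀ s, g * rA Q (Φ.e i) (Φ.f (i + 1)) s =
      rA Q (Φ.e i) (Φ.f (i + 1)) (c * s) * g := by
  obtain ⟨c, hc, he, -⟩ := hg.2 i (by omega)
  obtain ⟨d, hd0, -, hf'⟩ := hg.2 (i + 1) hi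
  refine ⟨c * d⁻¹, mul_ne_zero hc (inv_ne_zero hd0), fun s => ?_⟩
  rw [rA, sg_mul_comm, map_smul, he, hf', sg_smul_left (Φ.two hi).h.qe
    (by rw [polar_smul_right', polar_smul_right', (Φ.two hi).ef', mul_zero, mul_zero]), rA]
  congr 2
  simp only [smul_smul]
  congr 1
  ring

end Frame

/-- A joint eigenvector of the coroots in the last fixed space. -/
structure Eig (ρ : Representation ℂ (siegelGroup Q) V) (Φ : Frame Q) (X : Submodule ℂ V)
    (χ : ℕ → F → ℂ) (x : V) : Prop where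
  mem : x ∈ Cs ρ Φ X
  ne : x ≠ 0
  eig : ∀ k, k + 1 < Φ.m → ∀ a : F, a ≠ 0 → ρ (Φ.h k a) x = χ k a • x

/-- The character `χ` after applying the `i`-th reflection. -/
def refl' (χ : ℕ → F → ℂ) (i : ℕ) : ℕ → F → ℂ := fun k a =>
  if k = i then χ i a⁻¹ else if k = i + 1 ∨ k + 1 = i then χ i a * χ k a else χ k a

namespace Eig

variable {Φ : Frame Q} {X : Submodule ℂ V} {χ : ℕ → F → ℂ} {x : V}

theorem map_mul (h : Eig ρ Φ X χ x) {k : ℕ} (hk : k + 1 < Φ.m) {a b : F} (ha : a ≠ 0) (hb : b ≠ 0) :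
    χ k (a * b) = χ k a * χ k b := by
  have h1 := h.eig k hk _ (mul_ne_zero ha hb)
  rw [Frame.h, rH_mul (Φ.two hk) ha hb, rho_mul, ← Frame.h, ← Frame.h, h.eig k hk b hb,
    LinearMap.map_smul, h.eig k hk a ha, smul_smul] at h1
  exact (smul_left_injective ℂ h.ne h1).symm.trans (mul_comm _ _)

theorem map_one (h : Eig ρ Φ X χ x) {k : ℕ} (hk : k + 1 < Φ.m) : χ k 1 = 1 := by
  have h1 := h.eig k hk 1 one_ne_zero
  rw [Frame.h, rH_one (Φ.two hk), rho_one] at h1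
  have h2 : (1 : ℂ) • x = χ k 1 • x := by rw [one_smul]; exact h1
  exact (smul_left_injective ℂ h.ne h2).symm

theorem ne_zero (h : Eig ρ Φ X χ x) {k : ℕ} (hk : k + 1 < Φ.m) {a : F} (ha : a ≠ 0) : χ k a ≠ 0 := by
  intro h0
  have h1 := h.map_mul hk ha (inv_ne_zero ha)
  rw [mul_inv_cancel₀ ha, h.map_one hk, h0, zero_mul] at h1
  exact one_ne_zero h1

theorem eig_Top (h : Eig ρ Φ X χ x) {i k : ℕ} (hi : i + 1 < Φ.m) (hk : k + 1 < Φ.m) {a : F}
    (ha : a ≠ 0) : ρ (Φ.h k a) (Φ.T ρ i x) = refl' χ i k a • Φ.T ρ i x := by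
  obtain ⟨c, hc, hA⟩ := Φ.diag_rA (Φ.h_diag hk ha) hi
  rw [Frame.T, Top_conj (Φ.two hi) hc (Φ.n_inv_h hi hk ha) hA, ← LinearMap.map_smul]
  congr 1
  unfold refl'
  split_ifs with h1 h2 h3 h4 h5
  · exact h.eig i hi _ (inv_ne_zero ha)
  · rw [rho_mul, h.eig k hk a ha, LinearMap.map_smul, h.eig i hi a ha, smul_smul, mul_comm]
  all_goals first
    | (exfalso; omega)
    | (rw [rho_mul, h.eig i hi a ha, LinearMap.map_smul, h.eig k hk a ha, smul_smul])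
    | exact h.eig k hk a ha

theorem Top_ne (hM : Mod ρ Φ X) (h : Eig ρ Φ X χ x) {i : ℕ} (hi : i + 1 < Φ.m)
    (hne : ∃ a : F, a ≠ 0 ∧ χ i a ≠ 1) : Φ.T ρ i x ≠ 0 := by
  classical
  intro h0
  have h1 := Top_Top (Φ.two hi) (W := Cs ρ Φ X)
    (fun v hv s => hM.fix_e hv (by omega)
      (Submodule.smul_mem _ s ((Φ.pair_mem_lev (Nat.le_succ i) hi).2))
      (by rw [polar_smul_right', (Φ.two hi).ef', mul_zero]))
    (fun v hv a ha => diag_mem hM (Φ.h_diag hi ha) hv) h.mem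
  have hneg : ρ (rH Q (Φ.e i) (Φ.f i) (Φ.e (i + 1)) (Φ.f (i + 1)) (-1)) x = χ i (-1) • x :=
    h.eig i hi _ (neg_ne_zero.mpr one_ne_zero)
  have h0' : Top ρ (Φ.e i) (Φ.f i) (Φ.e (i + 1)) (Φ.f (i + 1)) x = 0 := h0
  simp only [hneg, h0', map_zero, smul_zero, LinearMap.map_smul, Finset.sum_const_zero, add_zero] at h1
  exact h.ne ((smul_eq_zero.mp h1.symm).resolve_left (h.ne_zero hi (neg_ne_zero.mpr one_ne_zero)))

theorem Top (hM : Mod ρ Φ X) (h : Eig ρ Φ X χ x) {i : ℕ} (hi : i + 1 < Φ.m)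
    (hne : ∃ a : F, a ≠ 0 ∧ χ i a ≠ 1) : Eig ρ Φ X (refl' χ i) (Φ.T ρ i x) :=
  ⟨hM.Top_mem h.mem hi, h.Top_ne hM hi hne, fun _ hk _ ha => h.eig_Top hi hk ha⟩

/-- Far roots are not both non-trivial. -/
theorem far (hM : Mod ρ Φ X) (h : Eig ρ Φ X χ x) {i j : ℕ} (hij : i + 2 ≤ j) (hj : j + 1 < Φ.m) :
    (∀ a : F, a ≠ 0 → χ i a = 1) ∨ ∀ a : F, a ≠ 0 → χ j a = 1 := by
  by_contra hc
  push Not at hc
  obtain ⟨⟨a, ha, hia⟩, b, hb, hjb⟩ := hc
  have hi : i + 1 < Φ.m := by omega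
  have hI : Indep Q (Φ.e i) (Φ.f i) (Φ.e (i + 1)) (Φ.f (i + 1)) (Φ.e j) (Φ.f j) (Φ.e (j + 1))
      (Φ.f (j + 1)) := Mod.indep_far hi hj (Or.inl hij)
  have hdi := Φ.two hi
  have hdj := Φ.two hj
  have hA : ∀ {k}, k + 1 < Φ.m → ∀ s, ρ (rA Q (Φ.e k) (Φ.f (k + 1)) s) x = x := fun hk s =>
    hM.fix_e h.mem (by omega) (Submodule.smul_mem _ s ((Φ.pair_mem_lev (Nat.le_succ _) hk).2))
      (by rw [polar_smul_right', (Φ.two hk).ef', mul_zero])
  have hzero := hM.far_zero h.mem hij hj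
  rw [← hI.Dop_Dop] at hzero
  obtain ⟨-, -, hh⟩ := hI.cons hdi hzero (hA hi)
  -- the coroot of `i` commutes with the operator of `j`
  obtain ⟨⟨p1, p2, p3, p4⟩, q1, q2, q3, q4⟩ :=
    Mod.root_perp (Φ := Φ) (k := j) hi (by omega) (by omega) (by omega)
  obtain ⟨⟨r1, r2, r3, r4⟩, s1, s2, s3, s4⟩ :=
    Mod.root_perp (Φ := Φ) (k := j + 1) hi hj (by omega) (by omega)
  have hw := hh a ha
  rw [Dop_comm (rH_perp hdi ha p1 p2 p3 p4) (rH_perp hdi ha q1 q2 q3 q4)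
    (rH_perp hdi ha r1 r2 r3 r4) (rH_perp hdi ha s1 s2 s3 s4), ← Frame.h, h.eig i hi a ha,
    LinearMap.map_smul, ← sub_eq_zero] at hw
  nth_rewrite 2 [← one_smul ℂ (Dop ρ _ _ _ _ x)] at hw
  rw [← sub_smul, smul_eq_zero] at hw
  have hD := hw.resolve_left (sub_ne_zero.mpr hia)
  have hfix := sl2_fixed hdj (hA hj) (sub_eq_zero.mp hD)
  have h2 := hfix.2.2 b hb
  rw [← Frame.h, h.eig j hj b hb] at h2
  exact hjb (smul_left_injective ℂ h.ne (by
    show χ j b • x = (1 : ℂ) • x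
    rw [h2, one_smul]))

end Eig

/-- Eigenvectors with different characters are independent. -/
theorem eig_card_le {Φ : Frame Q} {X : Submodule ℂ V} {ι : Type*} [Fintype ι] (χ : ι → ℕ → F → ℂ)
    (x : ι → V) (h : ∀ p, Eig ρ Φ X (χ p) (x p))
    (hsep : ∀ p p', p ≠ p' → ∃ k, k + 1 < Φ.m ∧ ∃ a : F, a ≠ 0 ∧ χ p k a ≠ χ p' k a) :
    Fintype.card ι ≤ Module.finrank ℂ (Cs ρ Φ X) := by
  classical
  have key : ∀ t : Finset ι, ∀ c : ι → ℂ, ∑ p ∈ t, c p • x p = 0 → ∀ p ∈ t, c p = 0 := by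
    intro t
    induction t using Finset.induction_on with
    | empty => simp
    | @insert p₀ t hp₀ ih =>
      intro c hc
      have h2 : ∀ p ∈ t, c p = 0 := by
        intro p hp
        obtain ⟨k, hk, a, ha, hne⟩ := hsep p p₀ (by rintro rfl; exact hp₀ hp)
        have h1 := congrArg (ρ (Φ.h k a)) hc
        rw [map_zero, map_sum, Finset.sum_congr rfl (g := fun l => (c l * χ l k a) • x l)
          fun l _ => by rw [LinearMap.map_smul, (h l).eig k hk a ha, smul_smul]] at h1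
        have h3 : ∑ l ∈ t, (c l * (χ l k a - χ p₀ k a)) • x l = 0 := by
          have e : ∑ l ∈ insert p₀ t, (c l * (χ l k a - χ p₀ k a)) • x l = 0 := by
            calc ∑ l ∈ insert p₀ t, (c l * (χ l k a - χ p₀ k a)) • x l
                = ∑ l ∈ insert p₀ t, ((c l * χ l k a) • x l - χ p₀ k a • (c l • x l)) :=
                  Finset.sum_congr rfl fun l _ => by module
              _ = 0 := by rw [Finset.sum_sub_distrib, h1, ← Finset.smul_sum, hc, smul_zero, sub_zero]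
          rw [Finset.sum_insert hp₀, sub_self, mul_zero, zero_smul, zero_add] at e
          exact e
        exact (mul_eq_zero.mp (ih _ h3 p hp)).resolve_right (sub_ne_zero.mpr hne)
      intro p hp
      rcases Finset.mem_insert.mp hp with rfl | hp
      · rw [Finset.sum_insert hp₀, Finset.sum_eq_zero (fun l hl => by rw [h2 l hl, zero_smul]),
          add_zero] at hc
        exact (smul_eq_zero.mp hc).resolve_right (h _).ne
      · exact h2 p hp
  have hli : LinearIndependent ℂ (fun p => (⟨x p, (h p).mem⟩ : Cs ρ Φ X)) :=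
    Fintype.linearIndependent_iff.mpr fun c hc p => key Finset.univ c (by
      have := congrArg (fun v : Cs ρ Φ X => (v : V)) hc
      simpa using this) p (Finset.mem_univ p)
  exact hli.fintype_card_le_finrank

/-- A joint eigenvector with a prescribed non-trivial coroot. -/
theorem exists_eig {Φ : Frame Q} {X : Submodule ℂ V} (hM : Mod ρ Φ X) {i : ℕ} (hi : i + 1 < Φ.m)
    {a : F} (ha : a ≠ 0) {y : V} (hy : y ∈ Cs ρ Φ X) (hne : ρ (Φ.h i a) y ≠ y) :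
    ∃ χ x, Eig ρ Φ X χ x ∧ ∃ a : F, a ≠ 0 ∧ χ i a ≠ 1 := by
  classical
  let z : ℕ → Additive Fˣ → siegelGroup Q := fun k u => Φ.h k ((Additive.toMul u : Fˣ) : F)
  have hu0 : ∀ u : Additive Fˣ, ((Additive.toMul u : Fˣ) : F) ≠ 0 := fun u =>
    (Additive.toMul u).ne_zero
  have hz : ∀ k, k + 1 < Φ.m → ∀ u v, z k (u + v) = z k u * z k v := fun k hk u v => by
    simp only [z, toMul_add, Units.val_mul]
    exact rH_mul (Φ.two hk) (hu0 u) (hu0 v)
  have hCst : ∀ k, k + 1 < Φ.m → ∀ u, Stable ρ (Cs ρ Φ X) (z k u) := fun k hk u v hv =>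
    diag_mem hM (Φ.h_diag hk (hu0 u)) hv
  have hcomm : ∀ k l, k + 1 < Φ.m → l + 1 < Φ.m → ∀ u v, z k u * z l v = z l v * z k u :=
    fun k l hk hl u v => Φ.diag_h_comm (Φ.h_diag hk (hu0 u)) hl (hu0 v)
  obtain ⟨ψ, hψ, hW⟩ := exists_char ρ (z i) (hz i hi) (Cs ρ Φ X) (hCst i hi) hy
    (a₀ := Additive.ofMul (Units.mk0 a ha)) hne
  set W0 := Cs ρ Φ X ⊓ space ρ (z i) ψ with hW0
  have step : ∀ N : ℕ, N + 1 ≤ Φ.m → ∃ W : Submodule ℂ V, W ≤ W0 ∧ W ≠ ⊥ ∧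
      (∀ k, k + 1 < Φ.m → ∀ u, Stable ρ W (z k u)) ∧
      ∀ k < N, ∃ φ : AddChar (Additive Fˣ) ℂ, W ≤ space ρ (z k) φ := by
    intro N
    induction N with
    | zero =>
      exact fun _ => ⟨W0, le_rfl, hW, fun k hk u =>
        stable_inf_space ρ (hCst k hk u) (fun v => hcomm i k hi hk v u), fun k hk => absurd hk (by omega)⟩
    | succ N ih =>
      intro hN
      obtain ⟨W, hW1, hW2, hW3, hW4⟩ := ih (by omega)
      obtain ⟨φ, hφ⟩ := exists_char_any ρ (z N) (hz N (by omega)) W (hW3 N (by omega)) hW2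
      refine ⟨W ⊓ space ρ (z N) φ, inf_le_left.trans hW1, hφ, fun k hk u =>
        stable_inf_space ρ (hW3 k hk u) (fun v => hcomm N k (by omega) hk v u), fun k hk => ?_⟩
      rcases Nat.lt_succ_iff_lt_or_eq.mp hk with hk | rfl
      · obtain ⟨φ', h'⟩ := hW4 k hk
        exact ⟨φ', inf_le_left.trans h'⟩
      · exact ⟨φ, inf_le_right⟩
  obtain ⟨W, hW1, hW2, -, hW4⟩ := step (Φ.m - 1) (by omega)
  obtain ⟨x, hx, hx0⟩ := Submodule.exists_mem_ne_zero_of_ne_bot hW2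
  have hex : ∀ k (a : F), ∃ c : ℂ, k + 1 < Φ.m → a ≠ 0 → ρ (Φ.h k a) x = c • x := by
    intro k a
    by_cases hk : k + 1 < Φ.m
    · by_cases ha : a = 0
      · exact ⟨0, fun _ h => absurd ha h⟩
      obtain ⟨φ, hφ⟩ := hW4 k (by omega)
      exact ⟨φ (Additive.ofMul (Units.mk0 a ha)), fun _ _ => hφ hx (Additive.ofMul (Units.mk0 a ha))⟩
    · exact ⟨0, fun h => absurd h hk⟩
  choose χ hχ using hex
  refine ⟨χ, x, ⟨(hW1 hx).1, hx0, fun k hk a ha => hχ k a hk ha⟩, ?_⟩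
  obtain ⟨u, hu⟩ := DFunLike.ne_iff.mp hψ
  refine ⟨_, hu0 u, fun h1 => hu ?_⟩
  rw [AddChar.one_apply]
  refine smul_left_injective ℂ hx0 ?_
  show ψ u • x = (1 : ℂ) • x
  rw [← (hW1 hx).2 u, hχ i _ hi (hu0 u), h1]

end CfsgLib.KnownA.OrthMinDeg
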