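import Cfsg.Agent.Lib.KnownA.OrthMinDeg.Setting
import Cfsg.Agent.Lib.KnownA.OrthMinDeg.Proj
import Cfsg.Agent.Lib.Geometry.OmegaPerfect

/-!
# Weights of the radical of a singular point inside a subspace
-/

set_option autoImplicit false

namespace CfsgLib.KnownA.OrthMinDeg

open QuadraticMap CfsgLib.Geometry CfsgLib.KnownA.CentralChar

section Geometry

variable {F M : Type*} [Field F] [AddCommGroup M] [Module F M] {Q : QuadraticForm F M}

/-- The polar form is non-degenerate on `H`. -/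
def NDs (Q : QuadraticForm F M) (H : Submodule F M) : Prop :=
  ∀ x ∈ H, (∀ y ∈ H, polar Q x y = 0) → x = 0

/-- The vectors of `H` orthogonal to `e` and `f`. -/
noncomputable def perp2 (Q : QuadraticForm F M) (H : Submodule F M) (e f : M) : Submodule F M :=
  H ⊓ pairPerp Q e f

theorem mem_perp2 {H : Submodule F M} {e f x : M} :
    x ∈ perp2 Q H e f ↔ x ∈ H ∧ polar Q e x = 0 ∧ polar Q f x = 0 := Iff.rfl

theorem perp2_le {H : Submodule F M} {e f : M} : perp2 Q H e f ≤ H := inf_le_left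

/-- The group generated by the Siegel transformations inside `H`. -/
noncomputable def SH (Q : QuadraticForm F M) (H : Submodule F M) : Subgroup (siegelGroup Q) :=
  Subgroup.closure {g | ∃ e ∈ H, ∃ x ∈ H, g = sg Q e x}

theorem sg_mem_SH {H : Submodule F M} {e x : M} (he : e ∈ H) (hx : x ∈ H) : sg Q e x ∈ SH Q H :=
  Subgroup.subset_closure ⟨e, he, x, hx, rfl⟩

theorem SH_mono {H K : Submodule F M} (h : H ≤ K) : SH Q H ≤ SH Q K :=
  Subgroup.closure_mono fun _ ⟨e, he, x, hx, hg⟩ => ⟨e, h he, x, h hx, hg⟩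

theorem SH_props {H : Submodule F M} {g : siegelGroup Q} (hg : g ∈ SH Q H) :
    (∀ x ∈ H, g.1 x ∈ H) ∧ (∀ x ∈ H, (g⁻¹).1 x ∈ H) ∧
      ∀ v, (∀ y ∈ H, polar Q y v = 0) → g.1 v = v := by
  induction hg using Subgroup.closure_induction with
  | mem g hg =>
    obtain ⟨e, he, x, hx, rfl⟩ := hg
    by_cases h : Q e = 0 ∧ polar Q e x = 0
    · have hmem : ∀ x ∈ H, polar Q e x = 0 → ∀ v ∈ H, (sg Q e x).1 v ∈ H := fun x hx hex v hv => by
        rw [sg_apply h.1 hex]
        exact sub_mem (sub_mem (add_mem hv (H.smul_mem _ hx)) (H.smul_mem _ he)) (H.smul_mem _ he)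
      refine ⟨hmem x hx h.2, ?_, fun v hv => ?_⟩
      · rw [← sg_neg h.1 h.2]
        exact hmem (-x) (neg_mem hx) (by rw [polar_neg_right, h.2, neg_zero])
      · rw [sg_apply h.1 h.2, polar_comm Q v e, hv e he, polar_comm Q v x, hv x hx]; module
    · rw [sg, dif_neg h, inv_one]
      exact ⟨fun _ h => h, fun _ h => h, fun _ _ => rfl⟩
  | one =>
    rw [inv_one]
    exact ⟨fun _ h => h, fun _ h => h, fun _ _ => rfl⟩
  | mul a b _ _ iha ihb =>
    refine ⟨fun x hx => iha.1 _ (ihb.1 x hx), fun x hx => ?_, fun v hv => ?_⟩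
    · rw [mul_inv_rev]; exact ihb.2.1 _ (iha.2.1 x hx)
    · rw [mul_apply', ihb.2.2 v hv, iha.2.2 v hv]
  | inv a _ iha =>
    refine ⟨iha.2.1, fun x hx => by rw [inv_inv]; exact iha.1 x hx, fun v hv => ?_⟩
    exact inv_apply_eq (iha.2.2 v hv)

theorem SH_map {H : Submodule F M} {g : siegelGroup Q} (hg : g ∈ SH Q H) {x : M} (hx : x ∈ H) :
    g.1 x ∈ H := (SH_props hg).1 x hx

theorem SH_fix {H : Submodule F M} {g : siegelGroup Q} (hg : g ∈ SH Q H) {v : M}
    (hv : ∀ y ∈ H, polar Q y v = 0) : g.1 v = v := (SH_props hg).2.2 v hv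

theorem decomp_mem {H : Submodule F M} {e f x : M} (h : Hyp Q e f) (he : e ∈ H) (hf : f ∈ H)
    (hx : x ∈ H) : x - polar Q x f • e - polar Q x e • f ∈ perp2 Q H e f := by
  refine mem_perp2.mpr ⟨sub_mem (sub_mem hx (H.smul_mem _ he)) (H.smul_mem _ hf), ?_, ?_⟩ <;>
    simp [polar_sub_right, polar_smul_right', h.ee, h.ff, h.pol, h.pol', polar_comm Q x e,
      polar_comm Q x f]

theorem NDs.perp2 {H : Submodule F M} (hH : NDs Q H) {e f : M} (h : Hyp Q e f) (he : e ∈ H)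
    (hf : f ∈ H) : NDs Q (OrthMinDeg.perp2 Q H e f) := by
  intro x hx hxy
  obtain ⟨hxH, hxe, hxf⟩ := mem_perp2.mp hx
  refine hH x hxH fun y hy => ?_
  have := hxy _ (decomp_mem h he hf hy)
  rwa [polar_sub_right, polar_sub_right, polar_smul_right', polar_smul_right', polar_comm Q x e, hxe,
    polar_comm Q x f, hxf, mul_zero, mul_zero, sub_zero, sub_zero] at this

theorem finrank_perp2_add [FiniteDimensional F M] {H : Submodule F M} {e f : M} (h : Hyp Q e f)
    (he : e ∈ H) (hf : f ∈ H) :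
    Module.finrank F H ≤ Module.finrank F (perp2 Q H e f) + 2 := by
  have h1 := finrank_pairPerp (Q := Q.comp H.subtype) (⟨e, he⟩ : H) ⟨f, hf⟩
  refine h1.trans ?_
  have h2 : Module.finrank F (pairPerp (Q.comp H.subtype) (⟨e, he⟩ : H) ⟨f, hf⟩) ≤
      Module.finrank F (perp2 Q H e f) := by
    refine LinearMap.finrank_le_finrank_of_injective
      (f := (H.subtype.comp (Submodule.subtype _)).codRestrict _ fun v => ?_) fun a b hab => ?_
    · exact mem_perp2.mpr ⟨v.1.2, v.2.1, v.2.2⟩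
    · have h3 := congrArg (fun t : perp2 Q H e f => (t : M)) hab
      exact Subtype.ext (Subtype.ext h3)
  omega

theorem nondeg_restrict [FiniteDimensional F M] {H : Submodule F M} (hH : NDs Q H) :
    (polarBilin (Q.comp H.subtype)).Nondegenerate := by
  have key : ∀ x : H, (∀ y : H, polar Q (x : M) (y : M) = 0) → x = 0 := fun x hx =>
    Subtype.ext (hH x x.2 fun y hy => hx ⟨y, hy⟩)
  refine ⟨fun x hx => key x fun y => hx y, fun y hy => key y fun x => ?_⟩
  rw [polar_comm]; exact hy x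

theorem exists_SH_of {H : Submodule F M} {s : H ≃ₗ[F] H} (hs : s ∈ siegelGroup (Q.comp H.subtype)) :
    ∃ g ∈ SH Q H, ∀ x : H, g.1 (x : M) = (s x : M) := by
  induction hs using Subgroup.closure_induction with
  | mem s hs =>
    obtain ⟨e, w, he, hw, rfl⟩ := hs
    refine ⟨sg Q e w, sg_mem_SH e.2 w.2, fun x => ?_⟩
    rw [sg_apply (e := (e : M)) (x := (w : M)) he hw, siegel_apply]
    rfl
  | one => exact ⟨1, one_mem _, fun _ => rfl⟩
  | mul a b _ _ iha ihb =>
    obtain ⟨g, hg, hga⟩ := iha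
    obtain ⟨g', hg', hgb⟩ := ihb
    exact ⟨g * g', mul_mem hg hg', fun x => by rw [mul_apply', hgb, hga]; rfl⟩
  | inv a _ iha =>
    obtain ⟨g, hg, hga⟩ := iha
    refine ⟨g⁻¹, inv_mem hg, fun x => inv_apply_eq ?_⟩
    rw [hga]
    exact congrArg Subtype.val (a.apply_symm_apply x)

variable [FiniteDimensional F M] [Finite F]

theorem trans_pair {H : Submodule F M} (hH : NDs Q H) (hn : 4 ≤ Module.finrank F H) {e f e' f' : M}
    (h : Hyp Q e f) (h' : Hyp Q e' f') (he : e ∈ H) (hf : f ∈ H) (he' : e' ∈ H) (hf' : f' ∈ H) :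
    ∃ g ∈ SH Q H, g.1 e = e' ∧ g.1 f = f' := by
  obtain ⟨s, hs, h1, h2⟩ := siegel_trans_pair (Q := Q.comp H.subtype) (nondeg_restrict hH) hn
    (e := ⟨e, he⟩) (f := ⟨f, hf⟩) (e' := ⟨e', he'⟩) (f' := ⟨f', hf'⟩) h.qe h.qf h'.qe h'.qf h.pol
    h'.pol
  obtain ⟨g, hg, hgs⟩ := exists_SH_of hs
  exact ⟨g, hg, (hgs ⟨e, he⟩).trans (congrArg Subtype.val h1),
    (hgs ⟨f, hf⟩).trans (congrArg Subtype.val h2)⟩

theorem trans_singular {H : Submodule F M} (hH : NDs Q H) (hn : 4 ≤ Module.finrank F H) {u u' : M}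
    (hu : u ∈ H) (hu' : u' ∈ H) (h0 : u ≠ 0) (h0' : u' ≠ 0) (hq : Q u = 0) (hq' : Q u' = 0) :
    ∃ g ∈ SH Q H, g.1 u = u' := by
  obtain ⟨s, hs, h1⟩ := siegel_trans_singular (Q := Q.comp H.subtype) (nondeg_restrict hH) hn
    (e := ⟨u, hu⟩) (z := ⟨u', hu'⟩) (fun h => h0 (congrArg Subtype.val h))
    (fun h => h0' (congrArg Subtype.val h)) hq hq'
  obtain ⟨g, hg, hgs⟩ := exists_SH_of hs
  exact ⟨g, hg, (hgs ⟨u, hu⟩).trans (congrArg Subtype.val h1)⟩

theorem trans_norm {H : Submodule F M} (hH : NDs Q H) (hn : 4 ≤ Module.finrank F H) {u u' : M}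
    (hu : u ∈ H) (hu' : u' ∈ H) (h0 : Q u ≠ 0) (hq : Q u' = Q u) :
    ∃ g ∈ SH Q H, g.1 u = u' := by
  obtain ⟨s, hs, h1⟩ := siegel_trans_norm (Q := Q.comp H.subtype) (nondeg_restrict hH) hn
    (u := ⟨u, hu⟩) (u' := ⟨u', hu'⟩) h0 hq
  obtain ⟨g, hg, hgs⟩ := exists_SH_of hs
  exact ⟨g, hg, (hgs ⟨u, hu⟩).trans (congrArg Subtype.val h1)⟩

/-- A singular partner inside `H`. -/
theorem exists_partner_in {H : Submodule F M} (hH : NDs Q H) (U : Submodule F M) (hU : U ≤ H) {e : M}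
    (he : e ∈ H) (heU : e ∉ U) (hq : Q e = 0) (hperp : ∀ u ∈ U, polar Q e u = 0) :
    ∃ f ∈ H, Hyp Q e f ∧ ∀ u ∈ U, polar Q f u = 0 := by
  obtain ⟨f, hf, hef, hfU⟩ := exists_partner (Q := Q.comp H.subtype) (nondeg_restrict hH)
    (U.comap H.subtype) (e := ⟨e, he⟩) heU hq fun u hu => hperp u hu
  exact ⟨f, f.2, ⟨hq, hf, hef⟩, fun u hu => hfU ⟨u, hU hu⟩ hu⟩

end Geometry

/-! ### Weight spaces -/

section Rep

variable {F M : Type*} [Field F] [Finite F] [AddCommGroup M] [Module F M] [Finite M]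
  {Q : QuadraticForm F M} {V : Type*} [AddCommGroup V] [Module ℂ V]
  (ρ : Representation ℂ (siegelGroup Q) V)

noncomputable scoped instance fintypeSubmodule (H : Submodule F M) : Fintype H := Fintype.ofFinite _

variable (F) in
theorem exists_addChar_ne_one : ∃ ψ : AddChar F ℂ, ψ ≠ 1 := by
  have := Fintype.ofFinite F
  obtain ⟨ψ, hψ⟩ := AddChar.exists_apply_ne_zero.mpr (one_ne_zero (α := F))
  exact ⟨ψ, fun h => hψ (by rw [h, AddChar.one_apply])⟩

variable (F) in
/-- A fixed non-trivial additive character. -/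
noncomputable def psi : AddChar F ℂ := (exists_addChar_ne_one F).choose

theorem psi_ne_one : psi F ≠ 1 := (exists_addChar_ne_one F).choose_spec

theorem eq_zero_of_psi {a : F} (h : ∀ t : F, psi F (t * a) = 1) : a = 0 := by
  by_contra ha
  refine psi_ne_one (F := F) (DFunLike.ext _ _ fun x => ?_)
  rw [AddChar.one_apply, ← div_mul_cancel₀ x ha]
  exact h _

/-- The character of `A` given by `d`. -/
noncomputable def wch (Q : QuadraticForm F M) (A : Submodule F M) (d : M) : AddChar A ℂ :=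
  (psi F).compAddMonoidHom ((polarBilin Q d).comp A.subtype).toAddMonoidHom

theorem wch_apply (A : Submodule F M) (d : M) (x : A) : wch Q A d x = psi F (polar Q d x) := rfl

theorem wch_injective {A : Submodule F M} (hA : NDs Q A) {d d' : M} (hd : d ∈ A) (hd' : d' ∈ A)
    (h : wch Q A d = wch Q A d') : d = d' := by
  refine sub_eq_zero.mp (hA _ (sub_mem hd hd') fun y hy => eq_zero_of_psi fun t => ?_)
  have h1 := DFunLike.congr_fun h ⟨t • y, A.smul_mem t hy⟩
  simp only [wch_apply] at h1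
  rw [← polar_smul_right', polar_sub_left, sub_eq_add_neg, AddChar.map_add_eq_mul, h1,
    ← AddChar.map_add_eq_mul, add_neg_cancel, AddChar.map_zero_eq_one]

theorem wch_zero (A : Submodule F M) : wch Q A 0 = 1 := by
  refine DFunLike.ext _ _ fun x => ?_
  rw [wch_apply, polar_zero_left, AddChar.map_zero_eq_one, AddChar.one_apply]

theorem exists_wch {A : Submodule F M} (hA : NDs Q A) (ψ : AddChar A ℂ) :
    ∃ d ∈ A, ψ = wch Q A d := by
  have hinj : Function.Injective fun d : A => wch Q A d := fun d d' h =>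
    Subtype.ext (wch_injective hA d.2 d'.2 h)
  obtain ⟨d, hd⟩ := ((Fintype.bijective_iff_injective_and_card _).mpr
    ⟨hinj, by rw [AddChar.card_eq]⟩).2 ψ
  exact ⟨d, d.2, hd.symm⟩

/-- The radical of `e`, parametrised by `A`. -/
noncomputable def zf (Q : QuadraticForm F M) (A : Submodule F M) (e : M) (x : A) : siegelGroup Q :=
  sg Q e x

theorem zf_add {H : Submodule F M} {e f : M} (he : Q e = 0) (x y : perp2 Q H e f) :
    zf Q _ e (x + y) = zf Q _ e x * zf Q _ e y :=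
  sg_add he (mem_perp2.mp x.2).2.1 (mem_perp2.mp y.2).2.1

/-- The weight space of `d`. -/
noncomputable def wsp (X : Submodule ℂ V) (H : Submodule F M) (e f d : M) : Submodule ℂ V :=
  X ⊓ space ρ (zf Q (perp2 Q H e f) e) (wch Q (perp2 Q H e f) d)

theorem mem_wsp {X : Submodule ℂ V} {H : Submodule F M} {e f d : M} {v : V} :
    v ∈ wsp ρ X H e f d ↔ v ∈ X ∧
      ∀ x ∈ perp2 Q H e f, ρ (sg Q e x) v = psi F (polar Q d x) • v :=
  ⟨fun h => ⟨h.1, fun x hx => h.2 ⟨x, hx⟩⟩, fun h => ⟨h.1, fun x => h.2 x x.2⟩⟩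

/-- The projection onto a weight space. -/
noncomputable def wproj (H : Submodule F M) (e f d : M) : V →ₗ[ℂ] V :=
  proj ρ (zf Q (perp2 Q H e f) e) (wch Q (perp2 Q H e f) d)

/-- `X` is stable under the Siegel transformations inside `H`. -/
def Stb (X : Submodule ℂ V) (H : Submodule F M) : Prop := ∀ g ∈ SH Q H, Stable ρ X g

variable {ρ}

theorem Stb.mono {X : Submodule ℂ V} {H K : Submodule F M} (h : Stb ρ X H) (hK : K ≤ H) :
    Stb ρ X K := fun g hg => h g (SH_mono hK hg)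

theorem Stb.stable_zf {X : Submodule ℂ V} {H : Submodule F M} (h : Stb ρ X H) {e f : M} (he : e ∈ H)
    (x : perp2 Q H e f) : Stable ρ X (zf Q _ e x) :=
  h _ (sg_mem_SH he (perp2_le x.2))

theorem wproj_mem {X : Submodule ℂ V} {H : Submodule F M} (h : Stb ρ X H) {e f : M} (he : e ∈ H)
    (hq : Q e = 0) (d : M) {v : V} (hv : v ∈ X) : wproj ρ H e f d v ∈ wsp ρ X H e f d :=
  proj_mem_inf ρ (zf_add hq) (fun x => h.stable_zf he x) _ hv

theorem eq_zero_of_wproj {H : Submodule F M} (hH : NDs Q H) {e f : M} (h : Hyp Q e f) (he : e ∈ H)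
    (hf : f ∈ H) {v : V} (hv : ∀ d ∈ perp2 Q H e f, wproj ρ H e f d v = 0) : v = 0 := by
  refine eq_zero_of_proj ρ (zf_add (H := H) (f := f) h.qe) fun ψ => ?_
  obtain ⟨d, hd, rfl⟩ := exists_wch (hH.perp2 h he hf) ψ
  exact hv d hd

theorem exists_wsp_ne_bot {X : Submodule ℂ V} {H : Submodule F M} (hH : NDs Q H) (hX : Stb ρ X H)
    {e f : M} (h : Hyp Q e f) (he : e ∈ H) (hf : f ∈ H) {v : V} (hv : v ∈ X) {x : M}
    (hx : x ∈ perp2 Q H e f) (hmove : ρ (sg Q e x) v ≠ v) :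
    ∃ d ∈ perp2 Q H e f, d ≠ 0 ∧ wsp ρ X H e f d ≠ ⊥ := by
  obtain ⟨ψ, hψ, hne⟩ := exists_char ρ (zf Q _ e) (zf_add (H := H) (f := f) h.qe) X
    (fun a => hX.stable_zf he a) hv (a₀ := ⟨x, hx⟩) hmove
  obtain ⟨d, hd, rfl⟩ := exists_wch (hH.perp2 h he hf) ψ
  exact ⟨d, hd, fun h0 => hψ (by rw [h0, wch_zero]), hne⟩

/-- An element of the stabiliser moves one weight space into another. -/
theorem wsp_move {X : Submodule ℂ V} {H : Submodule F M} {g : siegelGroup Q}
    (hg : g ∈ SH Q H) (hX : Stable ρ X g) {e f e' f' d : M} (hq : Q e = 0) {c : F} (hc : c ≠ 0)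
    (hge : g.1 e = c • e') (hgf : g.1 f = c⁻¹ • f') {v : V} (hv : v ∈ wsp ρ X H e f d) :
    ρ g v ∈ wsp ρ X H e' f' (c⁻¹ • g.1 d) := by
  obtain ⟨hvX, hv⟩ := (mem_wsp ρ).mp hv
  refine (mem_wsp ρ).mpr ⟨hX v hvX, fun x hx => ?_⟩
  obtain ⟨hxH, hxe, hxf⟩ := mem_perp2.mp hx
  set y := (g⁻¹).1 x with hy
  have hgy : g.1 y = x := apply_inv_self g x
  have hye : polar Q e y = 0 := by rw [← polar' g, hge, hgy, polar_smul_left', hxe, mul_zero]
  have hyf : polar Q f y = 0 := by rw [← polar' g, hgf, hgy, polar_smul_left', hxf, mul_zero]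
  have hycH : c⁻¹ • y ∈ perp2 Q H e f := mem_perp2.mpr
    ⟨H.smul_mem _ ((SH_props hg).2.1 x hxH), by rw [polar_smul_right', hye, mul_zero],
      by rw [polar_smul_right', hyf, mul_zero]⟩
  have he' : e' = c⁻¹ • g.1 e := by rw [hge, inv_smul_smul₀ hc]
  have key : sg Q e' x * g = g * sg Q e (c⁻¹ • y) := by
    rw [sg_mul_comm, map_smul, hgy]
    congr 1
    conv_lhs => rw [he', sg_smul_left (by rw [mem_orth', hq]) (by rw [← hgy, polar', hye]) c⁻¹]
  rw [← rho_mul, key, rho_mul, hv _ hycH, map_smul]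
  congr 2
  rw [polar_smul_left', ← hgy, polar', polar_smul_right']

theorem wsp_finrank_le [FiniteDimensional ℂ V] {X : Submodule ℂ V} {H : Submodule F M}
    {g : siegelGroup Q} (hg : g ∈ SH Q H) (hX : Stable ρ X g) {e f e' f' d : M} (hq : Q e = 0)
    {c : F} (hc : c ≠ 0) (hge : g.1 e = c • e') (hgf : g.1 f = c⁻¹ • f') :
    Module.finrank ℂ (wsp ρ X H e f d) ≤
      Module.finrank ℂ (wsp ρ X H e' f' (c⁻¹ • g.1 d)) :=
  LinearMap.finrank_le_finrank_of_injective
    (f := (ρ g).restrict fun _ hv => wsp_move hg hX hq hc hge hgf hv)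
    fun a b hab => Subtype.ext (rho_injective ρ g (congrArg Subtype.val hab))

end Rep

end CfsgLib.KnownA.OrthMinDeg
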